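import Cfsg.Agent.Chev.ReflT
import Cfsg.Agent.Chev.DataE6

/-! Reflection table and Coxeter presentation for type E6. -/

set_option autoImplicit false

namespace Cfsg.Agent.Chev

open Cfsg.Lie Cfsg.Lie.ChevalleyDatum

def tabSE6 : ℕ := nat_lit 0x47464543444240413e3f3d3b3c3a393837353633343230312f2e2c2d2b2a282927252623242122201e1f1d1c1a1b191816171513141112100f0e0d0b0c0a0809060705030402010047464445434142403f3d3e3c3a3b3938363735343233312f302e2d2b2c2a2927282422262125231f201e1d1b1c1a191718161415131210110f0e0c0d0b090a0807050604020301004745464443423f3e41403d3c3b393a3837343336353231302e2f2d2c2a2b262520292824231f1e2722211c1d1b1a181917161512111413100f0d0e0c0b0a0706090805040301020047464241404544433f3e3d3c3b3a383937363531302f3433322e2928271d2d2c2b2625242322211c1b1a2a201f1e191514131817161211100e0f0d0c0b0a0908040302070605010046474544434241403c3b3a3f3e3d39383736352d2c2b292827193433322a31302f2625242322211817161d1514132e201f1e1c1b1a1211100f0e0a09080d0c0b070605040302000147464544433736353433322d2c2b2a0f4241403f3e3d31302f2e3c3b3a39292827262524232221201f1e0e0d0c0b191817160a0908070605381d1c1b1a1514131211100403020100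

def reflE6 (i r : ℕ) : ℕ := fld tabSE6 (nat_lit 8) (nat_lit 255) (Nat.add (Nat.mul (nat_lit 72) i) r)

theorem reflOKE6 : reflOK chevE6.nroots chevE6.rank rcE6 caE6 reflE6 = true := by decide +kernel

theorem ssE6 (i : Nd chevE6) (r : Rt chevE6) : (certE6.ss i r : ℕ) = reflE6 i r :=
  certE6.refl_table certE6_rc dataOKE6 reflOKE6 i r

theorem cartanE6 (i : Nd chevE6) (r : Rt chevE6) : chevE6.cartan i r = caE6 i r :=
  (dataOK_spec dataOKE6).2.2 i i.2 r r.2

theorem coxCheckE6 : ∀ i j : Fin 6, (chevE6.cartan i (chevE6.simple j), chevE6.cartan j (chevE6.simple i)) ∈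
      [((2 : ℤ), (2 : ℤ)), (0, 0), (-1, -1), (-1, -2), (-2, -1), (-1, -3), (-3, -1)] ∧
      (chevE6.cartan i (chevE6.simple j) = 2 → i = j) ∧
      Cert.coxM (chevE6.cartan i (chevE6.simple j)) (chevE6.cartan j (chevE6.simple i)) = coxEnt CoxeterMatrix.E₆ i j := by
  decide +kernel

theorem coxE6 (C : Cert chevE6) :
    ∃ e : CoxeterMatrix.E₆.Group ≃* C.W, ∀ i, (e (CoxeterMatrix.E₆.simple i) : Equiv.Perm (Rt chevE6)) = C.ss i :=
  C.exists_coxEquiv' CoxeterMatrix.E₆ coxCheckE6

end Cfsg.Agent.Chev
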