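import Cfsg.Agent.Chev.ReflT
import Cfsg.Agent.Chev.DataE7

/-! Reflection table and Coxeter presentation for type E7. -/

set_option autoImplicit false

namespace Cfsg.Agent.Chev

open Cfsg.Lie Cfsg.Lie.ChevalleyDatum

def tabSE7 : ℕ := nat_lit 0x7d7c7b7a797778767573747270716e6f6d6c6a6b686967656664636162605f5e5d5c5a5b585957555654535152504f4e4c4d4b4a494748464543444240413e3f3c3d3b393a3837353634333230312f2e2d2b2c2a292728262425222321201f1e1d1b1c1a191718161415121311100e0f0c0d0b090a0807050604030201007d7c7b7a787977767475737172706f6d6e6b6c6a696768666465636260615f5e5d5b5c5a595758565455535250514f4e4d4b4c4a49484647454442433f3d413c403e3a3b393836373534333132302f2e2c2d2b2a282927252624232122201f1e1c1d1b1a1819171516141311120f100e0d0b0c0a080907060405030201007d7c7b797a787775767473726f6e71706d6c69686b6a676665636462615f605e5d5c59585b5a575655535452514f504e4d4c4a4b494847454641403b44433f3e3a39423d3c3738363534323331302f2d2e2c2b292a2827262322252421201f1d1e1c1b191a1817161312151411100d0c0f0e0b0a090708060503040201007d7c7a7b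797877767271707574736f6e6d6c6b6a666564696867636261605e5f5d5c5b5a565554595857535251504e4f4d4c4b494a4443423848474641403f3e3d3c373635453b3a3933343231302e2f2d2c2b2a262524292827232221201e1f1d1c1b1a161514191817131211100f0e0a09080d0c0b07060504020301007d7b7c7a797877767574736c6b6a6968677271706f6e6d666564636261605f5d5e5c5b5a5958575251504f565554534e48474645344d4c4b4a44434241403f3e3d3c3b3a393332313049383736352f2a2928272e2d2c2b2625242322211f201e1d1c1b1a191817100f0e0d0c0b1615141312110a090807060504030102007d7c7b767574737a7978777271706f6e6d6c6b6a6968676261605f666564635e5d5c5b5a5958574d4c4b4a484746452f56555453495251504f44434241403f3e3d3c3b3a392e2d2c2b342a2928274e3837363533323130262524232221201f1a1918171e1d1c1b161514131211100f0e0d0c0b060504030a0908070201007c7d7b7a797877767574737271706f6e6d5c5b5a595857565554534d4c4b4a49206c6b6a696867666564635251504f4e6261605f5e4847464544434241403f3e3d3c3b3a39383736351f1e1d1c1b2f2e2d2c2b1a1918171615141312115d34333231302a292827262524232221100f0e0d0c0b0a09080706050403020001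

def reflE7 (i r : ℕ) : ℕ := fld tabSE7 (nat_lit 8) (nat_lit 255) (Nat.add (Nat.mul (nat_lit 126) i) r)

theorem reflOKE7 : reflOK chevE7.nroots chevE7.rank rcE7 caE7 reflE7 = true := by decide +kernel

theorem ssE7 (i : Nd chevE7) (r : Rt chevE7) : (certE7.ss i r : ℕ) = reflE7 i r :=
  certE7.refl_table certE7_rc dataOKE7 reflOKE7 i r

theorem cartanE7 (i : Nd chevE7) (r : Rt chevE7) : chevE7.cartan i r = caE7 i r :=
  (dataOK_spec dataOKE7).2.2 i i.2 r r.2

theorem coxCheckE7 : ∀ i j : Fin 7, (chevE7.cartan i (chevE7.simple j), chevE7.cartan j (chevE7.simple i)) ∈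
      [((2 : ℤ), (2 : ℤ)), (0, 0), (-1, -1), (-1, -2), (-2, -1), (-1, -3), (-3, -1)] ∧
      (chevE7.cartan i (chevE7.simple j) = 2 → i = j) ∧
      Cert.coxM (chevE7.cartan i (chevE7.simple j)) (chevE7.cartan j (chevE7.simple i)) = coxEnt CoxeterMatrix.E₇ i j := by
  decide +kernel

theorem coxE7 (C : Cert chevE7) :
    ∃ e : CoxeterMatrix.E₇.Group ≃* C.W, ∀ i, (e (CoxeterMatrix.E₇.simple i) : Equiv.Perm (Rt chevE7)) = C.ss i :=
  C.exists_coxEquiv' CoxeterMatrix.E₇ coxCheckE7

end Cfsg.Agent.Chev
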