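import Cfsg.Agent.Chev.Sound
import Cfsg.Prelude.Def_ChevG2

/-! Packed tables and kernel checks for type G2. -/

set_option autoImplicit false

namespace Cfsg.Agent.Chev

open Cfsg.Lie Cfsg.Lie.ChevalleyDatum


def cinvG2 (i j : ℕ) : ℤ := (([[2, 3], [1, 2]] : List (List ℤ)).getD i []).getD j 0

def tabTG2 : ℕ := nat_lit 0xafc00009fc20106040000000000000000000002ff000027f00001c10000141000000000002fd0af4000000020207f800004040c100000000b0c000090800007fc183000013e00000bf00000000a0c27e000023f0000000050c0c202fc00000002c100000000804000000000004fc000000007f0a0400000001c1000000000000ff000000000fc000000024108f81bd00000000304000020807d00000000904000070800005f410100000be000003d000000008fc1ff000010203f80000000043000c000000000006fc00004fc0000204000000400000000000000000000017f03fc0810000041000000000000000000000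

def tabKG2 : ℕ := nat_lit 0x1000000000621000000000611000000000411000000000211000000000201000000000010fffffffffff0fffffffffe00fffffffffdf0fffffffffbf0fffffffff9f0fffffffff9e

def tabLG2 : ℕ := nat_lit 0xf57d5f

def tabMG2 : ℕ := nat_lit 0xffffffffffffffffffffffffffffffffffffffffff

def tabRcG2 : ℕ := nat_lit 0xab9b9a998998788777767565

def tabCoG2 : ℕ := nat_lit 0xa999bab98998788757567767

def tabCaG2 : ℕ := nat_lit 0x97897a6978978b97a5b69758

def rowRG2 (r : ℕ) : ℕ := fld tabTG2 (nat_lit 168) tabMG2 r

def codeKG2 (r : ℕ) : ℕ := fld tabKG2 (nat_lit 48) (nat_lit 0xffffffffffff) r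

def lenG2 (r : ℕ) : ℕ := fld tabLG2 (nat_lit 2) (nat_lit 3) r

def rcG2 (r i : ℕ) : ℤ := sfld tabRcG2 (Nat.add (Nat.mul (nat_lit 2) r) i)

def coG2 (r i : ℕ) : ℤ := sfld tabCoG2 (Nat.add (Nat.mul (nat_lit 2) r) i)

def caG2 (i r : ℕ) : ℤ := sfld tabCaG2 (Nat.add (Nat.mul (nat_lit 12) i) r)

theorem dataOKG2 : dataOK chevG2 coG2 caG2 = true := by decide +kernel

theorem rootOKG2 : rootOK chevG2.nroots chevG2.rank 17592186044416 chevG2.simple rcG2 coG2 caG2 codeKG2 lenG2 = true := by
  decide +kernel

theorem nodeOKG2 : nodeOK chevG2.nroots chevG2.rank chevG2.simple rcG2 caG2 cinvG2 lenG2 1 = true := by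
  decide +kernel

theorem tableOKG2 : tableOK chevG2 2 rowRG2 codeKG2 lenG2 17592186044416 = true := by decide +kernel

theorem jacSpG2 : allLt chevG2.rank (fun i => jacSpecial chevG2.nroots chevG2.rank coG2 caG2 rowRG2 (chevG2.simple i)) = true := by
  decide +kernel

theorem decompOKG2 : decompOK chevG2.nroots chevG2.rank chevG2.simple rowRG2 = true := by decide +kernel

theorem commOKG2 : commOK chevG2 = true := by decide +kernel

theorem jacMainG2_0 : jacMain chevG2.nroots rowRG2 (chevG2.simple 0) = true := by decide +kernel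

theorem jacMainG2_1 : jacMain chevG2.nroots rowRG2 (chevG2.simple 1) = true := by decide +kernel

theorem jacMainG2 : ∀ i < chevG2.rank, jacMain chevG2.nroots rowRG2 (chevG2.simple i) = true := by
  intro i hi
  have hi' : i < 2 := hi
  interval_cases i
  · exact jacMainG2_0
  · exact jacMainG2_1

/-- The certificate of type G2. -/
noncomputable def certG2 : Cert chevG2 :=
  mkCert chevG2 2 rowRG2 codeKG2 lenG2 17592186044416 rcG2 coG2 caG2 cinvG2 1 (by norm_num)
    dataOKG2 rootOKG2 nodeOKG2 tableOKG2 jacMainG2 jacSpG2 decompOKG2 (commOK_spec commOKG2)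

theorem certG2_rc (r : Rt chevG2) (i : Nd chevG2) : certG2.rc r i = rcG2 r i := rfl
theorem certG2_len (r : Rt chevG2) : certG2.len r = lenG2 r := rfl
theorem certG2_cdet : certG2.cdet = 1 := rfl

end Cfsg.Agent.Chev
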