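import Cfsg.Agent.Chev.Out
import Cfsg.Agent.Chev.Fix2
import Cfsg.Agent.Chev.ReflB2
import Cfsg.Agent.Chev.ReflD4
import Cfsg.Agent.Chev.ReflE6
import Cfsg.Agent.Chev.ReflE7
import Cfsg.Agent.Chev.ReflE8
import Cfsg.Agent.Chev.ReflF4
import Cfsg.Agent.Chev.ReflG2

/-!
Poincaré polynomials of the Weyl groups and the orders of the finite Chevalley groups.
-/

set_option autoImplicit false
set_option linter.unusedSimpArgs false
set_option linter.unusedVariables false

attribute [-simp] zsmul_eq_mul nsmul_eq_mul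

namespace Cfsg.Agent.Chev

open Cfsg.Lie Cfsg.Lie.ChevalleyDatum Equiv

namespace Cert

variable {D : ChevalleyDatum} (C : Cert D)

open Classical in
/-- the elements of a parabolic subgroup of the Weyl group -/
noncomputable def WF (J : Set (Nd D)) : Finset (Perm (Rt D)) := Finset.univ.filter fun w => w ∈ C.WJ J

theorem mem_WF {J : Set (Nd D)} {w : Perm (Rt D)} : w ∈ C.WF J ↔ w ∈ C.WJ J := by simp [WF]

/-- Poincaré polynomial -/
noncomputable def PW {R : Type*} [CommSemiring R] (J : Set (Nd D)) (q : R) : R := ∑ w ∈ C.WF J, q ^ C.ln w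

theorem PW_empty {R : Type*} [CommSemiring R] (q : R) : C.PW ∅ q = 1 := by
  have : C.WF ∅ = {1} := by ext w; simp [mem_WF, WJ_empty]
  simp [PW, this, ln_one]

theorem PW_cast (J : Set (Nd D)) (q : ℕ) : ((C.PW J q : ℕ) : ℤ) = C.PW J (q : ℤ) := by simp [PW]

variable {C} in
theorem mem_WJ_of_fix {J : Set (Nd D)} {r : Rt D} (hd : ∀ j ∈ J, 0 ≤ C.A (C.sp j) r) {w : Perm (Rt D)}
    (hw : w ∈ C.WJ J) (h : w r = r) : w ∈ C.WJ {j | j ∈ J ∧ C.A (C.sp j) r = 0} := by
  refine C.WJ_mono ?_ (dom_unique (f := C.prL r) (fun j hj => ?_) hw fun j hj => ?_)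
  · rintro j ⟨hj, h2⟩
    rw [C.prL_rc] at h2
    exact ⟨hj, C.A_eq_zero_comm.1 h2⟩
  · rw [C.prL_rc]; exact C.A_nonneg_comm.1 (hd j hj)
  · have := Aut.A_map (C.WJ_le_Aut J hw) r (C.sp j)
    rw [h] at this
    rw [C.prL_rc, this]; exact C.A_nonneg_comm.1 (hd j hj)

variable {C} in
theorem fix_of_mem_WJ {J : Set (Nd D)} {r : Rt D} (hd : ∀ j ∈ J, C.A (C.sp j) r = 0) {w : Perm (Rt D)}
    (hw : w ∈ C.WJ J) : w r = r := by
  refine C.WJ_induction_right (P := fun w => w r = r) rfl (fun w hw j hj ih => ?_) hw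
  rw [Perm.mul_apply, ss_apply, C.refl_of_A_zero (hd j hj), ih]

theorem PW_step {R : Type*} [CommSemiring R] (q : R) {J : Set (Nd D)} {r : Rt D} (hd : ∀ j ∈ J, 0 ≤ C.A (C.sp j) r)
    (O : Finset (Rt D)) (hO : ∀ w ∈ C.WJ J, ∀ s ∈ O, w s ∈ O) (hr : r ∈ O)
    (hu : ∀ s ∈ O, (∀ j ∈ J, 0 ≤ C.A (C.sp j) s) → s = r) (nf : Rt D → ℕ) (h0 : nf r = 0)
    (h1 : ∀ s ∈ O, ∀ j ∈ J, 0 < C.A (C.sp j) s → nf (C.ss j s) = nf s + 1) :
    C.PW J q = (∑ s ∈ O, q ^ nf s) * C.PW {j | j ∈ J ∧ C.A (C.sp j) r = 0} q := by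
  classical
  have key : ∀ k : ℕ, ∀ s ∈ O, D.nroots - s ≤ k → ∃ d ∈ C.WJ J, d r = s ∧
      (∀ j ∈ J, C.A (C.sp j) r = 0 → C.Pos (d (C.sp j))) ∧ C.ln d = nf s := by
    intro k
    induction k with
    | zero => intro s _ h; have := s.2; omega
    | succ k ih =>
      intro s hs h
      by_cases h2 : ∀ j ∈ J, 0 ≤ C.A (C.sp j) s
      · obtain rfl := hu s hs h2
        exact ⟨1, one_mem _, rfl, fun j _ _ => C.pos_sp j, by rw [ln_one, h0]⟩
      push Not at h2
      obtain ⟨j, hj, h3⟩ := h2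
      have h4 : s < C.ss j s := by
        rw [← ordL_lt_iff (C := C), ss_apply, rc_refl, map_sub, map_smul, smul_eq_mul]
        have := ordL_pos (C.pos_sp j)
        nlinarith
      have h5 : 0 < C.A (C.sp j) (C.ss j s) := by rw [ss_apply, A_refl_self]; omega
      obtain ⟨d, hd1, hd2, hd3, hd4⟩ := ih (C.ss j s) (hO _ (C.ss_mem_WJ hj) s hs) (by
        have : (s : ℕ) < C.ss j s := h4
        omega)
      have hA := C.WJ_le_Aut J hd1
      have h6 : 0 < C.A (d⁻¹ (C.sp j)) r := by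
        rw [← Aut.A_map hA, hd2]; simpa using h5
      have h7 : C.Pos (d⁻¹ (C.sp j)) := by
        by_contra h8
        have h9 := nonneg_of_dom (J := J) (f := C.prL r) (fun j hj => by
          rw [C.prL_rc]; exact C.A_nonneg_comm.1 (hd j hj)) ((C.pos_rev_iff _).2 h8)
          (C.inJ_rev.2 ((inJ_map (inv_mem hd1) _).2 (C.inJ_sp.2 hj)))
        rw [C.prL_rc, A_rev_right] at h9
        have := C.A_pos_comm.1 h6
        omega
      refine ⟨C.ss j * d, mul_mem (C.ss_mem_WJ hj) hd1, by rw [Perm.mul_apply, hd2, ss_ss], fun i hi h8 => ?_, ?_⟩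
      · rw [Perm.mul_apply, ss_apply]
        refine C.pos_refl_sp (hd3 i hi h8) fun e => ?_
        rw [← e, Perm.coe_inv, symm_apply_apply] at h6
        omega
      · rw [Aut.ln_ss_mul_of_pos hA h7, hd4, ← h1 _ (hO _ (C.ss_mem_WJ hj) s hs) j hj h5, ss_ss]
  rw [PW, ← Finset.sum_fiberwise_of_maps_to (t := O) (g := fun w => w r)
    (fun w hw => hO w (C.mem_WF.1 hw) r hr), Finset.sum_mul]
  refine Finset.sum_congr rfl fun s hs => ?_
  obtain ⟨d, hd1, hd2, hd3, hd4⟩ := key _ s hs le_rfl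
  rw [PW, Finset.mul_sum]
  symm
  refine Finset.sum_bij (fun v _ => d * v) (fun v hv => ?_) (fun a _ b _ h => mul_left_cancel h) (fun w hw => ?_)
    fun v hv => ?_
  · rw [mem_WF] at hv
    rw [Finset.mem_filter, mem_WF, Perm.mul_apply, fix_of_mem_WJ (fun j hj => hj.2) hv]
    exact ⟨mul_mem hd1 (C.WJ_mono (fun j hj => hj.1) hv), hd2⟩
  · rw [Finset.mem_filter, mem_WF] at hw
    refine ⟨d⁻¹ * w, C.mem_WF.2 (mem_WJ_of_fix hd (mul_mem (inv_mem hd1) hw.1) ?_), by simp⟩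
    rw [Perm.mul_apply, hw.2, ← hd2]; simp
  · rw [ln_min_mul (C.WJ_le_Aut J hd1) (fun j hj => hd3 j hj.1 hj.2) (C.mem_WF.1 hv), pow_add, hd4]

end Cert

/-- membership in the orbit -/
def inO (l : ℕ) (rc : ℕ → ℕ → ℤ) (len : ℕ → ℕ) (m r s : ℕ) : Bool :=
  len s == len r && (List.range l).all fun i => m.testBit i || rc s i == rc r i

/-- check of a chain of parabolic subgroups -/
def pwOK (n l : ℕ) (rc ca : ℕ → ℕ → ℤ) (len : ℕ → ℕ) (f : ℕ → ℕ → ℕ) : ℕ → List (ℕ × ℕ × ℕ) → Bool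
  | m, [] => m == 0
  | m, x :: L => decide (x.1 < n) && fld x.2.2 8 255 x.1 == 0 &&
      ((List.range l).all fun j => x.2.1.testBit j == (m.testBit j && ca j x.1 == 0) &&
        (!m.testBit j || decide (0 ≤ ca j x.1))) &&
      ((List.range n).all fun s => !inO l rc len m x.1 s ||
        ((s == x.1 || (List.range l).any fun j => m.testBit j && decide (ca j s < 0)) &&
          (List.range l).all fun j => !m.testBit j || !decide (0 < ca j s) ||
            fld x.2.2 8 255 (f j s) == fld x.2.2 8 255 s + 1)) &&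
      pwOK n l rc ca len f x.2.1 L

/-- exponents along a chain -/
def pwE (n l : ℕ) (rc : ℕ → ℕ → ℤ) (len : ℕ → ℕ) : ℕ → List (ℕ × ℕ × ℕ) → List (List ℕ)
  | _, [] => []
  | m, x :: L => (((List.range n).filter (inO l rc len m x.1)).map (fld x.2.2 8 255)) :: pwE n l rc len x.2.1 L

namespace Cert

variable {D : ChevalleyDatum} (C : Cert D)

theorem PW_chain {R : Type*} [CommSemiring R] (q : R) {rc ca : ℕ → ℕ → ℤ} {len : ℕ → ℕ} {f : ℕ → ℕ → ℕ}
    (h1 : ∀ (r : Rt D) (i : Nd D), C.rc r i = rc r i) (h2 : ∀ r : Rt D, C.len r = len r)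
    (h3 : ∀ (i : Nd D) (r : Rt D), D.cartan i r = ca i r) (h4 : ∀ (i : Nd D) (r : Rt D), (C.ss i r : ℕ) = f i r)
    (L : List (ℕ × ℕ × ℕ)) (m : ℕ) (h : pwOK D.nroots D.rank rc ca len f m L = true) :
    C.PW {i | m.testBit i} q = ((pwE D.nroots D.rank rc len m L).map fun e => (e.map fun k => q ^ k).sum).prod := by
  classical
  induction L generalizing m with
  | nil =>
    obtain rfl : m = 0 := by simpa [pwOK] using h
    simp [pwE, PW_empty]
  | cons x L ih =>
    simp only [pwOK, Bool.and_eq_true, decide_eq_true_eq, List.all_eq_true, List.mem_range,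
      Bool.or_eq_true, Bool.not_eq_true', beq_iff_eq, List.any_eq_true, decide_eq_false_iff_not] at h
    obtain ⟨⟨⟨⟨a1, a2⟩, a3⟩, a4⟩, a5⟩ := h
    have hin : ∀ s : Rt D, inO D.rank rc len m x.1 s = true ↔
        C.len s = C.len ⟨x.1, a1⟩ ∧ ∀ i : Nd D, ¬ m.testBit i → C.rc s i = C.rc ⟨x.1, a1⟩ i := by
      intro s
      simp only [inO, Bool.and_eq_true, beq_iff_eq, List.all_eq_true, List.mem_range, Bool.or_eq_true, h1, h2,
        Nat.cast_inj]
      exact and_congr_right fun _ => ⟨fun h i hi => (h i i.2).resolve_left hi, fun h i hi => (em _).imp id (h ⟨i, hi⟩)⟩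
    refine (C.PW_step q (J := {i | m.testBit i}) (r := ⟨x.1, a1⟩) (fun j hj => ?_)
      (Finset.univ.filter fun s : Rt D => inO D.rank rc len m x.1 s = true) (fun w hw s hs => ?_) ?_ (fun s hs hd => ?_)
      (fun s => fld x.2.2 8 255 s) a2 (fun s hs j hj hp => ?_)).trans ?_
    rotate_right
    · rw [pwE, List.map_cons, List.prod_cons, ← ih _ a5]
      congr 1
      · rw [Finset.sum_filter, Fin.sum_univ_eq_sum_range
          (fun s => if inO D.rank rc len m x.1 s = true then q ^ fld x.2.2 8 255 s else 0), ← Finset.sum_filter,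
          List.map_map]
        rw [← List.sum_toFinset _ (List.nodup_range.filter _)]
        congr 1
        ext s; simp
      · congr 1
        ext j
        have := (a3 j j.2).1
        simp only [Set.mem_ofPred_eq, this, A_sp, h3 j ⟨x.1, a1⟩, Bool.and_eq_true, beq_iff_eq]
    · rw [A_sp, h3]; exact (a3 j j.2).2.resolve_left (by simpa using hj)
    · rw [Finset.mem_filter, hin] at hs ⊢
      exact ⟨Finset.mem_univ _, by rw [Aut.len_map (C.WJ_le_Aut _ hw), hs.2.1],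
        fun i hi => by rw [rc_WJ hw s hi, hs.2.2 i hi]⟩
    · rw [Finset.mem_filter, hin]; simp
    · rcases ((a4 s s.2).resolve_left (by simpa using (Finset.mem_filter.1 hs).2)).1 with h | ⟨j, hj, h5, h6⟩
      · exact Fin.ext h
      · have := hd ⟨j, hj⟩ h5
        rw [A_sp, h3] at this
        exact absurd h6 (by simpa using this)
    · have := ((a4 s s.2).resolve_left (by simpa using (Finset.mem_filter.1 hs).2)).2 j j.2
      rw [A_sp, h3] at hp
      rw [h4]
      exact this.resolve_left (by simpa [hp] using hj)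

theorem PW_of_chain {R : Type*} [CommSemiring R] {q : R} {rc ca : ℕ → ℕ → ℤ} {len : ℕ → ℕ} {f : ℕ → ℕ → ℕ}
    (h1 : ∀ (r : Rt D) (i : Nd D), C.rc r i = rc r i) (h2 : ∀ r : Rt D, C.len r = len r)
    (h3 : ∀ (i : Nd D) (r : Rt D), D.cartan i r = ca i r) (h4 : ∀ (i : Nd D) (r : Rt D), (C.ss i r : ℕ) = f i r)
    (L : List (ℕ × ℕ × ℕ)) (E : List (List ℕ)) (h : pwOK D.nroots D.rank rc ca len f (2 ^ D.rank - 1) L = true)
    (h' : pwE D.nroots D.rank rc len (2 ^ D.rank - 1) L = E) :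
    C.PW Set.univ q = (E.map fun e => (e.map fun k => q ^ k).sum).prod := by
  have e : {i : Nd D | (2 ^ D.rank - 1).testBit i = true} = Set.univ := by
    ext i; simp [Nat.testBit_two_pow_sub_one]
  rw [← e, C.PW_chain q h1 h2 h3 h4 L _ h, h']

end Cert

set_option maxRecDepth 4000 in
theorem PW_G2 {R : Type*} [CommRing R] (q : R) : certG2.PW Set.univ q * (q - 1) ^ 2 = (([2, 6] : List ℕ).map fun d => q ^ d - 1).prod := by
  rw [certG2.PW_of_chain certG2_rc certG2_len cartanG2 ssG2 [(9, 2, 0x10200000304050000), (1, 0, 0x1)]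
    [[5, 4, 3, 2, 1, 0], [1, 0]] (by decide +kernel) (by decide +kernel)]
  simp only [List.map, List.sum_cons, List.sum_nil, List.prod_cons, List.prod_nil]
  ring

set_option maxRecDepth 4000 in
theorem PW_B2 {R : Type*} [CommRing R] (q : R) : certB2.PW Set.univ q * (q - 1) ^ 2 = (([2, 4] : List ℕ).map fun d => q ^ d - 1).prod := by
  rw [certB2.PW_of_chain certB2_rc certB2_len cartanB2 ssB2 [(6, 1, 0x10000020300), (3, 0, 0x1)]
    [[3, 2, 1, 0], [1, 0]] (by decide +kernel) (by decide +kernel)]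
  simp only [List.map, List.sum_cons, List.sum_nil, List.prod_cons, List.prod_nil]
  ring

set_option maxRecDepth 4000 in
theorem PW_D4 {R : Type*} [CommRing R] (q : R) : certD4.PW Set.univ q * (q - 1) ^ 4 = (([2, 4, 4, 6] : List ℕ).map fun d => q ^ d - 1).prod := by
  rw [certD4.PW_of_chain certD4_rc certD4_len cartanD4 ssD4 [(23, 13, 0x102020304020303040404050505060607050607070809), (9, 0, 0x10102000102020300)]
    [[9, 8, 7, 7, 6, 5, 7, 6, 6, 5, 5, 5, 4, 4, 4, 3, 3, 2, 4, 3, 2, 2, 1, 0], [3, 2, 2, 1, 2, 1, 1, 0]] (by decide +kernel) (by decide +kernel)]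
  simp only [List.map, List.sum_cons, List.sum_nil, List.prod_cons, List.prod_nil]
  ring

set_option maxRecDepth 4000 in
theorem PW_F4 {R : Type*} [CommRing R] (q : R) : certF4.PW Set.univ q * (q - 1) ^ 4 = (([2, 6, 8, 12] : List ℕ).map fun d => q ^ d - 1).prod := by
  rw [certF4.PW_of_chain certF4_rc certF4_len cartanF4 ssF4 [(44, 14, 0x10203040405060700000005060700000000000008090a00000008090a0b0b0c0d0e0000000f000000), (6, 6, 0x10200030405), (5, 2, 0x100020300), (4, 0, 0x10000)]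
    [[15, 14, 13, 12, 11, 11, 10, 9, 8, 10, 9, 8, 7, 6, 5, 7, 6, 5, 4, 4, 3, 2, 1, 0], [5, 4, 3, 2, 1, 0], [3, 2, 1, 0], [1, 0]] (by decide +kernel) (by decide +kernel)]
  simp only [List.map, List.sum_cons, List.sum_nil, List.prod_cons, List.prod_nil]
  ring

set_option maxRecDepth 4000 in
theorem PW_E6 {R : Type*} [CommRing R] (q : R) : certE6.PW Set.univ q * (q - 1) ^ 6 = (([2, 5, 6, 8, 9, 12] : List ℕ).map fun d => q ^ d - 1).prod := by
  rw [certE6.PW_of_chain certE6_rc certE6_len cartanE6 ssE6 [(71, 61, 0x1020304030405050607060708090a0405060607080708090a0708090a08090a090a0a0b0b0c0b0c0d0b0c0d0e0b0c0d0e0d0e0f0f10110b0c0d0e0f0e0f101011121112131415), (25, 53, 0x1020302030404050600000000000304050506070607080900), (18, 20, 0x10200000000000000000102030203040000), (7, 16, 0x100000000), (3, 0, 0x10000)]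
    [[21, 20, 19, 18, 17, 18, 17, 16, 16, 15, 14, 15, 14, 13, 12, 11, 17, 16, 15, 15, 14, 13, 14, 13, 12, 11, 14, 13, 12, 11, 13, 12, 11, 12, 11, 11, 10, 10, 9, 10, 9, 8, 10, 9, 8, 7, 10, 9, 8, 7, 8, 7, 6, 6, 5, 4, 10, 9, 8, 7, 6, 7, 6, 5, 5, 4, 3, 4, 3, 2, 1, 0], [9, 8, 7, 6, 7, 6, 5, 5, 4, 3, 6, 5, 4, 4, 3, 2, 3, 2, 1, 0], [4, 3, 2, 3, 2, 1, 2, 1, 0], [1, 0], [1, 0]] (by decide +kernel) (by decide +kernel)]
  simp only [List.map, List.sum_cons, List.sum_nil, List.prod_cons, List.prod_nil]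
  ring

set_option maxRecDepth 4000 in
theorem PW_E7 {R : Type*} [CommRing R] (q : R) : certE7.PW Set.univ q * (q - 1) ^ 7 = (([2, 6, 8, 10, 12, 14, 18] : List ℕ).map fun d => q ^ d - 1).prod := by
  rw [certE7.PW_of_chain certE7_rc certE7_len cartanE7 ssE7 [(125, 126, 0x102030405060405060706070808090a070809090a0b0a0b0c0d0b0c0d0e0f1008090a0a0b0c0b0c0d0e0c0d0e0f100c0d0e0f100d0e0f100e0f100f10101111121112131112131411121314151112131415131415161516171718191112131415161415161716171818191a171819191a1b1a1b1c1d1b1c1d1e1f2021), (32, 122, 0x1020304050304050605060707080906070808090a090a0b0c0a0b0c0d0e0f00), (16, 90, 0x1020203040304050604050607080000), (11, 82, 0x10200000203040000), (8, 64, 0x100000102000000), (6, 0, 0x10000000000)]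
    [[33, 32, 31, 30, 29, 28, 27, 29, 28, 27, 26, 27, 26, 25, 25, 24, 23, 26, 25, 24, 24, 23, 22, 23, 22, 21, 20, 22, 21, 20, 19, 18, 17, 25, 24, 23, 23, 22, 21, 22, 21, 20, 19, 21, 20, 19, 18, 17, 21, 20, 19, 18, 17, 20, 19, 18, 17, 19, 18, 17, 18, 17, 17, 16, 16, 15, 16, 15, 14, 16, 15, 14, 13, 16, 15, 14, 13, 12, 16, 15, 14, 13, 12, 14, 13, 12, 11, 12, 11, 10, 10, 9, 8, 16, 15, 14, 13, 12, 11, 13, 12, 11, 10, 11, 10, 9, 9, 8, 7, 10, 9, 8, 8, 7, 6, 7, 6, 5, 4, 6, 5, 4, 3, 2, 1, 0], [15, 14, 13, 12, 11, 10, 12, 11, 10, 9, 10, 9, 8, 8, 7, 6, 9, 8, 7, 7, 6, 5, 6, 5, 4, 3, 5, 4, 3, 2, 1, 0], [8, 7, 6, 5, 4, 6, 5, 4, 3, 4, 3, 2, 2, 1, 0], [4, 3, 2, 2, 1, 0], [2, 1, 1, 0], [1, 0]] (by decide +kernel) (by decide +kernel)]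
  simp only [List.map, List.sum_cons, List.sum_nil, List.prod_cons, List.prod_nil]
  ring

set_option maxRecDepth 4000 in
theorem PW_E8 {R : Type*} [CommRing R] (q : R) : certE8.PW Set.univ q * (q - 1) ^ 8 = (([2, 8, 12, 14, 18, 20, 24, 30] : List ℕ).map fun d => q ^ d - 1).prod := by
  rw [certE8.PW_of_chain certE8_rc certE8_len cartanE8 ssE8 [(239, 127, 0x10203040506060708090a0b0c0708090a0b0c0d0a0b0c0d0e0c0d0e0f0e0f101011120d0e0f100f101111121310111212131413141516111213131415141516171516171819161718191a1b1c12131414151615161718161718191a1718191a1b1c1718191a1b1c18191a1b1c191a1b1c1a1b1c1b1c1c1d1d1e1d1e1f1d1e1f201d1e1f20211d1e1f2021221d1e1f2021221f20212223212223242324252526271d1e1f202122232021222324222324252425262627282324252625262727282926272828292a292a2b2c272829292a2b2a2b2c2d2b2c2d2e2f2c2d2e2f3031322d2e2f3031323333343536373839), (119, 63, 0x100000200000003000000000400000000000500000000000500000000060000000700000800090a00000000000006000000000700000008000009000a0b0000000900000a000b0c00000b000c0d000d0e0f00000c000d0e000e0f10000f1011120010111213141500111213141516161718191a1b00),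 (78, 62, 0x1000000000000000000020000000000030000040500000000000400000506000006070800000708090a0b000008090a0b0c0c0d0e0f100000), (11, 30, 0x102030404050607080000), (10, 14, 0x1020303040506000000), (21, 10, 0x102030000000000000000000000000000), (7, 8, 0x10200000000), (5, 0, 0x100000000)]
    [[57, 56, 55, 54, 53, 52, 51, 51, 50, 49, 48, 47, 46, 45, 50, 49, 48, 47, 46, 45, 44, 47, 46, 45, 44, 43, 45, 44, 43, 42, 43, 42, 41, 41, 40, 39, 44, 43, 42, 41, 42, 41, 40, 40, 39, 38, 41, 40, 39, 39, 38, 37, 38, 37, 36, 35, 40, 39, 38, 38, 37, 36, 37, 36, 35, 34, 36, 35, 34, 33, 32, 35, 34, 33, 32, 31, 30, 29, 39, 38, 37, 37, 36, 35, 36, 35, 34, 33, 35, 34, 33, 32, 31, 34, 33, 32, 31, 30, 29, 34, 33, 32, 31, 30, 29, 33, 32, 31, 30, 29, 32, 31, 30, 29, 31, 30, 29, 30, 29, 29, 28, 28, 27, 28, 27, 26, 28, 27, 26, 25, 28, 27, 26, 25, 24, 28, 27, 26, 25, 24, 23, 28, 27, 26, 25, 24, 23, 26, 25, 24, 23, 22, 24, 23, 22, 21, 22, 21, 20, 20, 19, 18,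 28, 27, 26, 25, 24, 23, 22, 25, 24, 23, 22, 21, 23, 22, 21, 20, 21, 20, 19, 19, 18, 17, 22, 21, 20, 19, 20, 19, 18, 18, 17, 16, 19, 18, 17, 17, 16, 15, 16, 15, 14, 13, 18, 17, 16, 16, 15, 14, 15, 14, 13, 12, 14, 13, 12, 11, 10, 13, 12, 11, 10, 9, 8, 7, 12, 11, 10, 9, 8, 7, 6, 6, 5, 4, 3, 2, 1, 0], [27, 26, 25, 24, 23, 22, 22, 21, 20, 19, 18, 17, 21, 20, 19, 18, 17, 16, 18, 17, 16, 15, 16, 15, 14, 14, 13, 12, 15, 14, 13, 13, 12, 11, 12, 11, 10, 9, 11, 10, 9, 8, 7, 6, 10, 9, 8, 7, 6, 5, 5, 4, 3, 2, 1, 0], [16, 15, 14, 13, 12, 12, 11, 10, 9, 8, 11, 10, 9, 8, 7, 8, 7, 6, 6, 5, 4, 5, 4, 3, 2, 1, 0], [8, 7, 6, 5, 4, 4, 3, 2, 1, 0], [6, 5, 4, 3, 3, 2, 1, 0], [3, 2, 1, 0], [2, 1, 0], [1, 0]] (by decide +kernel) (by decide +kernel)]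
  simp only [List.map, List.sum_cons, List.sum_nil, List.prod_cons, List.prod_nil]
  ring

/-- the types with the degrees of their Weyl groups -/
abbrev degList : List (ChevalleyDatum × List ℕ) :=
  [(chevG2, [2, 6]), (chevB2, [2, 4]), (chevD4, [2, 4, 4, 6]), (chevF4, [2, 6, 8, 12]),
    (chevE6, [2, 5, 6, 8, 9, 12]), (chevE7, [2, 6, 8, 10, 12, 14, 18]), (chevE8, [2, 8, 12, 14, 18, 20, 24, 30])]

theorem Cert.PW_congr {D : ChevalleyDatum} (C C' : Cert D) {R : Type*} [CommSemiring R] (q : R) :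
    C.PW Set.univ q = C'.PW Set.univ q := by
  have h1 : ∀ r, C.Pos r ↔ C'.Pos r := fun r => by rw [C.pos_iff_val, C'.pos_iff_val]
  have h2 : C.ss = C'.ss := by
    funext i; ext r
    congr 1
    apply C.cr_inj
    intro j
    rw [Cert.ss_apply, Cert.ss_apply, Cert.cr_refl]
    exact (C'.cr_refl _ _ j).symm
  have h3 : C.WF Set.univ = C'.WF Set.univ := by
    ext w; rw [Cert.mem_WF, Cert.mem_WF, Cert.WJ, Cert.WJ, h2]
  rw [Cert.PW, Cert.PW, h3]
  refine Finset.sum_congr rfl fun w _ => ?_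
  refine congrArg (fun s : Finset (Rt D) => q ^ s.card) ?_
  ext r; rw [Cert.mem_inv, Cert.mem_inv, h1, h1]

theorem PW_of_mem {c : ChevalleyDatum × List ℕ} (hc : c ∈ degList) (C : Cert c.1) {R : Type*} [CommRing R] (q : R) :
    C.PW Set.univ q * (q - 1) ^ c.1.rank = (c.2.map fun d => q ^ d - 1).prod := by
  simp only [List.mem_cons, List.not_mem_nil, or_false] at hc
  rcases hc with rfl | rfl | rfl | rfl | rfl | rfl | rfl
  · rw [C.PW_congr certG2]; exact PW_G2 q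
  · rw [C.PW_congr certB2]; exact PW_B2 q
  · rw [C.PW_congr certD4]; exact PW_D4 q
  · rw [C.PW_congr certF4]; exact PW_F4 q
  · rw [C.PW_congr certE6]; exact PW_E6 q
  · rw [C.PW_congr certE7]; exact PW_E7 q
  · rw [C.PW_congr certE8]; exact PW_E8 q

theorem mem_of_mem_degList {c : ChevalleyDatum × List ℕ} (hc : c ∈ degList) :
    c.1 ∈ [chevG2, chevB2, chevD4, chevF4, chevE6, chevE7, chevE8] := by
  simp only [List.mem_cons, List.not_mem_nil, or_false] at hc
  rcases hc with rfl | rfl | rfl | rfl | rfl | rfl | rfl <;> simp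

theorem Cert.card_WJ {D : ChevalleyDatum} (C : Cert D) (J : Set (Nd D)) : Nat.card (C.WJ J) = C.PW J 1 := by
  simp only [Cert.PW, one_pow, Finset.sum_const, smul_eq_mul, mul_one]
  rw [← Nat.card_eq_finsetCard]
  exact Nat.card_congr (Equiv.subtypeEquivRight fun w => C.mem_WF.symm)

theorem card_W_of_mem {c : ChevalleyDatum × List ℕ} (hc : c ∈ degList) (C : Cert c.1) : Nat.card C.W = c.2.prod := by
  have h := PW_of_mem hc C (Polynomial.X : Polynomial ℤ)
  have h1 : c.1.rank = c.2.length := by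
    simp only [List.mem_cons, List.not_mem_nil, or_false] at hc
    rcases hc with rfl | rfl | rfl | rfl | rfl | rfl | rfl <;> rfl
  have h2 : ∀ l : List ℕ, (l.map fun d => (Polynomial.X : Polynomial ℤ) ^ d - 1).prod =
      (l.map fun d => ∑ i ∈ Finset.range d, (Polynomial.X : Polynomial ℤ) ^ i).prod * (Polynomial.X - 1) ^ l.length := by
    intro l
    induction l with
    | nil => simp
    | cons d l ih => rw [List.map_cons, List.prod_cons, ih, ← geom_sum_mul]; simp only [List.map_cons, List.prod_cons, List.length_cons]; ring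
  rw [h2, h1] at h
  have h3 := congrArg (Polynomial.evalRingHom 1) (mul_right_cancel₀ (pow_ne_zero _ (Polynomial.X_sub_C_ne_zero 1)) h)
  rw [map_list_prod, List.map_map] at h3
  rw [Cert.W, C.card_WJ]
  zify
  rw [C.PW_cast]
  convert h3 using 1
  · simp [Cert.PW, map_sum]
  · congr 1
    refine List.map_congr_left fun d _ => ?_
    simp [Polynomial.eval_finsetSum]

namespace Sys

variable {D : ChevalleyDatum} {C : Cert D} {F : Type*} [Field F] {G : Type*} [Group G] (S : Sys C F G)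

theorem card_B : Nat.card S.B = Nat.card S.Up * Nat.card S.H := by
  rw [← Nat.card_prod]
  refine (Nat.card_congr (Equiv.ofBijective (fun p : S.Up × S.H =>
    (⟨p.1 * p.2, mul_mem (S.Up_le_B p.1.2) (S.H_le_B p.2.2)⟩ : S.B)) ⟨?_, ?_⟩)).symm
  · rintro ⟨u, a⟩ ⟨v, b⟩ h
    have h1 : (u : G) * a = v * b := congrArg Subtype.val h
    have h2 : (v : G)⁻¹ * u = b * a⁻¹ := by
      rw [inv_mul_eq_iff_eq_mul, ← mul_assoc, ← h1]; simp
    have h3 := S.eq_one_of_mem_Up_H (mul_mem (inv_mem v.2) u.2) (h2 ▸ mul_mem b.2 (inv_mem a.2))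
    rw [h3] at h2
    rw [inv_mul_eq_one] at h3
    exact Prod.ext (Subtype.ext h3.symm) (Subtype.ext (mul_inv_eq_one.1 h2.symm).symm)
  · rintro ⟨b, hb⟩
    obtain ⟨u, hu, a, ha, rfl⟩ := S.mem_B.1 hb
    exact ⟨(⟨u, hu⟩, ⟨a, ha⟩), rfl⟩

theorem card_cell {w : Perm (Rt D)} (hw : w ∈ C.W) :
    Nat.card {g // S.Cell w g} = Nat.card S.B * Nat.card F ^ C.ln w := by
  obtain ⟨m, hm⟩ := S.exists_over hw
  rw [← S.card_Uw (C.W_le_Aut hw), ← Nat.card_prod]
  refine (Nat.card_congr (Equiv.ofBijective (fun p : S.B × S.Uw w =>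
    (⟨p.1 * m * p.2, cell_of p.1.2 hm (S.Up_le_B (S.Uw_le_Up w p.2.2))⟩ : {g // S.Cell w g})) ⟨?_, ?_⟩)).symm
  · rintro ⟨u, a⟩ ⟨v, b⟩ h
    obtain ⟨h1, h2⟩ := nf_unique hm u.2 v.2 a.2 b.2 (congrArg Subtype.val h)
    exact Prod.ext (Subtype.ext h1) (Subtype.ext h2)
  · rintro ⟨g, hg⟩
    obtain ⟨b, hb, u, hu, rfl⟩ := hg.exists_nf hm
    exact ⟨(⟨b, hb⟩, ⟨u, hu⟩), rfl⟩

theorem card_P [Finite G] (J : Set (Nd D)) : Nat.card (S.P J) = Nat.card S.B * C.PW J (Nat.card F) := by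
  classical
  have e : S.P J ≃ Σ w : C.WF J, {g // S.Cell w g} := (Equiv.ofBijective
    (fun p : Σ w : C.WF J, {g // S.Cell w g} => (⟨p.2.1, p.2.2.mem_P (C.mem_WF.1 p.1.2)⟩ : S.P J)) ⟨by
      rintro ⟨⟨w, hw⟩, g, hg⟩ ⟨⟨w', hw'⟩, g', hg'⟩ h
      obtain rfl : g = g' := congrArg Subtype.val h
      obtain rfl := hg.unique hg'
      rfl, by
      rintro ⟨g, hg⟩
      obtain ⟨w, hw, h⟩ := mem_P_iff.1 hg
      exact ⟨⟨⟨w, C.mem_WF.2 hw⟩, g, h⟩, rfl⟩⟩).symm
  rw [Nat.card_congr e, Nat.card_sigma, Cert.PW, Finset.mul_sum, ← Finset.sum_coe_sort (C.WF J)]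
  exact Finset.sum_congr rfl fun w _ => S.card_cell (C.WJ_le_W J (C.mem_WF.1 w.2))

theorem card_eq [Finite G] : Nat.card G = Nat.card S.B * C.PW Set.univ (Nat.card F) := by
  rw [← S.card_P, S.P_univ, Subgroup.card_top]

/-- the coordinates of the torus as a homomorphism -/
def hhHom (hφ : Function.Injective S.φ) : (Nd D → Fˣ) →* G :=
  MonoidHom.mk' S.hh fun a b => S.eq_of_chi hφ (S.hh_mem _) (mul_mem (S.hh_mem _) (S.hh_mem _)) fun i => by
    rw [chi_mul (S.hh_mem _) (S.hh_mem _), chi_hh, chi_hh, chi_hh, ← Finset.prod_mul_distrib]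
    simp [mul_zpow]

theorem hhHom_apply (hφ : Function.Injective S.φ) (t : Nd D → Fˣ) : S.hhHom hφ t = S.hh t := rfl

theorem range_hhHom (hφ : Function.Injective S.φ) : (S.hhHom hφ).range = S.H := by
  ext a
  exact ⟨by rintro ⟨t, rfl⟩; exact S.hh_mem t, fun ha => by
    obtain ⟨t, rfl⟩ := S.exists_hh hφ ha; exact ⟨t, rfl⟩⟩

theorem ker_hhHom (hφ : Function.Injective S.φ) : (S.hhHom hφ).ker = RGD.cenT (RGD.carM D) F := by
  ext t
  constructor
  · intro h k
    have h1 : S.hh t = 1 := h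
    have := S.chi_hh t (C.sp k)
    rw [h1, chi_one] at this
    simp only [C.A_sp] at this
    exact this.symm
  · intro h
    refine S.eq_of_chi hφ (S.hh_mem t) (one_mem _) fun k => ?_
    rw [hhHom_apply, chi_hh, chi_one]
    simp only [C.A_sp]
    exact h k

theorem card_H (hφ : Function.Injective S.φ) :
    Nat.card S.H * Nat.card (RGD.cenT (RGD.carM D) F) = (Nat.card F - 1) ^ D.rank := by
  have h := (S.hhHom hφ).ker.card_mul_index
  rw [Subgroup.index_ker, range_hhHom, ker_hhHom, mul_comm] at h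
  rw [h, Nat.card_fun, Nat.card_units, Nat.card_eq_fintype_card (α := Nd D), Fintype.card_fin]

end Sys

theorem Cert.card_group {D : ChevalleyDatum} (C : Cert D) (F : Type*) [Field F] [Finite F] :
    Nat.card (D.group F) * Nat.card (RGD.cenT (RGD.carM D) F) =
      Nat.card F ^ (D.nroots / 2) * (C.PW Set.univ (Nat.card F) * (Nat.card F - 1) ^ D.rank) := by
  rw [(C.sys F).card_eq, Sys.card_B, Sys.card_Up, ← (C.sys F).card_H (C.sys_φ_inj F)]
  ring

/-- The order formula. -/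
theorem card_group_of_mem {c : ChevalleyDatum × List ℕ} (hc : c ∈ degList) (F : Type*) [Field F] [Finite F] :
    Nat.card (c.1.group F) * Nat.card (RGD.cenT (RGD.carM c.1) F) =
      Nat.card F ^ (c.1.nroots / 2) * (c.2.map fun d => Nat.card F ^ d - 1).prod := by
  obtain ⟨C⟩ := cert_of_mem (mem_of_mem_degList hc)
  rw [C.card_group]
  congr 1
  have h : 1 ≤ Nat.card F := Nat.card_pos
  have := PW_of_mem hc C (Nat.card F : ℤ)
  zify [h]
  rw [C.PW_cast, this, List.map_map]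
  refine congrArg List.prod (List.map_congr_left fun d _ => ?_)
  simp [Nat.cast_sub (Nat.one_le_pow d _ h)]

theorem Cert.dvd_cdet_of_dvd_cenT {D : ChevalleyDatum} (C : Cert D) (F : Type*) [Field F] [Finite F] {r : ℕ}
    (hr : r.Prime) (h : r ∣ Nat.card (RGD.cenT (RGD.carM D) F)) : (r : ℤ) ∣ C.cdet := by
  have := Fact.mk hr
  obtain ⟨t, ht⟩ := exists_prime_orderOf_dvd_card' r h
  rw [← ht, orderOf_dvd_iff_zpow_eq_one]
  refine Subtype.ext (funext fun j => ?_)
  exact C.pow_cdet_eq_one (fun k => by simp only [C.A_sp]; exact t.2 k) j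

end Cfsg.Agent.Chev
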