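import Cfsg.Agent.Chev.DataG2
import Cfsg.Agent.Chev.DataB2
import Cfsg.Agent.Chev.DataD4
import Cfsg.Agent.Chev.DataF4
import Cfsg.Agent.Chev.DataE6
import Cfsg.Agent.Chev.DataE7
import Cfsg.Agent.Chev.DataE8

/-! Every tabulated datum has a certificate. -/

set_option autoImplicit false

namespace Cfsg.Agent.Chev

open Cfsg.Lie

theorem cert_of_mem {D : ChevalleyDatum}
    (hD : D ∈ [chevG2, chevB2, chevD4, chevF4, chevE6, chevE7, chevE8]) : Nonempty (Cert D) := by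
  simp only [List.mem_cons, List.not_mem_nil, or_false] at hD
  rcases hD with rfl | rfl | rfl | rfl | rfl | rfl | rfl
  exacts [⟨certG2⟩, ⟨certB2⟩, ⟨certD4⟩, ⟨certF4⟩, ⟨certE6⟩, ⟨certE7⟩, ⟨certE8⟩]

end Cfsg.Agent.Chev
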