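import Cfsg.Agent.Chev.Fix
import Cfsg.Agent.Chev.ReflD4
import Cfsg.Agent.Chev.ReflE6
import Cfsg.Agent.Chev.ReflE7
import Cfsg.Agent.Chev.ReflE8

/-!
Subgroups of `U` normalised by `B`; weakly closed subgroups of `U`.
-/

set_option autoImplicit false
set_option linter.unusedSimpArgs false
set_option linter.unusedVariables false

namespace Cfsg.Agent.Chev

open Cfsg.Lie Cfsg.Lie.ChevalleyDatum Equiv

attribute [-simp] zsmul_eq_mul nsmul_eq_mul

theorem exists_sq_sub_sq {F : Type*} [Field F] [Finite F] (t : F) : ∃ u v : F, t = u ^ 2 - v ^ 2 := by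
  by_cases h2 : (2 : F) = 0
  · have : ringChar F = 2 := by
      have := (ringChar.spec F 2).1 (by exact_mod_cast h2)
      rcases (Nat.dvd_prime Nat.prime_two).1 this with e | e
      · exact absurd e CharP.ringChar_ne_one
      · exact e
    obtain ⟨s, rfl⟩ := FiniteField.isSquare_of_char_two this t
    exact ⟨s, 0, by ring⟩
  · exact ⟨(t + 1) / 2, (t - 1) / 2, by field_simp; ring⟩

theorem exists_zpow_ne_one {F : Type*} [Field F] [Finite F] {e : ℤ} (h0 : e ≠ 0) (h : |e| + 1 < Nat.card F) :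
    ∃ t : Fˣ, t ^ e ≠ 1 := by
  obtain ⟨g, hg⟩ := IsCyclic.exists_ofOrder_eq_natCard (α := Fˣ)
  refine ⟨g, fun h1 => ?_⟩
  have h2 := Int.le_of_dvd (abs_pos.2 h0) ((dvd_abs _ _).2 (orderOf_dvd_iff_zpow_eq_one.2 h1))
  rw [hg, Nat.card_units] at h2
  omega

namespace Cert

variable {D : ChevalleyDatum} (C : Cert D)

/-- the height of a root -/
def ht (r : Rt D) : ℤ := ∑ i, C.rc r i

theorem lev_empty (r : Rt D) : lev ∅ (C.rc r) = C.ht r := by
  simp [ht, lev]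

/-- the height of a root index -/
def htN (k : ℕ) : ℤ := if h : k < D.nroots then C.ht ⟨k, h⟩ else 0

theorem ht_add {r s u : Rt D} (h : C.rc u = C.rc r + C.rc s) : C.ht u = C.ht r + C.ht s := by
  rw [← lev_empty, h, map_add, lev_empty, lev_empty]

theorem one_le_ht {r : Rt D} (h : C.Pos r) : 1 ≤ C.ht r := C.lev_empty r ▸ Sys.ht_pos h

theorem pos_of_ht {r : Rt D} (h : 0 < C.ht r) : C.Pos r := (lev_pos_iff.1 (C.lev_empty r ▸ h)).1

theorem ht_sp (i : Nd D) : C.ht (C.sp i) = 1 := C.lev_empty _ ▸ Sys.ht_sp i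

/-- `r` occurs with coefficient `±1` in the commutator of two lower positive root subgroups -/
def Dec (r : Rt D) : Prop := ∃ a b : Rt D, C.Pos a ∧ C.Pos b ∧ C.ht a < C.ht r ∧ C.ht b < C.ht r ∧ b ≠ a ∧
  ∃ (L1 : List (ℕ × ℤ × ℕ × ℕ)) (c : ℤ) (i j : ℕ) (L2 : List (ℕ × ℤ × ℕ × ℕ)),
    D.commTerms a b = L1 ++ ((r : ℕ), c, i, j) :: L2 ∧ (c = 1 ∨ c = -1) ∧
    C.rc r = (i : ℤ) • C.rc a + (j : ℤ) • C.rc b ∧ (∀ t ∈ L1, C.htN t.1 < C.ht r) ∧ ∀ t ∈ L2, C.ht r < C.htN t.1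

theorem dec_of_simplyLaced (hl : ∀ r s, C.len r = C.len s) {r : Rt D} (hr : C.Pos r) (hs : ∀ i, r ≠ C.sp i) :
    C.Dec r := by
  obtain ⟨i, -, hi⟩ := C.exists_A_pos hr
  obtain ⟨u, hu⟩ := C.exists_sub_of_A_pos (hs i) hi
  have hu' : C.Pos u := C.sub_sp_nonneg (k := -1) hr (hs i) (by rw [hu]; module)
  have e : C.rc r = C.rc (C.sp i) + C.rc u := by rw [hu]; abel
  have h1 := C.ht_add e
  have h2 := C.one_le_ht hu'
  rw [ht_sp] at h1
  obtain ⟨L, hL, hL'⟩ := C.commTerms_of_add e (T := {s | C.ht r < C.ht s}) (by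
    rintro v (hv | hv) <;> have := C.ht_add hv
    · rw [ht_sp] at this; show C.ht r < C.ht v; omega
    · show C.ht r < C.ht v; omega) (by
    rintro v hv s hs w hw
    have := C.ht_add hw
    have h3 : 1 ≤ C.ht s := C.one_le_ht (by rcases hs with rfl | rfl; exacts [C.pos_sp i, hu'])
    have hv' : C.ht r < C.ht v := hv
    show C.ht r < C.ht w; omega)
  have h3 : C.cl (C.sp i).rev u = 0 := by
    by_contra h
    obtain ⟨v, -, hv, -⟩ := C.exists_add (mt (C.N_eq_zero_iff' _ _).1 h)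
    have h4 := C.len_add hv
    have h5 := C.len_add e
    rw [C.A_rev_left, C.len_rev, hl v (C.sp i), hl u (C.sp i)] at h4
    rw [hl r (C.sp i), hl u (C.sp i)] at h5
    have := C.len_pos (C.sp i)
    nlinarith
  have h4 := C.N_abs' (C.ch_one_of_add e)
  rw [h3] at h4
  refine ⟨C.sp i, u, C.pos_sp i, hu', by rw [ht_sp]; omega, by omega, fun e' => ?_, [], _, 1, 1, L, hL,
    by simpa [abs_eq] using h4, by simpa using e, by simp, fun t ht => ?_⟩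
  · have := C.eq_of_smul (m := 2) (e.trans (by rw [e', two_smul]))
    omega
  · obtain ⟨h, h'⟩ := hL' t ht
    rw [htN, dif_pos h]; exact h'

/-- Boolean form of `Dec` with witnesses -/
def decChk (r a b : Rt D) (k : ℕ) : Prop :=
  0 < C.ht a ∧ 0 < C.ht b ∧ C.ht a < C.ht r ∧ C.ht b < C.ht r ∧ (b : ℕ) ≠ a ∧
    ∃ t ∈ (D.commTerms a b)[k]?, t.1 = r ∧ (t.2.1 = 1 ∨ t.2.1 = -1) ∧
      (∀ l, C.rc r l = t.2.2.1 * C.rc a l + t.2.2.2 * C.rc b l) ∧
      (∀ t ∈ (D.commTerms a b).take k, C.htN t.1 < C.ht r) ∧ ∀ t ∈ (D.commTerms a b).drop (k + 1), C.ht r < C.htN t.1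

instance instDecidableDecChk (r a b : Rt D) (k : ℕ) : Decidable (C.decChk r a b k) := by
  unfold decChk; infer_instance

theorem dec_of_chk {r a b : Rt D} {k : ℕ} (h : C.decChk r a b k) : C.Dec r := by
  obtain ⟨h1, h2, h3, h4, h5, ⟨v, c, i, j⟩, h6, rfl, h7, h8, h9, h10⟩ := h
  obtain ⟨hk, e⟩ := List.getElem?_eq_some_iff.1 h6
  refine ⟨a, b, C.pos_of_ht h1, C.pos_of_ht h2, h3, h4, fun e => h5 (by rw [e]), _, c, i, j, _, ?_, h7,
    funext h8, h9, h10⟩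
  rw [← e, ← List.drop_eq_getElem_cons hk, List.take_append_drop]

/-- distinct positive roots are separated by coroots with small values -/
def SepZ (m : ℤ) : Prop := ∀ r s, s ≠ r → s ≠ r.rev → ∃ u, C.A u s = 0 ∧ C.A u r ≠ 0 ∧ |C.A u r| ≤ m

theorem sepZ_of {m : ℤ} {ca : ℕ → ℕ → ℤ} (hc : ∀ (i : Nd D) (r : Rt D), D.cartan i r = ca i r)
    (h : ∀ s : Rt D, (∀ j : Nd D, 0 ≤ ca j s) → ∀ r : Rt D, (r : ℕ) ≠ s → r + s + 1 ≠ D.nroots →
      ∃ j : Nd D, ca j s = 0 ∧ ca j r ≠ 0 ∧ |ca j r| ≤ m) : C.SepZ m := by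
  intro r s h1 h2
  obtain ⟨w, hw, hd⟩ := C.exists_dom_conj s
  have hw' := C.W_le_Aut hw
  obtain ⟨j, hj⟩ := h (w s) (fun j => by rw [← hc, ← C.A_sp]; exact hd j) (w r)
    (fun e => h1 (w.injective (Fin.ext e)).symm) (fun e => h2 (w.injective (Fin.ext (by
      rw [Aut.map_rev hw', Fin.val_rev]; omega))))
  refine ⟨w⁻¹ (C.sp j), ?_⟩
  rw [← Aut.A_map hw', ← Aut.A_map hw' _ r]
  simpa only [Perm.coe_inv, apply_symm_apply, C.A_sp, hc] using hj

end Cert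

namespace Sys

variable {D : ChevalleyDatum} {C : Cert D} {F : Type*} [Field F] {G : Type*} [Group G] (S : Sys C F G)

theorem comm_split {a b r : Rt D} (h1 : b ≠ a) (h2 : b ≠ a.rev) {L1 L2 : List (ℕ × ℤ × ℕ × ℕ)} {c : ℤ} {i j : ℕ}
    (e : D.commTerms a b = L1 ++ ((r : ℕ), c, i, j) :: L2) {T1 T2 : Set (Rt D)}
    (h3 : ∀ t ∈ L1, ∃ h : t.1 < D.nroots, (⟨t.1, h⟩ : Rt D) ∈ T1)
    (h4 : ∀ t ∈ L2, ∃ h : t.1 < D.nroots, (⟨t.1, h⟩ : Rt D) ∈ T2) (t u : F) :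
    ∃ y ∈ S.U T1, ∃ z ∈ S.U T2, (S.x b u)⁻¹ * (S.x a t)⁻¹ * S.x b u * S.x a t =
      y * (S.x r (c * (-t) ^ i * u ^ j) * z) := by
  rw [S.comm a b h1 h2, commWord_def, e, List.map_append, List.map_append, List.prod_append, List.map_cons,
    List.map_cons, List.prod_cons]
  refine ⟨_, S.prod_mem_U _ fun c hc => ?_, _, S.prod_mem_U _ fun c hc => ?_, by simp only [r.2, dif_pos]; rfl⟩
  · obtain ⟨t, ht, rfl⟩ := List.mem_map.1 hc; exact h3 t ht
  · obtain ⟨t, ht, rfl⟩ := List.mem_map.1 hc; exact h4 t ht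

variable {X : Subgroup G}

theorem x_mem_of_one [Finite F] (hX : ∀ a ∈ S.H, ∀ y ∈ X, a * y * a⁻¹ ∈ X) {r : Rt D} {c : F} (hc : c ≠ 0)
    (h : S.x r c ∈ X) (t : F) : S.x r t ∈ X := by
  have key : ∀ u : F, S.x r (u ^ 2 * c) ∈ X := fun u => by
    by_cases hu : u = 0
    · simp [hu, x_zero]
    lift u to Fˣ using IsUnit.mk0 _ hu
    have := hX _ (S.h_mem r u) _ h
    rwa [h_conj_x, C.A_self, zpow_ofNat, Units.val_pow_eq_pow_val] at this
  obtain ⟨u, v, e⟩ := exists_sq_sub_sq (t / c)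
  have : t = u ^ 2 * c - v ^ 2 * c := by rw [← sub_mul, ← e, div_mul_cancel₀ _ hc]
  rw [this, x_sub]; exact mul_mem (key u) (inv_mem (key v))

/-- `r` is separated from `s` by the torus -/
def Sep (r s : Rt D) : Prop := ∃ a ∈ S.H, S.chi a s = 1 ∧ S.chi a r ≠ 1

theorem sep_of [Finite F] {r s u : Rt D} (h1 : C.A u s = 0) (h2 : C.A u r ≠ 0) (h3 : |C.A u r| + 1 < Nat.card F) :
    S.Sep r s := by
  obtain ⟨t, ht⟩ := exists_zpow_ne_one (F := F) h2 h3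
  exact ⟨S.h u t, S.h_mem u t, by rw [chi_h, h1, zpow_zero], by rwa [chi_h]⟩

theorem isolate [Finite F] (hX : ∀ a ∈ S.H, ∀ y ∈ X, a * y * a⁻¹ ∈ X) {r : Rt D} (hr : C.Pos r) {T : Set (Rt D)}
    (hT : C.Closed T) (hp : ∀ s ∈ T, C.Pos s) (hs : C.Stab {r} T) (hsep : ∀ s ∈ T, S.Sep r s ∨ ∀ t, S.x s t ∈ X)
    {c : F} (hc : c ≠ 0) {z : G} (hz : z ∈ S.U T) (h : S.x r c * z ∈ X) (t : F) : S.x r t ∈ X := by
  have cj : ∀ m c, ∀ z ∈ S.U (geI T m), S.x r c * z * (S.x r c)⁻¹ ∈ S.U (geI T m) := fun m c z hz =>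
    S.x_conj_mem (closed_geI hT hp m) (by
      rintro a ha _ rfl u e
      exact ⟨hs a ha.1 _ rfl u e, ha.2.trans (lt_of_add hr e).le⟩) (fun h => C.not_pos_rev hr (hp _ h.1)) c hz
  have key : ∀ m, ∃ c, c ≠ 0 ∧ ∃ z ∈ S.U (geI T m), S.x r c * z ∈ X := by
    intro m
    induction m with
    | zero => exact ⟨c, hc, z, by rwa [geI_zero], h⟩
    | succ m ih =>
      obtain ⟨c, hc, z, hz, h⟩ := ih
      rcases S.geI_step hT hp m hz with h1 | ⟨s, hsT, rfl, d, z', hz', rfl⟩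
      · exact ⟨c, hc, z, h1, h⟩
      rcases hsep s hsT with ⟨a, ha, h1, h2⟩ | h1
      · refine ⟨(S.chi a r - 1) * c, mul_ne_zero (sub_ne_zero.2 fun e => h2 (Units.ext e)) hc, _,
          cj _ c _ (S.geI_conj hT hp _ (S.x_mem_U hsT d) (mul_mem (H_conj_U ha hz') (inv_mem hz'))), ?_⟩
        have h3 := mul_mem (hX a ha _ h) (inv_mem h)
        have h4 : a * (S.x r c * (S.x s d * z')) * a⁻¹ = S.x r (S.chi a r * c) * S.x s d * (a * z' * a⁻¹) := by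
          have h5 := H_conj_x ha s d
          rw [h1, Units.val_one, one_mul] at h5
          rw [← H_conj_x ha]
          conv_rhs => rw [← h5]
          group
        rw [h4] at h3
        convert h3 using 1
        rw [sub_mul, one_mul, x_sub]; group
      · refine ⟨c, hc, _, S.geI_conj hT hp _ (S.x_mem_U hsT d) hz', ?_⟩
        simpa [mul_assoc] using mul_mem h (inv_mem (h1 d))
  obtain ⟨c, hc, z, hz, h⟩ := key D.nroots
  rw [geI_top, U_empty, Subgroup.mem_bot] at hz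
  rw [hz, mul_one] at h
  exact S.x_mem_of_one hX hc h t

theorem le_UJ_of_normal {J : Set (Nd D)} (hU : X ≤ S.Up) (hN : ∀ g ∈ S.P J, ∀ y ∈ X, g * y * g⁻¹ ∈ X) :
    X ≤ S.UJ J := by
  intro y hy
  obtain ⟨m, hm⟩ := S.exists_over (C.w0_mem_W J)
  have h1 : y ∈ S.U (C.w0 J ⁻¹' {r | C.Pos r}) := by
    have := hm.acts.inv_conj_mem (T := {r | C.Pos r}) (T' := C.w0 J ⁻¹' {r | C.Pos r}) (fun r hr => by simpa using hr)
      (hU (hN m (hm.mem_P (C.w0_mem J)) y hy))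
    simpa [mul_assoc] using this
  refine S.U_mono (fun r hr => And.intro hr.1 fun h => ?_) (S.mem_inter Cert.closed_pos (Cert.nil_of_pos fun r hr => hr)
    (Cert.closed_pos.preimage hm.mem_Aut) ((Cert.nil_of_pos fun r hr => hr).preimage hm.mem_W) (hU hy) h1)
  exact (Cert.pos_w0_iff h).1 hr.2 hr.1

theorem closed_pos_ne (i : Nd D) : C.Closed {r | C.Pos r ∧ r ≠ C.sp i} := by
  intro a ha b hb u e
  refine ⟨Cert.closed_pos a ha.1 b hb.1 u e, fun h => ?_⟩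
  have := C.ht_add e
  have := C.one_le_ht ha.1
  have := C.one_le_ht hb.1
  have := C.ht_sp i
  subst h; omega

theorem stab_pos_ne (i : Nd D) : C.Stab {C.sp i} {r | C.Pos r ∧ r ≠ C.sp i} := by
  rintro a ha _ rfl u e
  refine ⟨Cert.closed_pos a ha.1 _ (C.pos_sp i) u e, fun h => ?_⟩
  have := C.ht_add e
  have := C.one_le_ht ha.1
  subst h; omega

/-- the data attached to a weakly closed subgroup of `U` -/
theorem wclosed_data (hU : X ≤ S.Up) (hwc : ∀ g : G, (∀ y ∈ X, g * y * g⁻¹ ∈ S.Up) → g ∈ Subgroup.normalizer (X : Set G)) :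
    ∃ J, (∀ g ∈ S.P J, ∀ y ∈ X, g * y * g⁻¹ ∈ X) ∧
      ∀ i, i ∉ J → ∃ c, c ≠ 0 ∧ ∃ z ∈ S.U {r | C.Pos r ∧ r ≠ C.sp i}, S.x (C.sp i) c * z ∈ X := by
  have h1 := S.eq_P_of_B_le (K := Subgroup.normalizer (X : Set G)) fun b hb =>
    hwc b fun y hy => S.B_conj_Up hb (hU hy)
  refine ⟨_, fun g hg y hy => (Subgroup.mem_normalizer_iff.1 (h1 ▸ hg) y).1 hy, fun i hi => ?_⟩
  by_contra h
  refine hi (hwc _ fun y hy => ?_)
  obtain ⟨v, hv, t, rfl⟩ := split_sp i (hU hy)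
  by_cases ht : t = 0
  · rw [ht, x_zero, mul_one]; exact (S.over_ns i 1).conj_sp hv
  · exact absurd ⟨-t, neg_ne_zero.2 ht, v⁻¹, inv_mem hv, by simpa [x_neg] using inv_mem hy⟩ h

theorem step_of_dec [Finite F] {J : Set (Nd D)} (hN : ∀ g ∈ S.P J, ∀ y ∈ X, g * y * g⁻¹ ∈ X) {r : Rt D}
    (hr : C.Pos r) (hrJ : ¬ C.InJ J r) (hd : C.Dec r)
    (hsep : ∀ s, C.ht r < C.ht s → S.Sep r s ∨ ∀ t, S.x s t ∈ X)
    (ih : ∀ s, C.Pos s → ¬ C.InJ J s → C.ht s < C.ht r → ∀ t, S.x s t ∈ X) (t : F) : S.x r t ∈ X := by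
  obtain ⟨a, b, ha, hb, h1, h2, h3, L1, c, i, j, L2, e, hc, e', hL1, hL2⟩ := hd
  have h4 : ¬ C.InJ J a ∨ ¬ C.InJ J b := by
    by_contra h
    push Not at h
    exact hrJ fun k hk => by rw [e', Pi.add_apply, Pi.smul_apply, Pi.smul_apply, h.1 k hk, h.2 k hk]; simp
  have h5 := C.commTerms_mem (r := a) (s := b) (T := {r | C.Pos r ∧ ¬ C.InJ J r}) (fun u hu => by
    rcases h4 with h4 | h4
    · exact Cert.stab_radical J a ⟨ha, h4⟩ b (Or.inl hb) u hu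
    · exact Cert.stab_radical J b ⟨hb, h4⟩ a (Or.inl ha) u (hu.trans (add_comm _ _)))
    ((Cert.stab_radical J).mono (by rintro _ (rfl | rfl); exacts [Or.inl ha, Or.inl hb]))
  rw [e] at h5
  obtain ⟨y, hy, z, hz, h6⟩ := S.comm_split h3 (fun e => C.not_pos_rev ha (e ▸ hb)) e
    (T1 := {s | (C.Pos s ∧ ¬ C.InJ J s) ∧ C.ht s < C.ht r}) (T2 := {s | C.ht r < C.ht s}) (fun t ht => by
      obtain ⟨h, h'⟩ := h5 t (List.mem_append_left _ ht)
      have := hL1 t ht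
      rw [Cert.htN, dif_pos h] at this
      exact ⟨h, h', this⟩) (fun t ht => by
      obtain ⟨h, h'⟩ := h5 t (List.mem_append_right _ (List.mem_cons_of_mem _ ht))
      have := hL2 t ht
      rw [Cert.htN, dif_pos h] at this
      exact ⟨h, this⟩) 1 1
  have h7 : (S.x b 1)⁻¹ * (S.x a 1)⁻¹ * S.x b 1 * S.x a 1 ∈ X := by
    rcases h4 with h4 | h4
    · refine mul_mem ?_ (ih a ha h4 h1 1)
      simpa using hN _ (inv_mem (S.x_mem_P (Or.inl hb) 1)) _ (inv_mem (ih a ha h4 h1 1))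
    · have := mul_mem (inv_mem (ih b hb h4 h2 1)) (hN _ (inv_mem (S.x_mem_P (Or.inl ha) 1)) _ (ih b hb h4 h2 1))
      simpa [mul_assoc] using this
  have h8 : y ∈ X := (S.U_le.2 fun s hs t => ih s hs.1.1 hs.1.2 hs.2 t) hy
  rw [h6] at h7
  have hr1 := C.one_le_ht hr
  refine S.isolate (fun a ha => hN a (S.H_le_P J ha)) hr (T := {s | C.ht r < C.ht s}) (fun a ha b hb u e => ?_)
    (fun s hs => C.pos_of_ht (lt_trans (by omega) hs)) ?_ hsep ?_ hz ((mul_mem_cancel_left h8).1 h7) t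
  · have := C.ht_add e
    simp only [Set.mem_ofPred_eq] at *; omega
  · rintro a ha _ rfl u e
    have := C.ht_add e
    simp only [Set.mem_ofPred_eq] at *; omega
  · rcases hc with rfl | rfl <;> simp

theorem UJ_le_of_sep [Finite F] {J : Set (Nd D)} (hN : ∀ g ∈ S.P J, ∀ y ∈ X, g * y * g⁻¹ ∈ X)
    (hJ : ∀ i, i ∉ J → ∃ c, c ≠ 0 ∧ ∃ z ∈ S.U {r | C.Pos r ∧ r ≠ C.sp i}, S.x (C.sp i) c * z ∈ X)
    (hsep : ∀ r s, C.Pos r → ¬ C.InJ J r → C.Pos s → s ≠ r → C.ht r ≤ C.ht s → S.Sep r s ∨ ∀ t, S.x s t ∈ X)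
    (hd : ∀ r, C.Pos r → (∀ i, r ≠ C.sp i) → C.Dec r) : S.UJ J ≤ X := by
  refine S.U_le.2 fun r hr => ?_
  obtain ⟨hr, hrJ⟩ := hr
  induction h : (C.ht r).toNat using Nat.strong_induction_on generalizing r with
  | _ n ih =>
    have hr1 := C.one_le_ht hr
    by_cases hs : ∃ i, r = C.sp i
    · obtain ⟨i, rfl⟩ := hs
      obtain ⟨c, hc, z, hz, h1⟩ := hJ i fun h => hrJ (C.inJ_sp.2 h)
      exact S.isolate (fun a ha => hN a (S.H_le_P J ha)) hr (closed_pos_ne i) (fun s hs => hs.1) (stab_pos_ne i)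
        (fun s hs => hsep _ s hr hrJ hs.1 hs.2 (C.ht_sp i ▸ C.one_le_ht hs.1)) hc hz h1
    · refine S.step_of_dec hN hr hrJ (hd r hr fun i e => hs ⟨i, e⟩) (fun s hs => hsep r s hr hrJ
        (C.pos_of_ht (by omega)) (by rintro rfl; omega) hs.le) fun s h1 h2 h3 => ih _ ?_ s h1 h2 rfl
      have := C.one_le_ht h1
      omega

theorem comm_level (f : (Nd D → ℤ) →ₗ[ℤ] ℤ) {k : ℤ} (hk : 0 < k) {a : Rt D} (ha : 0 ≤ f (C.rc a)) (t : F) {z : G}
    (hz : z ∈ S.U {r | k ≤ f (C.rc r)}) :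
    S.x a t * z * (S.x a t)⁻¹ * z⁻¹ ∈ S.U {r | k + f (C.rc a) ≤ f (C.rc r)} := by
  refine S.U_induction (P := fun z => S.x a t * z * (S.x a t)⁻¹ * z⁻¹ ∈ S.U {r | k + f (C.rc a) ≤ f (C.rc r)})
    (by simp) (fun s hs d z hz ih => ?_) hz
  have hs' : k ≤ f (C.rc s) := hs
  have h1 := S.comm_mem (r := s) (s := a) (T := {r | k + f (C.rc a) ≤ f (C.rc r)}) (by
    rintro rfl
    rw [C.rc_neg, map_neg] at ha; omega) (fun u e => by show _ ≤ f _; rw [e, map_add]; omega)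
    ((Cert.stab_ge f _).mono (by rintro _ (rfl | rfl); exacts [show 0 ≤ f _ by omega, ha])) (-d) (-t)
  have h2 := S.conj_ge f (k := k + f (C.rc a)) (by omega)
    (Subgroup.mem_sup_left (S.x_mem_U (r := s) (show 0 ≤ f _ by omega) d)) ih
  simpa [x_neg, mul_assoc] using mul_mem h1 h2

theorem x_mem_of_comm_simple [Finite F] (hH : ∀ a ∈ S.H, ∀ y ∈ X, a * y * a⁻¹ ∈ X) {r s v : Rt D}
    (e : C.rc v = C.rc r + C.rc s) (h1 : ∀ u, C.rc u ≠ C.rc v + C.rc r) (h2 : ∀ u, C.rc u ≠ C.rc v + C.rc s)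
    (h3 : (C.N r s : F) ≠ 0) (h : (S.x s 1)⁻¹ * (S.x r 1)⁻¹ * S.x s 1 * S.x r 1 ∈ X) (t : F) : S.x v t ∈ X := by
  rw [S.comm_simple e h1 h2] at h
  exact S.x_mem_of_one hH (by simpa using h3) h t

theorem sep_of_sepZ [Finite F] {m : ℤ} (h : C.SepZ m) (hm : m + 1 < Nat.card F) {r s : Rt D} (hr : C.Pos r)
    (hs : C.Pos s) (e : s ≠ r) : S.Sep r s := by
  obtain ⟨u, h1, h2, h3⟩ := h r s e fun e => C.not_pos_rev hr (e ▸ hs)
  exact S.sep_of h1 h2 (by omega)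

theorem eq_UJ_of_sepZ [Finite F] {m : ℤ} (h : C.SepZ m) (hm : m + 1 < Nat.card F)
    (hd : ∀ r, C.Pos r → (∀ i, r ≠ C.sp i) → C.Dec r) (hU : X ≤ S.Up)
    (hwc : ∀ g : G, (∀ y ∈ X, g * y * g⁻¹ ∈ S.Up) → g ∈ Subgroup.normalizer (X : Set G)) : ∃ J, X = S.UJ J := by
  obtain ⟨J, hN, hJ⟩ := S.wclosed_data hU hwc
  exact ⟨J, le_antisymm (S.le_UJ_of_normal hU hN)
    (S.UJ_le_of_sep hN hJ (fun r s hr _ hs e _ => Or.inl (S.sep_of_sepZ h hm hr hs e)) hd)⟩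

end Sys

theorem dec_of_table {D : ChevalleyDatum} (C : Cert D) (W : List (Rt D × Rt D × ℕ)) (d : Rt D × Rt D × ℕ)
    (h : ∀ r : Rt D, D.nroots ≤ 2 * (r : ℕ) → (∃ i : Nd D, (r : ℕ) = D.simple i) ∨
      C.decChk r (W.getD r d).1 (W.getD r d).2.1 (W.getD r d).2.2) (r : Rt D) (hr : C.Pos r)
    (hs : ∀ i, r ≠ C.sp i) : C.Dec r := by
  rcases h r ((C.pos_iff_val r).1 hr) with ⟨i, e⟩ | h
  · exact absurd (Fin.ext e) (hs i)
  · exact C.dec_of_chk h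

theorem decG2 : ∀ r, certG2.Pos r → (∀ i, r ≠ certG2.sp i) → certG2.Dec r :=
  dec_of_table certG2 (show List (Fin 12 × Fin 12 × ℕ) from
    [(0, 0, 0), (0, 0, 0), (0, 0, 0), (0, 0, 0), (0, 0, 0), (0, 0, 0), (0, 0, 0), (0, 0, 0), (6, 7, 0), (6, 7, 1),
    (6, 7, 2), (6, 10, 0)]) (show Fin 12 × Fin 12 × ℕ from (0, 0, 0))
    (by decide +kernel)

theorem decB2 : ∀ r, certB2.Pos r → (∀ i, r ≠ certB2.sp i) → certB2.Dec r :=
  dec_of_table certB2 (show List (Fin 8 × Fin 8 × ℕ) from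
    [(0, 0, 0), (0, 0, 0), (0, 0, 0), (0, 0, 0), (0, 0, 0), (0, 0, 0), (4, 5, 0), (4, 5, 1)]) (show Fin 8 × Fin 8 × ℕ from (0, 0, 0))
    (by decide +kernel)

theorem decF4 : ∀ r, certF4.Pos r → (∀ i, r ≠ certF4.sp i) → certF4.Dec r :=
  dec_of_table certF4 (show List (Fin 48 × Fin 48 × ℕ) from
    [(0, 0, 0), (0, 0, 0), (0, 0, 0), (0, 0, 0), (0, 0, 0), (0, 0, 0), (0, 0, 0), (0, 0, 0), (0, 0, 0), (0, 0, 0),
    (0, 0, 0), (0, 0, 0), (0, 0, 0), (0, 0, 0), (0, 0, 0), (0, 0, 0), (0, 0, 0), (0, 0, 0), (0, 0, 0), (0, 0, 0),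
    (0, 0, 0), (0, 0, 0), (0, 0, 0), (0, 0, 0), (0, 0, 0), (0, 0, 0), (24, 25, 0), (0, 0, 0), (25, 27, 0), (24,
    28, 0), (25, 27, 1), (24, 30, 0), (24, 28, 1), (0, 0, 0), (27, 33, 0), (25, 34, 0), (24, 35, 0), (27, 35, 0),
    (24, 37, 0), (25, 38, 0), (27, 39, 0), (25, 34, 1), (24, 41, 0), (24, 35, 1), (27, 43, 0), (24, 37, 1), (25,
    45, 0), (24, 46, 0)]) (show Fin 48 × Fin 48 × ℕ from (0, 0, 0))
    (by decide +kernel)

theorem lenD4_eq (r s : Rt chevD4) : certD4.len r = certD4.len s := by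
  have : ∀ r, certD4.len r = 1 := by decide +kernel
  rw [this, this]
theorem lenE6_eq (r s : Rt chevE6) : certE6.len r = certE6.len s := by
  have : ∀ r, certE6.len r = 1 := by decide +kernel
  rw [this, this]
theorem lenE7_eq (r s : Rt chevE7) : certE7.len r = certE7.len s := by
  have : ∀ r, certE7.len r = 1 := by decide +kernel
  rw [this, this]
theorem lenE8_eq (r s : Rt chevE8) : certE8.len r = certE8.len s := by
  have : ∀ r, certE8.len r = 1 := by decide +kernel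
  rw [this, this]

theorem sepG2 : certG2.SepZ 3 := certG2.sepZ_of cartanG2 (by decide +kernel)
theorem sepB2 : certB2.SepZ 2 := certB2.sepZ_of cartanB2 (by decide +kernel)
theorem sepD4 : certD4.SepZ 2 := certD4.sepZ_of cartanD4 (by decide +kernel)
theorem sepF4 : certF4.SepZ 2 := certF4.sepZ_of cartanF4 (by decide +kernel)
theorem sepE6 : certE6.SepZ 1 := certE6.sepZ_of cartanE6 (by decide +kernel)
theorem sepE7 : certE7.SepZ 1 := certE7.sepZ_of cartanE7 (by decide +kernel)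
theorem sepE8 : certE8.SepZ 1 := certE8.sepZ_of cartanE8 (by decide +kernel)

/-- roots of G2 by index -/
def rG (k : ℕ) (h : k < 12 := by decide) : Rt chevG2 := ⟨k, h⟩
/-- nodes of G2 by index -/
def nG (k : ℕ) (h : k < 2 := by decide) : Nd chevG2 := ⟨k, h⟩

theorem G2_sep : ∀ r s : Rt chevG2, 0 < certG2.ht r → s ≠ r → certG2.ht r ≤ certG2.ht s →
    (∃ u, certG2.A u s = 0 ∧ certG2.A u r ≠ 0 ∧ |certG2.A u r| ≤ 2) ∨
      (certG2.len r = 3 ∧ (s = rG 10 ∨ s = rG 11)) := by decide +kernel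

theorem G2_wclosed {F : Type*} [Field F] [Finite F] [CharP F 2] (hF : 3 < Nat.card F) {G : Type*} [Group G]
    (S : Sys certG2 F G) {X : Subgroup G} (hU : X ≤ S.Up)
    (hwc : ∀ g : G, (∀ y ∈ X, g * y * g⁻¹ ∈ S.Up) → g ∈ Subgroup.normalizer (X : Set G)) : ∃ J, X = S.UJ J := by
  obtain ⟨J, hN, hJ⟩ := S.wclosed_data hU hwc
  have hX := S.le_UJ_of_normal hU hN
  have hH : ∀ a ∈ S.H, ∀ y ∈ X, a * y * a⁻¹ ∈ X := fun a ha => hN a (S.H_le_P J ha)
  have hp : ∀ r : Rt chevG2, 6 ≤ (r : ℕ) → certG2.Pos r := fun r hr =>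
    (certG2.pos_iff_val r).2 (by show 12 ≤ _; omega)
  have hsep : ∀ r s, certG2.Pos r → certG2.len r = 1 → s ≠ r → certG2.ht r ≤ certG2.ht s → S.Sep r s := by
    intro r s hr hl e h
    rcases G2_sep r s (certG2.one_le_ht hr) e h with ⟨u, h1, h2, h3⟩ | h1
    · exact S.sep_of h1 h2 (by omega)
    · omega
  have odd : ∀ {n : ℤ}, n % 2 = 1 → (n : F) ≠ 0 := fun {n} h e => by
    have := (CharP.intCast_eq_zero_iff F 2 n).1 e
    omega
  have c1 : ∀ {r s : Rt chevG2}, certG2.Pos r → (∀ t, S.x s t ∈ X) →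
      (S.x s 1)⁻¹ * (S.x r 1)⁻¹ * S.x s 1 * S.x r 1 ∈ X := fun hr hs => by
    simpa [mul_assoc] using mul_mem (inv_mem (hs 1)) (hN _ (inv_mem (S.x_mem_P (Or.inl hr) 1)) _ (hs 1))
  have q11 : (∀ t, S.x (rG 10) t ∈ X) → ∀ t, S.x (rG 11) t ∈ X := fun h =>
    S.x_mem_of_comm_simple hH (r := rG 6) (by decide +kernel) (by decide +kernel) (by decide +kernel)
      (odd (by decide +kernel)) (c1 (hp _ (by decide)) h)
  have q10 : ∀ r, certG2.Pos r → ¬ certG2.InJ J r → ∀ t, S.x (rG 10) t ∈ X := by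
    intro r hr hrJ
    by_cases h0 : nG 0 ∈ J
    · have h1 : nG 1 ∉ J := fun h1 => hrJ fun (i : Fin 2) hi => by fin_cases i; exacts [absurd h0 hi, absurd h1 hi]
      obtain ⟨c, hc, z, hz, h⟩ := hJ _ h1
      have e6 : certG2.sp (nG 1) = rG 6 := by decide +kernel
      have e7 : certG2.sp (nG 0) = rG 7 := by decide +kernel
      rw [e6] at h hz
      have h2 : z ∈ S.UJ J := (mul_mem_cancel_left (S.x_mem_UJ (hp _ (by decide))
        (fun h => h1 (certG2.inJ_sp.1 (e6 ▸ h))) c)).1 (hX h)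
      have h3 := S.mem_inter (e6 ▸ Sys.closed_pos_ne (nG 1)) (Cert.nil_of_pos fun r hr => hr.1)
        (Cert.closed_radical J) (Cert.nil_of_pos fun r hr => hr.1) hz h2
      have h4 : z ∈ S.U {r | 2 ≤ Cert.lev ∅ (certG2.rc r)} := S.U_mono (fun s hs => by
        have h5 : ∀ s : Rt chevG2, 1 ≤ certG2.ht s → s ≠ rG 6 → s ≠ rG 7 → 2 ≤ certG2.ht s := by decide +kernel
        show 2 ≤ Cert.lev ∅ _
        rw [Cert.lev_empty]
        exact h5 s (certG2.one_le_ht hs.1.1) hs.1.2 fun e => hs.2.2 (e ▸ e7 ▸ certG2.inJ_sp.2 h0)) h3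
      have l7 : Cert.lev ∅ (certG2.rc (rG 7)) = 1 := e7 ▸ Sys.ht_sp _
      have l6 : Cert.lev ∅ (certG2.rc (rG 6)) = 1 := e6 ▸ Sys.ht_sp _
      have l8 : Cert.lev ∅ (certG2.rc (rG 8)) = 2 := by rw [Cert.lev_empty]; decide +kernel
      have h5 := S.comm_level (Cert.lev ∅) two_pos (a := rG 7) (by omega) 1 h4
      rw [l7] at h5
      obtain ⟨y, hy, e⟩ := S.comm_first (r := rG 6) (s := rG 7) (v := rG 8) (by decide +kernel)
        (T := {r | 2 + 1 ≤ Cert.lev ∅ (certG2.rc r)}) (by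
          rintro u (e | e) <;> · show _ ≤ Cert.lev ∅ _; rw [e, map_add]; omega)
        ((Cert.stab_ge _ _).mono (by rintro _ (rfl | rfl) <;> · show 0 ≤ Cert.lev ∅ _; omega)) (-c) (-1)
      have h6 := mul_mem (hN _ (S.x_mem_P (r := rG 7) (Or.inl (hp _ (by decide))) 1) _ h) (inv_mem h)
      have h7 : S.x (rG 7) 1 * (S.x (rG 6) c * z) * (S.x (rG 7) 1)⁻¹ * (S.x (rG 6) c * z)⁻¹ =
          S.x (rG 8) (-(certG2.N (rG 6) (rG 7) * -c * -1)) * (y * (S.x (rG 6) c *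
            (S.x (rG 7) 1 * z * (S.x (rG 7) 1)⁻¹ * z⁻¹) * (S.x (rG 6) c)⁻¹)) := by
        rw [← mul_assoc (S.x (rG 8) _), ← e, S.x_neg, S.x_neg]; group
      rw [h7] at h6
      have q8 := S.isolate hH (hp (rG 8) (by decide)) (Cert.closed_ge (Cert.lev ∅) (k := 2 + 1) (by norm_num))
        (fun s hs => (Cert.lev_pos_iff.1 (lt_of_lt_of_le (by norm_num) hs)).1)
        ((Cert.stab_ge _ _).mono (by rintro _ rfl; show 0 ≤ Cert.lev ∅ _; omega))
        (fun s hs => Or.inl (by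
          have hs' : 2 + 1 ≤ Cert.lev ∅ (certG2.rc s) := hs
          exact hsep _ s (hp _ (by decide)) (by decide +kernel) (by rintro rfl; omega)
            (by rw [← Cert.lev_empty, ← Cert.lev_empty]; omega)))
        (by simpa [hc] using odd (n := certG2.N (rG 6) (rG 7)) (by decide +kernel))
        (mul_mem hy (S.conj_ge _ (by norm_num) (Subgroup.mem_sup_left (S.x_mem_U (show 0 ≤ Cert.lev ∅ _ by omega) c))
          h5)) h6
      have q9 : ∀ t, S.x (rG 9) t ∈ X := fun t => by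
        obtain ⟨d, hd⟩ := (S.over_ns (nG 0) 1).acts (rG 8)
        have e9 : certG2.ss (nG 0) (rG 8) = rG 9 := Fin.ext (by rw [ssG2]; decide +kernel)
        have := hN _ ((S.over_ns (nG 0) 1).mem_P (certG2.ss_mem_WJ h0)) _ (q8 ((d⁻¹ : Fˣ) * t))
        rwa [hd, e9, Units.mul_inv_cancel_left] at this
      exact S.x_mem_of_comm_simple hH (r := rG 7) (by decide +kernel) (by decide +kernel) (by decide +kernel)
        (odd (by decide +kernel)) (c1 (hp _ (by decide)) q9)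
    · obtain ⟨c, hc, z, hz, h⟩ := hJ _ h0
      have q7 := S.isolate hH (certG2.pos_sp _) (Sys.closed_pos_ne _) (fun s hs => hs.1) (Sys.stab_pos_ne _)
        (fun s hs => Or.inl (hsep _ s (certG2.pos_sp _) (by decide +kernel) hs.2
          (certG2.ht_sp _ ▸ certG2.one_le_ht hs.1))) hc hz h
      exact S.x_mem_of_comm_simple hH (r := rG 9) (by decide +kernel) (by decide +kernel) (by decide +kernel)
        (odd (by decide +kernel)) (c1 (hp _ (by decide)) q7)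
  refine ⟨J, le_antisymm hX (S.UJ_le_of_sep hN hJ (fun r s hr hrJ hs e h => ?_) decG2)⟩
  rcases G2_sep r s (certG2.one_le_ht hr) e h with ⟨u, h1, h2, h3⟩ | ⟨-, rfl | rfl⟩
  · exact Or.inl (S.sep_of h1 h2 (by omega))
  · exact Or.inr (q10 r hr hrJ)
  · exact Or.inr (q11 (q10 r hr hrJ))

end Cfsg.Agent.Chev
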