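import Cfsg.Agent.Chev.Fix
import Cfsg.Agent.StB.ChevBN
import Cfsg.Agent.Tw.Rank
import Cfsg.Prelude.Def_Local

/-!
Centralisers of unipotent radicals; the generalised Fitting subgroup of a group with a self-centralising normal
`p`-subgroup.
-/

set_option autoImplicit false
set_option linter.unusedSimpArgs false
set_option linter.unusedVariables false

attribute [-simp] zsmul_eq_mul nsmul_eq_mul

namespace Cfsg.Agent.Chev

open Cfsg.Lie Cfsg.Lie.ChevalleyDatum Equiv

section general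

variable {X : Type*} [Group X] [Finite X] {p : ℕ} [Fact p.Prime] {Q : Subgroup X} [Q.Normal]

theorem isPGroup_of_nilpotent (hQ : IsPGroup p Q) (hC : IsPGroup p (Subgroup.centralizer (Q : Set X)))
    {N : Subgroup X} [N.Normal] [Group.IsNilpotent N] : IsPGroup p N := by
  refine IsPGroup.of_card (Nat.eq_prime_pow_of_unique_prime_dvd Nat.card_pos.ne' fun {r} hr h => ?_)
  by_contra hne
  have : Fact r.Prime := ⟨hr⟩
  let R : Sylow r N := default
  have := R.characteristic_of_normal inferInstance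
  have h1 := R.isPGroup'.map N.subtype
  have h2 := IsPGroup.disjoint_of_ne r p hne _ _ h1 hC
  refine R.ne_bot_of_dvd_card h ((Subgroup.map_eq_bot_iff_of_injective _ N.subtype_injective).1
    (h2.eq_bot_of_le fun x hx y hy => ?_))
  exact (Subgroup.commute_of_normal_of_disjoint _ _ inferInstance inferInstance
    (IsPGroup.disjoint_of_ne r p hne _ _ h1 hQ) x y hx hy).symm

omit [Finite X] in
theorem comm_of_subnormal {H K : Subgroup X} (hH : H.IsSubnormal) (hK : ⁅K, K⁆ = K) (h : K ≤ H)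
    (h1 : ⁅K, Q ⊓ H⁆ = ⊥) : ⁅K, Q⁆ = ⊥ := by
  induction hH with
  | top => simpa using h1
  | step H H' hle _ hN ih =>
    refine ih (h.trans hle) ?_
    have h2 : ⁅⁅K, Q ⊓ H'⁆, K⁆ = ⊥ := by
      rw [Subgroup.commutator_comm, eq_bot_iff, ← h1]
      refine Subgroup.commutator_mono le_rfl (Subgroup.commutator_le.2 fun k hk q hq => ⟨?_, ?_⟩)
      · exact Subgroup.commutator_le_right K Q (Subgroup.commutator_mem_commutator hk hq.1)
      · have := hN.conj_mem ⟨k⁻¹, hle (h (inv_mem hk))⟩ (h (inv_mem hk)) ⟨q, hq.2⟩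
        simpa [commutatorElement_def, mul_assoc] using mul_mem (h hk) this
    rw [← hK]
    exact Subgroup.commutator_commutator_eq_bot_of_rotate h2 (by rwa [Subgroup.commutator_comm (Q ⊓ H')])

theorem not_isComponent (hQ : IsPGroup p Q) (hC : IsPGroup p (Subgroup.centralizer (Q : Set X)))
    {K : Subgroup X} : ¬ IsComponent K := by
  rintro ⟨h1, h2, h3⟩
  have h4 : Nontrivial K := (QuotientGroup.mk'_surjective (Subgroup.center K)).nontrivial
  have h5 : ∀ {L : Subgroup X}, IsPGroup p L → ¬ K ≤ L := fun hL h =>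
    Group.IsPerfect.not_isNilpotent K (hL.to_le h).isNilpotent
  refine h5 hC (Subgroup.commutator_eq_bot_iff_le_centralizer.1 (comm_of_subnormal h1
    (Subgroup.isPerfect_iff.1 h2) le_rfl ?_))
  have h6 := (hQ.comap_subtype (K := K)).map (QuotientGroup.mk' (Subgroup.center K))
  rcases (Subgroup.Normal.map (H := Q.comap K.subtype) inferInstance _
    (QuotientGroup.mk'_surjective (Subgroup.center K))).eq_bot_or_eq_top with h | h
  · rw [Subgroup.commutator_eq_bot_iff_le_centralizer]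
    intro k hk q hq
    rw [Subgroup.map_eq_bot_iff, QuotientGroup.ker_mk'] at h
    exact congrArg Subtype.val (Subgroup.mem_center_iff.1 (h (x := ⟨q, hq.2⟩) hq.1) ⟨k, hk⟩).symm
  · rw [h] at h6
    exact absurd (h6.of_equiv Subgroup.topEquiv).isNilpotent (Group.IsPerfect.not_isNilpotent _)

theorem isPGroup_genFitting (hQ : IsPGroup p Q) (hC : IsPGroup p (Subgroup.centralizer (Q : Set X))) :
    IsPGroup p (generalizedFittingSubgroup X) := by
  let P : Sylow p X := default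
  refine P.isPGroup'.to_le (sup_le (sSup_le fun K hK => absurd hK (not_isComponent hQ hC)) (sSup_le ?_))
  rintro N ⟨h1, h2⟩
  exact (isPGroup_of_nilpotent hQ hC).le_sylow_of_normal P

end general

namespace Sys

variable {D : ChevalleyDatum} {C : Cert D} {F : Type*} [Field F] {G : Type*} [Group G] (S : Sys C F G)

theorem closed_ge {r : Rt D} (hr : C.Pos r) : C.Closed {s | r ≤ s} := by
  have := Cert.closed_ge (C := C) (Cert.ordL D) (Cert.ordL_pos hr).le
  simpa only [Cert.ordL_le_iff] using this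

theorem conj_mem_ge {r : Rt D} (hr : C.Pos r) {u y : G} (hu : u ∈ S.Up) (hy : y ∈ S.U {s | r ≤ s}) :
    u * y * u⁻¹ ∈ S.U {s | r ≤ s} := by
  have := S.conj_ge (Cert.ordL D) (Cert.ordL_pos hr) (g := u) (u := y)
    (le_sup_left (α := Subgroup G) (S.U_mono (fun s hs => (Cert.ordL_pos hs).le) hu))
  simpa only [Cert.ordL_le_iff, hy, forall_const] using this

theorem le_of_conj_x {g : G} {w : Perm (Rt D)} (hg : S.Cell w g) {r : Rt D} (hr : C.Pos r) {t : F} (ht : t ≠ 0)
    {r' : Rt D} (hr' : C.Pos r') (h : g * S.x r t * g⁻¹ ∈ S.U {s | r' ≤ s}) : r' ≤ w r := by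
  obtain ⟨u, hu, m, hm, u', hu', rfl⟩ := hg
  have hp : ∀ {r : Rt D}, C.Pos r → ∀ s ∈ {s | r ≤ s}, C.Pos s := fun hr s hs =>
    Cert.pos_iff_ordL'.2 ((Cert.ordL_pos hr).trans_le (Cert.ordL_le_iff.2 hs))
  have h1 := S.conj_mem_ge hr hu' (S.x_mem_U (T := {s | r ≤ s}) (le_refl r) t)
  have h2 : u' * S.x r t * u'⁻¹ ∈ S.U (w ⁻¹' {s | r' ≤ s}) := by
    have := hm.acts.inv_conj_mem (T := {s | r' ≤ s}) (T' := w ⁻¹' {s | r' ≤ s}) (fun r hr => by simpa using hr)
      (S.conj_mem_ge hr' (inv_mem hu) h)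
    simpa [mul_assoc] using this
  have h3 := S.mem_inter (closed_ge hr) (Cert.nil_of_pos (hp hr)) ((closed_ge hr').preimage hm.mem_Aut)
    ((Cert.nil_of_pos (hp hr')).preimage hm.mem_W) h1 h2
  by_contra hn
  apply ht
  have h4 := Cert.ordL_pos hr
  rw [← Tw.cd_conj_x (S := S) (inv_mem hu') hr t, inv_inv]
  exact S.cd_eq_zero_of_notMem (f := Cert.ordL D) h4.le (fun s hs => Cert.ordL_le_iff.2 hs.1) (by omega)
    (fun h => hn h.2) h3

theorem mem_Up_of_commute_rad (hφ : Function.Injective S.φ) {J : Set (Nd D)} {i₀ : Nd D} (h0 : i₀ ∉ J) {g : G}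
    (h : ∀ r, C.Pos r → ¬ C.InJ J r → g * S.x r 1 * g⁻¹ = S.x r 1) : g ∈ S.Up := by
  obtain ⟨w, hw, hg⟩ := S.exists_cell g
  have h1 : ∀ r, C.Pos r → ¬ C.InJ J r → r ≤ w r := fun r hr hr' =>
    S.le_of_conj_x hg hr one_ne_zero hr (by rw [h r hr hr']; exact S.x_mem_U le_rfl _)
  have h2 : ∀ r, C.Pos r → ¬ C.InJ J r → C.Pos (w r) := fun r hr hr' =>
    Cert.pos_iff_ordL'.2 ((Cert.ordL_pos hr).trans_le (Cert.ordL_le_iff.2 (h1 r hr hr')))
  have hJ := Cert.mem_WJ_of_pos hw h2
  have h3 : ∀ r, C.Pos r ∧ ¬ C.InJ J r → w r = r := by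
    rintro r ⟨hr, hr'⟩
    have h4 := h (w r) (h2 r hr hr') (by rwa [Cert.inJ_map hJ])
    have := S.le_of_conj_x hg.inv (h2 r hr hr') one_ne_zero (h2 r hr hr') (by
      nth_rewrite 1 [← h4]; simpa [mul_assoc] using S.x_mem_U (T := {s | w r ≤ s}) (le_refl (w r)) _)
    exact le_antisymm (by simpa using this) (h1 r hr hr')
  have h4 : ∀ {P : Rt D → Prop}, (∀ r, C.Pos r ∧ ¬ C.InJ J r → P r) →
      (∀ j r u, P r → P u → C.rc u = C.rc (C.sp j) + C.rc r → P (C.sp j)) → ∀ j, P (C.sp j) := by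
    intro P hP hP' j
    by_cases hj : j ∈ J
    · obtain ⟨r, u, hr, hu, e⟩ := StB.exists_radical_add (C := C) h0 hj
      exact hP' j r u (hP r hr) (hP u hu) e
    · exact hP _ ⟨C.pos_sp j, fun h => hj (C.inJ_sp.1 h)⟩
  obtain rfl : w = 1 := Cert.eq_one_of_pos hw fun j => by
    rw [h4 (P := fun r => w r = r) h3 (fun j r u hr hu e => ?_) j]
    · exact C.pos_sp j
    · have := Cert.Aut.map_add (C.W_le_Aut hw) e
      rw [hr, hu, e] at this
      exact (C.rc_inj (add_right_cancel this)).symm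
  obtain ⟨u, hu, a, ha, rfl⟩ := S.mem_B.1 (cell_one_iff.1 hg)
  have h5 : a = 1 := S.eq_of_chi hφ ha (one_mem _) fun j => by
    rw [chi_one]
    refine h4 (P := fun r => S.chi a r = 1) (fun r hr => ?_) (fun j r u hr hu e => ?_) j
    · have h6 := Tw.cd_conj_x (S := S) hu hr.1 1
      rw [← h r hr.1 hr.2, show u⁻¹ * (u * a * S.x r 1 * (u * a)⁻¹) * u = a * S.x r 1 * a⁻¹ by group, H_conj_x ha,
        cd_x_self, mul_one] at h6
      exact Units.ext h6
    · have := (isChar_chi ha).2 _ _ _ e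
      rwa [hr, hu, mul_one, eq_comm] at this
  rwa [h5, mul_one]

end Sys

end Cfsg.Agent.Chev
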