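import Cfsg.Agent.Chev.Over2
import Cfsg.Agent.Tw.BN

/-!
Gauss decomposition with a prescribed Levi component, up to conjugation.
-/

set_option autoImplicit false
set_option linter.unusedSimpArgs false
set_option linter.unusedVariables false

namespace Cfsg.Agent.Chev

open Cfsg.Lie Cfsg.Lie.ChevalleyDatum Equiv Tw

attribute [-simp] zsmul_eq_mul nsmul_eq_mul

/-- an element acting without fixed points on a finite subgroup absorbs it -/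
theorem absorb {G : Type*} [Group G] {Q : Subgroup G} [Finite Q] {x : G} (h1 : ∀ u ∈ Q, x * u * x⁻¹ ∈ Q)
    (h2 : ∀ u ∈ Q, x * u = u * x → u = 1) {u : G} (hu : u ∈ Q) : ∃ k ∈ Q, k * x * k⁻¹ = u * x := by
  let φ : Q → Q := fun b => ⟨b * (x * (b : G)⁻¹ * x⁻¹), mul_mem b.2 (h1 _ (inv_mem b.2))⟩
  have hinj : Function.Injective φ := by
    intro a b hab
    have h3 : (a : G) * (x * (a : G)⁻¹ * x⁻¹) = b * (x * (b : G)⁻¹ * x⁻¹) := congrArg Subtype.val hab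
    have h4 := h2 ((b : G)⁻¹ * a) (mul_mem (inv_mem b.2) a.2) (by
      calc x * ((b : G)⁻¹ * a) = (b : G)⁻¹ * (b * (x * (b : G)⁻¹ * x⁻¹)) * x * a := by group
        _ = _ := by rw [← h3]; group)
    exact Subtype.ext (inv_mul_eq_one.1 h4).symm
  obtain ⟨b, hb⟩ := Finite.surjective_of_injective hinj ⟨u, hu⟩
  exact ⟨b, b.2, by rw [← show (b : G) * (x * (b : G)⁻¹ * x⁻¹) = u from congrArg Subtype.val hb]; group⟩

namespace Sys

variable {D : ChevalleyDatum} {C : Cert D} {F : Type*} [Field F] {G : Type*} [Group G] (S : Sys C F G)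

/-- the opposite radical -/
def QM (J : Set (Nd D)) : Subgroup G := S.U {r | ¬ C.Pos r ∧ ¬ C.InJ J r}

theorem QM_eq (J : Set (Nd D)) : S.QM J = S.U {r | 1 ≤ (- Cert.lev J) (C.rc r)} := by
  unfold QM
  congr 1
  ext r
  have := Cert.lev_nonneg_iff (C := C) (J := J) (r := r)
  simp only [Set.mem_ofPred_eq, LinearMap.neg_apply, ← not_or, ← this]
  omega

theorem QM_le_Um (J : Set (Nd D)) : S.QM J ≤ S.Um := S.U_le_Um fun _ h => h.1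

theorem L_le_lev (J : Set (Nd D)) : S.L J ≤ S.U {r | 0 ≤ (- Cert.lev J) (C.rc r)} ⊔ S.H :=
  sup_le_sup_right (S.U_mono fun r hr => by
    have := Cert.lev_eq_zero_iff.2 hr
    simp only [Set.mem_ofPred_eq, LinearMap.neg_apply, this, neg_zero, le_refl]) _

theorem L_conj_QM {J : Set (Nd D)} {g u : G} (hg : g ∈ S.L J) (hu : u ∈ S.QM J) : g * u * g⁻¹ ∈ S.QM J := by
  rw [QM_eq] at hu ⊢
  exact S.conj_ge _ one_pos (S.L_le_lev J hg) hu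

theorem L_conj_UJ {J : Set (Nd D)} {g u : G} (hg : g ∈ S.L J) (hu : u ∈ S.UJ J) : g * u * g⁻¹ ∈ S.UJ J :=
  S.P_conj_UJ (S.L_le_P J hg) hu

theorem eq_one_of_QM_P {J : Set (Nd D)} {v : G} (hv : v ∈ S.QM J) (hP : v ∈ S.P J) : v = 1 := by
  apply S.eq_one_of_φ (Cert.nil_of_neg fun _ h => h.1) hv
  rw [QM_eq] at hv
  apply (S.up_of_mem zero_le_one (fun _ h => h) hv).eq_one
  rw [P_eq_lev] at hP
  obtain ⟨u, hu, a, ha, rfl⟩ := S.mem_U_sup_H.1 hP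
  intro i j hij h
  rw [map_mul, φ_eq_dg ha, Cert.dg, Matrix.mul_diagonal] at h
  have := S.up_of_mem le_rfl (fun _ h => h) hu i j (by simpa [Matrix.one_apply, hij] using left_ne_zero_of_mul h)
  simp only [LinearMap.neg_apply]; omega

theorem gauss_unique {J : Set (Nd D)} {v v' l l' u u' : G} (hv : v ∈ S.QM J) (hv' : v' ∈ S.QM J) (hl : l ∈ S.L J)
    (hl' : l' ∈ S.L J) (hu : u ∈ S.UJ J) (hu' : u' ∈ S.UJ J) (e : v * l * u = v' * l' * u') :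
    v = v' ∧ l = l' ∧ u = u' := by
  have h1 : v'⁻¹ * v = 1 := S.eq_one_of_QM_P (mul_mem (inv_mem hv') hv) (by
    rw [show v'⁻¹ * v = l' * u' * (l * u)⁻¹ by
      rw [show v = v * l * u * (l * u)⁻¹ by group, e]; group]
    exact mul_mem (mul_mem (S.L_le_P J hl') (S.UJ_le_P J hu')) (inv_mem (mul_mem (S.L_le_P J hl) (S.UJ_le_P J hu))))
  obtain rfl := inv_mul_eq_one.1 h1
  rw [mul_assoc, mul_assoc, mul_right_inj] at e
  have h2 : u * u'⁻¹ = 1 := S.eq_one_of_mem_UJ_L (mul_mem hu (inv_mem hu')) (by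
    rw [show u * u'⁻¹ = l⁻¹ * l' by rw [show u = l⁻¹ * (l * u) by group, e]; group]
    exact mul_mem (inv_mem hl) hl')
  obtain rfl := mul_inv_eq_one.1 h2
  exact ⟨rfl, mul_right_cancel e, rfl⟩

theorem XJ_le_L (J : Set (Nd D)) {p : Rt D → Prop} : S.U {r | p r ∧ C.InJ J r} ≤ S.L J :=
  (S.U_mono fun _ h => h.2).trans le_sup_left

theorem cd_conj_H {a : G} (ha : a ∈ S.H) {f : (Nd D → ℤ) →ₗ[ℤ] ℤ} {k : ℤ} (hk : 0 ≤ k) {r : Rt D}
    (hr : f (C.rc r) < 2 * k) {u : G} (hu : u ∈ S.U {s | k ≤ f (C.rc s)}) :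
    S.cd r (a * u * a⁻¹) = S.chi a r * S.cd r u :=
  S.cd_conj_acts (over_of_mem_H ha).acts (one_mem _) hk (fun _ h => h) hr (H_conj_x ha r) hu

variable {S} {T : Stb S} {K : Subgroup G}

theorem _root_.Cfsg.Agent.Tw.Stb.Stable.σ_QM {J : Set (Nd D)} (h : T.Stable J) {u : G} (hu : u ∈ S.QM J) :
    T.σ u ∈ S.QM J :=
  T.σ_U (fun r hr => And.intro (by rw [T.pos]; exact hr.1) (by rw [h.inJ]; exact hr.2)) hu

theorem gauss_fix {J : Set (Nd D)} (hJ : T.Stable J) {v l u : G} (hv : v ∈ S.QM J) (hl : l ∈ S.L J) (hu : u ∈ S.UJ J)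
    (e : T.σ (v * l * u) = v * l * u) : T.σ v = v ∧ T.σ l = l ∧ T.σ u = u := by
  rw [map_mul, map_mul] at e
  exact S.gauss_unique (hJ.σ_QM hv) hv (hJ.σ_L hl) hl (hJ.σ_UJ hu) hu e

theorem split_Up (hK : T.Good K) {J : Set (Nd D)} (hJ : T.Stable J) {u : G} (hu : u ∈ K) (hu' : u ∈ S.Up) :
    ∃ a ∈ K, a ∈ S.U {r | C.Pos r ∧ C.InJ J r} ∧ ∃ b ∈ K, b ∈ S.UJ J ∧ u = a * b := by
  obtain ⟨a, ha, b, hb, rfl⟩ := S.split_pos (T1 := {r | C.InJ J r}) (T2 := {r | ¬ C.InJ J r}) Cert.closed_pos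
    (fun _ h => h) (fun r _ => em _) hu'
  have := gauss_fix hJ (one_mem _) (S.XJ_le_L J ha) hb (by rw [one_mul]; exact hK.fix _ hu)
  exact ⟨a, hK.up _ (S.U_le_Up (fun _ h => h.1) ha) this.2.1, ha, b, hK.up _ (S.UJ_le_Up J hb) this.2.2, hb, rfl⟩

theorem split_Um (hK : T.Good K) {J : Set (Nd D)} (hJ : T.Stable J) {u : G} (hu : u ∈ K) (hu' : u ∈ S.Um) :
    ∃ b ∈ K, b ∈ S.QM J ∧ ∃ a ∈ K, a ∈ S.U {r | ¬ C.Pos r ∧ C.InJ J r} ∧ u = b * a := by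
  obtain ⟨b, hb, a, ha, rfl⟩ := S.split (T1 := {r | ¬ C.InJ J r}) (T2 := {r | C.InJ J r}) Cert.closed_neg
    (Cert.nil_of_neg fun _ h => h) (fun r _ => (em _).symm) hu'
  have := gauss_fix hJ hb (S.XJ_le_L J ha) (one_mem _) (by rw [mul_one]; exact hK.fix _ hu)
  exact ⟨b, hK.um _ (S.QM_le_Um J hb) this.1, hb, a, hK.um _ (S.U_le_Um (fun _ h => h.1) ha) this.2.1, ha, rfl⟩

variable (S K) in
/-- `h` is the diagonal part of an element of the coset `U m` -/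
def Gd (m h : G) : Prop :=
  h ∈ K ∧ h ∈ S.H ∧ ∃ y ∈ K, y ∈ S.Up ∧ ∃ v ∈ K, v ∈ S.Um ∧ ∃ u ∈ K, u ∈ S.Up ∧ y * m = v * h * u

theorem Gd.mul_H {m h a : G} (e : S.Gd K m h) (ha : a ∈ K) (ha' : a ∈ S.H) : S.Gd K (m * a) (h * a) := by
  obtain ⟨h1, h2, y, hy, hy', v, hv, hv', u, hu, hu', e⟩ := e
  exact ⟨mul_mem h1 ha, mul_mem h2 ha', y, hy, hy', v, hv, hv', a⁻¹ * u * a, mul_mem (mul_mem (inv_mem ha) hu) ha,
    H_inv_conj_U ha' hu', by rw [← mul_assoc, e]; group⟩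

theorem Gd.H_mul {m h a : G} (e : S.Gd K m h) (ha : a ∈ K) (ha' : a ∈ S.H) : S.Gd K (a * m) (a * h) := by
  obtain ⟨h1, h2, y, hy, hy', v, hv, hv', u, hu, hu', e⟩ := e
  exact ⟨mul_mem ha h1, mul_mem ha' h2, a * y * a⁻¹, mul_mem (mul_mem ha hy) (inv_mem ha), H_conj_U ha' hy',
    a * v * a⁻¹, mul_mem (mul_mem ha hv) (inv_mem ha), H_conj_U ha' hv', u, hu, hu', by
      rw [show a * y * a⁻¹ * (a * m) = a * (y * m) by group, e]; group⟩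

theorem gd_one : S.Gd K 1 1 :=
  ⟨one_mem _, one_mem _, 1, one_mem _, one_mem _, 1, one_mem _, one_mem _, 1, one_mem _, one_mem _, by simp⟩

theorem Gd.mul (hK : T.Good K) {J : Set (Nd D)} (hJ : T.Stable J) {m n h k : G} {w w' : Perm (Rt D)} (hm : m ∈ K)
    (hm' : S.Over m w) (hn : n ∈ K) (hn' : S.Over n w') (hw : ∀ j ∈ J, C.Pos (w (C.sp j))) (hw' : w' ∈ C.WJ J)
    (e : S.Gd K m h) (e' : S.Gd K n k) : S.Gd K (m * n) (h * k) := by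
  obtain ⟨h1, h2, y, hy, hy', v, hv, hv', u, hu, hu', e⟩ := e
  obtain ⟨k1, k2, y2, hy2, hy2', v2, hv2, hv2', u2, hu2, hu2', e'⟩ := e'
  obtain ⟨z, hz, hz', b, hb, hb', e2⟩ := split_Up hK hJ (mul_mem (inv_mem hu) hy2) (mul_mem (inv_mem hu') hy2')
  refine ⟨mul_mem h1 k1, mul_mem h2 k2, y * (m * z * m⁻¹), mul_mem hy (mul_mem (mul_mem hm hz) (inv_mem hm)),
    mul_mem hy' (hm'.acts.conj_mem (T' := {r | C.Pos r}) (fun r hr => Cert.pos_of_min hm'.mem_Aut hw hr.1 hr.2) hz'),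
    v * (h * v2 * h⁻¹), mul_mem hv (mul_mem (mul_mem h1 hv2) (inv_mem h1)), mul_mem hv' (H_conj_U h2 hv2'),
    u2 * (n⁻¹ * b⁻¹ * n⁻¹⁻¹), mul_mem hu2 (mul_mem (mul_mem (inv_mem hn) (inv_mem hb)) (inv_mem (inv_mem hn))),
    mul_mem hu2' (S.UJ_le_Up J (S.P_conj_UJ (inv_mem (hn'.mem_P hw')) (inv_mem hb'))), ?_⟩
  calc _ = y * m * (z * b) * b⁻¹ * n := by group
    _ = v * h * (y2 * n) * (n⁻¹ * b⁻¹ * n) := by rw [e, ← e2]; group
    _ = _ := by rw [e']; group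

theorem exists_gd_orb (hK : T.BN K) {i : Nd D} {n : G} (hn : n ∈ K) (hn' : S.Over n (C.w0 (T.orb i))) :
    ∃ h, S.Gd K n h := by
  obtain ⟨x, hx, h1⟩ := hK.ne i
  obtain ⟨u, hu, m, hm, hm', u', hu', e⟩ := hK.toGood.cell_Xm (Stb.conj_Xp hn hn' hx) (by simpa using h1)
  have h2 : S.Gd K m 1 := ⟨one_mem _, one_mem _, u, hu.2, Stb.Xp_le_Up i hu, _, (Stb.conj_Xp hn hn' hx).2,
    Stb.Xm_le_Um i (Stb.conj_Xp hn hn' hx), u'⁻¹, inv_mem hu'.2, inv_mem (Stb.Xp_le_Up i hu'), by rw [e]; group⟩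
  exact ⟨_, by simpa using h2.mul_H (mul_mem (inv_mem hm) hn) (hm'.inv_mul_mem_H hn')⟩

theorem gd_step (hK : T.Good K) {i : Nd D} {m : G} {w : Perm (Rt D)} (hm : m ∈ K)
    (hm' : S.Over m (w * C.w0 (T.orb i))) : ∃ n ∈ K, S.Over n (C.w0 (T.orb i)) ∧ S.Over (m * n⁻¹) w := by
  obtain ⟨n, hn, hn'⟩ := hK.ex_orb i
  exact ⟨n, hn, hn', by simpa using hm'.mul hn'.inv⟩

theorem exists_gd (hK : T.BN K) {w : Perm (Rt D)} (hw : w ∈ C.W) (e : T.cj w = w) :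
    ∀ m ∈ K, S.Over m w → ∃ h, S.Gd K m h := by
  refine Stb.fix_induction (T := T) (P := fun w => ∀ m ∈ K, S.Over m w → ∃ h, S.Gd K m h) ?_ ?_ hw e
  · intro m hm hm'
    exact ⟨_, by simpa using gd_one.mul_H hm hm'.mem_H⟩
  · intro w hw e i hi ih m hm hm'
    obtain ⟨n, hn, hn', h1⟩ := gd_step hK.toGood hm hm'
    obtain ⟨h, h2⟩ := ih _ (mul_mem hm (inv_mem hn)) h1
    obtain ⟨k, h3⟩ := exists_gd_orb hK hn hn'
    exact ⟨_, by simpa using Gd.mul hK.toGood (T.stable_orb i) (mul_mem hm (inv_mem hn)) h1 hn hn' hi (C.w0_mem _) h2 h3⟩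

theorem gd_pred (hK : T.BN K) {J : Set (Nd D)} (hJ : T.Stable J) {P : G → Prop}
    (h1 : ∀ i, i ∉ J → ∀ n ∈ K, S.Over n (C.w0 (T.orb i)) → ∃ h, S.Gd K n h ∧ P h) {w : Perm (Rt D)} (hw : w ∈ C.W)
    (e : T.cj w = w) : w ∉ C.WJ J → ∀ m ∈ K, S.Over m w → ∃ h, S.Gd K m h ∧ P h := by
  refine Stb.fix_induction (T := T) (P := fun w => w ∉ C.WJ J → ∀ m ∈ K, S.Over m w → ∃ h, S.Gd K m h ∧ P h)
    (fun h => absurd (one_mem _) h) ?_ hw e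
  intro w hw e i hi ih h2 m hm hm'
  obtain ⟨n, hn, hn', h3⟩ := gd_step hK.toGood hm hm'
  have h4 := mul_mem hm (inv_mem hn)
  by_cases h5 : w ∈ C.WJ J
  · obtain ⟨h, h6⟩ := exists_gd hK hw e _ h4 h3
    obtain ⟨k, h7, h8⟩ := h1 i (fun hi' => h2 (mul_mem h5 (C.WJ_mono (fun j hj => (hJ.orb_iff hj).2 hi') (C.w0_mem _))))
      (h * n) (mul_mem h6.1 hn) (hn'.H_mul h6.2.1)
    have h9 := h7.H_mul (inv_mem h6.1) (inv_mem h6.2.1)
    rw [inv_mul_cancel_left] at h9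
    exact ⟨k, by simpa using Gd.mul hK.toGood (T.stable_orb i) h4 h3 hn hn' hi (C.w0_mem _) h6 h9, h8⟩
  · obtain ⟨k, h6⟩ := exists_gd_orb hK hn hn'
    obtain ⟨h, h7, h8⟩ := ih h5 _ (mul_mem h4 h6.1) (h3.mul_H h6.2.1)
    have h9 := h7.mul_H (inv_mem h6.1) (inv_mem h6.2.1)
    rw [mul_inv_cancel_right] at h9
    exact ⟨h, by simpa using Gd.mul hK.toGood (T.stable_orb i) h4 h3 hn hn' hi (C.w0_mem _) h9 h6, h8⟩

/-- a proper parabolic subgroup contains no nontrivial normal subgroup -/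
theorem exists_conj_notMem (hK : T.Good K) (hφ : Function.Injective S.φ) (hw : ∀ r, C.w0 Set.univ r = r.rev)
    {J : Set (Nd D)} {i₀ : Nd D} (h0 : i₀ ∉ J)
    (hl : ∀ r, C.Pos r → ¬ C.InJ J r → ∃ y ∈ K, y ∈ S.UJ J ∧ y ∈ S.U {s | C.ht r ≤ Cert.lev ∅ (C.rc s)} ∧ S.cd r y ≠ 0)
    {g : G} (hg : g ∈ K) (h1 : g ≠ 1) : ∃ k ∈ K, k * g * k⁻¹ ∉ S.P J := by
  by_contra h2
  push Not at h2
  obtain ⟨n, hn, hn'⟩ := hK.ex_w0
  have k0 : ∀ u ∈ S.UJ J, n * u * n⁻¹ ∈ S.QM J := fun u hu => hn'.acts.conj_mem (fun r hr =>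
    And.intro (by rw [hw]; exact C.not_pos_rev hr.1) (by rw [hw, C.inJ_rev]; exact hr.2)) hu
  have k1 : ∀ g ∈ K, (∀ k ∈ K, k * g * k⁻¹ ∈ S.P J) → ∀ u ∈ K, u ∈ S.UJ J → g * u = u * g := by
    intro g hg h2 u hu hu'
    have h3 : g ∈ S.P J := by simpa using h2 1 (one_mem _)
    have h4 := k0 _ (mul_mem (S.P_conj_UJ h3 hu') (inv_mem hu'))
    have h5 := S.eq_one_of_QM_P h4 (by
      rw [show n * (g * u * g⁻¹ * u⁻¹) * n⁻¹ = n * g * n⁻¹ * (n * u * g * (n * u)⁻¹)⁻¹ by group]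
      exact mul_mem (h2 _ hn) (inv_mem (h2 _ (mul_mem hn hu))))
    rw [conj_eq_one_iff] at h5
    rw [show g * u = g * u * g⁻¹ * u⁻¹ * (u * g) by group, h5, one_mul]
  have k2 : ∀ g ∈ K, (∀ k ∈ K, k * g * k⁻¹ ∈ S.P J) → g ∈ S.B := fun g hg h2 => S.mem_B_of_commute h0 fun r hr hr' => by
    obtain ⟨y, hy, h3, h4, h5⟩ := hl r hr hr'
    exact ⟨y, h4, h5, k1 g hg h2 y hy h3⟩
  obtain ⟨u, hu, a, ha, rfl⟩ := S.mem_B.1 (k2 g hg h2)
  have h3 := k2 _ (mul_mem (mul_mem hn hg) (inv_mem hn)) fun k hk => by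
    rw [show k * (n * (u * a) * n⁻¹) * k⁻¹ = k * n * (u * a) * (k * n)⁻¹ by group]
    exact h2 _ (mul_mem hk hn)
  have h4 : n * u * n⁻¹ = 1 := S.eq_one_of_mem_Um_B (hn'.acts.conj_mem (T' := {r | ¬ C.Pos r})
    (fun r hr => by rw [hw]; exact C.not_pos_rev hr) hu) (by
      rw [show n * u * n⁻¹ = n * (u * a) * n⁻¹ * (n * a * n⁻¹)⁻¹ by group]
      exact mul_mem h3 (inv_mem (S.H_le_B (S.N_conj_H hn'.mem_N ha))))
  rw [conj_eq_one_iff] at h4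
  subst h4
  rw [one_mul] at hg h1 h2
  have h5 : ∀ r, C.Pos r → ¬ C.InJ J r → S.chi a r = 1 := by
    intro r hr hr'
    obtain ⟨y, hy, h3, h4, h5⟩ := hl r hr hr'
    have h6 := C.one_le_ht hr
    have h7 := S.cd_conj_H ha (f := Cert.lev ∅) (k := C.ht r) (r := r) (by omega) (by rw [C.lev_empty]; omega) h4
    rw [k1 a hg h2 y hy h3, mul_inv_cancel_right] at h7
    exact Units.ext (by simpa using (mul_left_eq_self₀.1 h7.symm).resolve_right h5)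
  refine h1 (S.eq_of_chi hφ ha (one_mem _) fun j => ?_)
  rw [chi_one]
  by_cases hj : j ∈ J
  · obtain ⟨r, u, hr, hu, e⟩ := StB.exists_radical_add (C := C) h0 hj
    have := (isChar_chi ha).2 _ _ _ e
    rw [h5 r hr.1 hr.2, h5 u hu.1 hu.2] at this
    simpa using this.symm
  · exact h5 _ (C.pos_sp j) fun h => hj (C.inJ_sp.1 h)

end Sys

end Cfsg.Agent.Chev
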