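import Cfsg.Agent.Chev.Grp

/-!
Optimal real functionals for a unipotent subset (Kempf–Rousseau) and the Borel–Tits theorem.
-/

set_option autoImplicit false
set_option linter.unusedSimpArgs false
set_option linter.unusedVariables false

namespace Cfsg.Agent.Chev

open Cfsg.Lie Cfsg.Lie.ChevalleyDatum Equiv

attribute [-simp] zsmul_eq_mul nsmul_eq_mul

namespace Cert

variable {D : ChevalleyDatum} (C : Cert D)

theorem exists_domR (J : Set (Nd D)) (f : (Nd D → ℤ) →ₗ[ℤ] ℝ) :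
    ∃ w ∈ C.WJ J, ∀ j ∈ J, 0 ≤ f (C.rc (w (C.sp j))) := by
  obtain ⟨w, hw⟩ := Finite.exists_max fun w : C.WJ J => ∑ r ∈ C.posF, f (C.rc (w.1 r))
  refine ⟨w, w.2, fun j hj => ?_⟩
  have h1 := hw (w * ⟨C.ss j, C.ss_mem_WJ hj⟩)
  have h2 := C.sum_pos_ss (fun r => f (C.rc (w.1 r))) j
  simp only [Aut.map_rev (C.WJ_le_Aut J w.2), rc_neg, map_neg] at h2
  simp only [Subgroup.coe_mul, Perm.mul_apply] at h1
  linarith

variable {C}

theorem nonneg_of_domR {J : Set (Nd D)} {f : (Nd D → ℤ) →ₗ[ℤ] ℝ} (hf : ∀ j ∈ J, 0 ≤ f (C.rc (C.sp j)))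
    {r : Rt D} (hr : C.Pos r) (hJ : C.InJ J r) : 0 ≤ f (C.rc r) := by
  rw [C.eq_sum_sp (C.rc r), map_sum]
  apply Finset.sum_nonneg
  intro i _
  rw [map_smul]
  by_cases hi : i ∈ J
  · exact zsmul_nonneg (hf i hi) (hr i)
  · rw [hJ i hi, zero_smul]

theorem zero_of_inJR {J : Set (Nd D)} {f : (Nd D → ℤ) →ₗ[ℤ] ℝ} (hf : ∀ j ∈ J, f (C.rc (C.sp j)) = 0)
    {r : Rt D} (hJ : C.InJ J r) : f (C.rc r) = 0 := by
  rw [C.eq_sum_sp (C.rc r), map_sum]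
  apply Finset.sum_eq_zero
  intro i _
  rw [map_smul]
  by_cases hi : i ∈ J
  · rw [hf i hi, smul_zero]
  · rw [hJ i hi, zero_smul]

theorem comp_lin_ssR {f : (Nd D → ℤ) →ₗ[ℤ] ℝ} {j : Nd D} (h : f (C.rc (C.sp j)) = 0) :
    f ∘ₗ C.lin (C.ss j) = f := by
  refine LinearMap.ext fun x => ?_
  rw [LinearMap.comp_apply, ss, lin_sr, map_sub, map_smul, h]; simp

theorem dom_uniqueR {J : Set (Nd D)} {f : (Nd D → ℤ) →ₗ[ℤ] ℝ} (hf : ∀ j ∈ J, 0 ≤ f (C.rc (C.sp j)))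
    {v : Perm (Rt D)} (hv : v ∈ C.WJ J) (hf' : ∀ j ∈ J, 0 ≤ f (C.rc (v (C.sp j)))) :
    f ∘ₗ C.lin v = f ∧ v ∈ C.WJ {j | j ∈ J ∧ f (C.rc (C.sp j)) = 0} := by
  have key : (∀ j ∈ J, 0 ≤ f (C.rc (v (C.sp j)))) → f ∘ₗ C.lin v = f ∧
      v ∈ C.WJ {j | j ∈ J ∧ f (C.rc (C.sp j)) = 0} := by
    refine lnJ_induction_right (P := fun v => (∀ j ∈ J, 0 ≤ f (C.rc (v (C.sp j)))) → f ∘ₗ C.lin v = f ∧
      v ∈ C.WJ {j | j ∈ J ∧ f (C.rc (C.sp j)) = 0}) (fun _ => ⟨by simp [lin_one], one_mem _⟩) ?_ hv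
    intro w hw j hj hp ih h
    have hw' := C.WJ_le_Aut J hw
    have h1 : 0 ≤ f (C.rc (w (C.sp j))) := nonneg_of_domR hf hp ((inJ_map hw _).2 (C.inJ_sp.2 hj))
    have h2 := h j hj
    rw [Perm.mul_apply, ss_sp, Aut.map_rev hw', rc_neg, map_neg] at h2
    have h3 : (f ∘ₗ C.lin w) (C.rc (C.sp j)) = 0 := by rw [LinearMap.comp_apply, ← Aut.rc_map hw']; linarith
    have h4 := comp_lin_ssR h3
    obtain ⟨h5, h6⟩ := ih fun k hk => by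
      have := h k hk
      rwa [Perm.mul_apply, Aut.rc_map hw', Aut.rc_map (C.ss_mem_Aut j), ← LinearMap.comp_apply,
        ← LinearMap.comp_apply, h4, LinearMap.comp_apply, ← Aut.rc_map hw'] at this
    refine ⟨by rw [C.lin_mul hw', ← LinearMap.comp_assoc, h4, h5], mul_mem h6 (C.ss_mem_WJ ⟨hj, ?_⟩)⟩
    rw [← h3, h5]
  exact key hf'

theorem pos_of_domR {f : (Nd D → ℤ) →ₗ[ℤ] ℝ} (hf : ∀ j, 0 ≤ f (C.rc (C.sp j))) {r : Rt D}
    (h : 0 < f (C.rc r)) : C.Pos r := by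
  by_contra h1
  have := nonneg_of_domR (J := Set.univ) (fun j _ => hf j) ((C.pos_rev_iff r).2 h1) (C.inJ_univ _)
  rw [rc_neg, map_neg] at this
  linarith

theorem closed_geR (f : (Nd D → ℤ) →ₗ[ℤ] ℝ) {k : ℝ} (hk : 0 ≤ k) : C.Closed {r | k ≤ f (C.rc r)} := by
  intro a ha r hr u e
  simp only [Set.mem_ofPred_eq] at *
  rw [e, map_add]; linarith

theorem stab_domR {f : (Nd D → ℤ) →ₗ[ℤ] ℝ} (hf : ∀ j, 0 ≤ f (C.rc (C.sp j))) (k : ℝ) :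
    C.Stab {r | C.Pos r} {r | k ≤ f (C.rc r)} := by
  intro a ha r hr u e
  have := nonneg_of_domR (J := Set.univ) (fun j _ => hf j) hr (C.inJ_univ _)
  simp only [Set.mem_ofPred_eq] at *
  rw [e, map_add]; linarith

/-- the real functional with the given values on the fundamental roots -/
noncomputable def evR {D : ChevalleyDatum} (v : Nd D → ℝ) : (Nd D → ℤ) →ₗ[ℤ] ℝ where
  toFun x := ∑ i, (x i : ℝ) * v i
  map_add' x y := by simp [add_mul, Finset.sum_add_distrib]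
  map_smul' c x := by
    simp only [Pi.smul_apply, smul_eq_mul, Int.cast_mul, RingHom.id_apply, Finset.smul_sum, zsmul_eq_mul, mul_assoc]

theorem evR_apply (v : Nd D → ℝ) (x : Nd D → ℤ) : evR v x = ∑ i, (x i : ℝ) * v i := rfl

theorem evR_sp (v : Nd D → ℝ) (j : Nd D) : evR v (C.rc (C.sp j)) = v j := by
  rw [evR_apply, Finset.sum_eq_single j]
  · simp [rc_sp_apply]
  · intro i _ h; simp [rc_sp_apply, h]
  · simp

theorem evR_eq (f : (Nd D → ℤ) →ₗ[ℤ] ℝ) : evR (fun j => f (C.rc (C.sp j))) = f :=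
  C.lin_ext fun i => evR_sp _ i

theorem continuous_evR (x : Nd D → ℤ) : Continuous fun v : Nd D → ℝ => evR v x := by
  simp only [evR_apply]; fun_prop

variable (C) in
/-- the invariant norm of a real functional -/
noncomputable def qR (f : (Nd D → ℤ) →ₗ[ℤ] ℝ) : ℝ := ∑ r, f (C.rc r) ^ 2

theorem qR_comp {w : Perm (Rt D)} (hw : w ∈ C.Aut) (f : (Nd D → ℤ) →ₗ[ℤ] ℝ) : C.qR (f ∘ₗ C.lin w) = C.qR f := by
  unfold qR
  simp only [LinearMap.comp_apply, ← Aut.rc_map hw]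
  exact Equiv.sum_comp w fun r => f (C.rc r) ^ 2

theorem sq_le_qR (f : (Nd D → ℤ) →ₗ[ℤ] ℝ) (r : Rt D) : f (C.rc r) ^ 2 ≤ C.qR f :=
  Finset.single_le_sum (f := fun r => f (C.rc r) ^ 2) (fun _ _ => sq_nonneg _) (Finset.mem_univ r)

/-- a family of root sets has an optimal functional -/
theorem exists_min_qR (𝒯 : Set (Set (Rt D))) {f₀ : (Nd D → ℤ) →ₗ[ℤ] ℝ} (h₀ : ∃ T ∈ 𝒯, ∀ r ∈ T, 1 ≤ f₀ (C.rc r)) :
    ∃ f : (Nd D → ℤ) →ₗ[ℤ] ℝ, (∃ T ∈ 𝒯, ∀ r ∈ T, 1 ≤ f (C.rc r)) ∧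
      ∀ g : (Nd D → ℤ) →ₗ[ℤ] ℝ, (∃ T ∈ 𝒯, ∀ r ∈ T, 1 ≤ g (C.rc r)) → C.qR f ≤ C.qR g := by
  have hq : Continuous fun v : Nd D → ℝ => C.qR (evR v) :=
    continuous_finsetSum _ fun r _ => (continuous_evR _).pow 2
  let K : Set (Nd D → ℝ) := (⋃ T ∈ 𝒯, ⋂ r ∈ T, {v | 1 ≤ evR v (C.rc r)}) ∩ {v | C.qR (evR v) ≤ C.qR f₀}
  have hK : IsCompact K := by
    apply Metric.isCompact_of_isClosed_isBounded
    · refine IsClosed.inter ((Set.toFinite 𝒯).isClosed_biUnion fun T _ => isClosed_biInter fun r _ => ?_) ?_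
      · exact isClosed_le continuous_const (continuous_evR _)
      · exact isClosed_le hq continuous_const
    · rw [isBounded_iff_forall_norm_le]
      refine ⟨√(C.qR f₀), fun v hv => (pi_norm_le_iff_of_nonneg (Real.sqrt_nonneg _)).2 fun i => ?_⟩
      apply Real.abs_le_sqrt
      have := sq_le_qR (C := C) (evR v) (C.sp i)
      rw [evR_sp] at this
      exact this.trans hv.2
  have hmem : ∀ g : (Nd D → ℤ) →ₗ[ℤ] ℝ, (∃ T ∈ 𝒯, ∀ r ∈ T, 1 ≤ g (C.rc r)) → C.qR g ≤ C.qR f₀ →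
      (fun j => g (C.rc (C.sp j))) ∈ K := by
    rintro g ⟨T, hT, h⟩ hg
    refine ⟨Set.mem_biUnion hT (Set.mem_iInter₂.2 fun r hr => ?_), ?_⟩
    · show 1 ≤ evR _ _
      rw [evR_eq]; exact h r hr
    · show C.qR (evR _) ≤ _
      rw [evR_eq]; exact hg
  obtain ⟨v, hv, hmin⟩ := hK.exists_isMinOn ⟨_, hmem f₀ h₀ le_rfl⟩ hq.continuousOn
  refine ⟨evR v, ?_, fun g hg => ?_⟩
  · obtain ⟨T, hT, h⟩ := Set.mem_iUnion₂.1 hv.1
    exact ⟨T, hT, fun r hr => Set.mem_iInter₂.1 h r hr⟩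
  · by_cases h : C.qR g ≤ C.qR f₀
    · have := hmin (hmem g hg h)
      simp only [Set.mem_ofPred_eq, evR_eq] at this
      exact this
    · exact le_trans hv.2 (not_le.1 h).le

theorem eq_of_qR_le {f g : (Nd D → ℤ) →ₗ[ℤ] ℝ} (e : C.qR g = C.qR f) (h : C.qR f ≤ C.qR ((1 / 2 : ℝ) • (f + g))) :
    g = f := by
  have h1 : ∑ r, (f (C.rc r) - g (C.rc r)) ^ 2 = 2 * C.qR f + 2 * C.qR g - 4 * C.qR ((1 / 2 : ℝ) • (f + g)) := by
    unfold qR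
    rw [Finset.mul_sum, Finset.mul_sum, Finset.mul_sum, ← Finset.sum_add_distrib, ← Finset.sum_sub_distrib]
    apply Finset.sum_congr rfl
    intro r _
    simp only [LinearMap.smul_apply, LinearMap.add_apply, smul_eq_mul]; ring
  have h2 : ∑ r, (f (C.rc r) - g (C.rc r)) ^ 2 = 0 :=
    le_antisymm (by rw [h1]; linarith) (Finset.sum_nonneg fun _ _ => sq_nonneg _)
  rw [Finset.sum_eq_zero_iff_of_nonneg fun _ _ => sq_nonneg _] at h2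
  refine C.lin_ext fun i => ?_
  have := h2 (C.sp i) (Finset.mem_univ _)
  rw [pow_eq_zero_iff two_ne_zero] at this
  linarith

end Cert

namespace Sys

variable {D : ChevalleyDatum} {C : Cert D} {F : Type*} [Field F] {G : Type*} [Group G] (S : Sys C F G)

/-- `f` is an optimal functional for `X`: minimal among those for which a conjugate of `X` lies in `U {f ≥ 1}`. -/
def Opt (X : Set G) (f : (Nd D → ℤ) →ₗ[ℤ] ℝ) : Prop :=
  ∀ (g : G) (f' : (Nd D → ℤ) →ₗ[ℤ] ℝ), (∀ x ∈ X, g * x * g⁻¹ ∈ S.U {r | 1 ≤ f' (C.rc r)}) → C.qR f ≤ C.qR f'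

theorem exists_opt {X : Set G} {g₀ : G} (hX : ∀ x ∈ X, g₀ * x * g₀⁻¹ ∈ S.Up) :
    ∃ (g : G) (f : (Nd D → ℤ) →ₗ[ℤ] ℝ), (∀ j, 0 ≤ f (C.rc (C.sp j))) ∧ S.Opt X f ∧
      ∀ x ∈ X, g * x * g⁻¹ ∈ S.U {r | 1 ≤ f (C.rc r)} := by
  obtain ⟨f, ⟨T, ⟨g, hg⟩, hT⟩, hmin⟩ := Cert.exists_min_qR (C := C)
    {T | ∃ g : G, ∀ x ∈ X, g * x * g⁻¹ ∈ S.U T} (f₀ := (Int.castAddHom ℝ).toIntLinearMap ∘ₗ Cert.ordL D)
    ⟨_, ⟨g₀, hX⟩, fun r hr => by
      have : (1 : ℤ) ≤ Cert.ordL D (C.rc r) := Cert.ordL_pos hr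
      show (1 : ℝ) ≤ ((Cert.ordL D (C.rc r) : ℤ) : ℝ)
      exact_mod_cast this⟩
  obtain ⟨w, hw, hd⟩ := C.exists_domR Set.univ f
  have hw' := C.W_le_Aut hw
  obtain ⟨m, hm⟩ := S.exists_over hw
  refine ⟨m⁻¹ * g, f ∘ₗ C.lin w, fun j => ?_, fun g' f' h => ?_, fun x hx => ?_⟩
  · rw [LinearMap.comp_apply, ← Cert.Aut.rc_map hw']; exact hd j (Set.mem_univ _)
  · rw [Cert.qR_comp hw']; exact hmin f' ⟨_, ⟨g', h⟩, fun r hr => hr⟩
  · have := hm.acts.inv_conj_mem (T' := {r | 1 ≤ (f ∘ₗ C.lin w) (C.rc r)}) (fun r hr => by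
      show 1 ≤ f (C.lin w _)
      rw [← Cert.Aut.rc_map hw']; simpa using hT r hr) (hg x hx)
    simpa [mul_assoc] using this

variable {S}

theorem Opt.conj {X : Set G} {f : (Nd D → ℤ) →ₗ[ℤ] ℝ} (h : S.Opt X f) (g : G) {Y : Set G}
    (hY : ∀ x ∈ X, g * x * g⁻¹ ∈ Y) : S.Opt Y f := fun g' f' h' =>
  h (g' * g) f' fun x hx => by simpa [mul_assoc] using h' _ (hY x hx)

/-- two conjugates of `X` inside `U {f ≥ 1}`, `U {f' ≥ 1}` for optimal dominant functionals: they agree and the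
conjugating element lies in the parabolic subgroup -/
theorem Opt.unique {X : Set G} {f f' : (Nd D → ℤ) →ₗ[ℤ] ℝ} (h : S.Opt X f) (hd : ∀ j, 0 ≤ f (C.rc (C.sp j)))
    (hd' : ∀ j, 0 ≤ f' (C.rc (C.sp j))) (e : C.qR f' = C.qR f)
    (hX : ∀ x ∈ X, x ∈ S.U {r | 1 ≤ f (C.rc r)}) {y : G}
    (hy : ∀ x ∈ X, y * x * y⁻¹ ∈ S.U {r | 1 ≤ f' (C.rc r)}) :
    f' = f ∧ y ∈ S.P {j | f (C.rc (C.sp j)) = 0} := by
  obtain ⟨w, hw, hc⟩ := S.exists_cell y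
  obtain ⟨u, hu, m, hm, u', hu', rfl⟩ := id hc
  have hw' := C.W_le_Aut hw
  have hp : ∀ {f : (Nd D → ℤ) →ₗ[ℤ] ℝ} (hd : ∀ j, 0 ≤ f (C.rc (C.sp j))), ∀ r ∈ {r | 1 ≤ f (C.rc r)}, C.Pos r :=
    fun hd r hr => Cert.pos_of_domR hd (lt_of_lt_of_le one_pos hr)
  have key : ∀ x ∈ X, u' * x * u'⁻¹ ∈ S.U {r | 1 ≤ ((1 / 2 : ℝ) • (f + f' ∘ₗ C.lin w)) (C.rc r)} := by
    intro x hx
    have h1 := S.B_conj_U (Cert.closed_geR f zero_le_one) (Cert.stab_domR hd 1) (hp hd) (S.Up_le_B hu') (hX x hx)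
    have h2 := S.B_conj_U (Cert.closed_geR f' zero_le_one) (Cert.stab_domR hd' 1) (hp hd')
      (S.Up_le_B (inv_mem hu)) (hy x hx)
    have h3 := hm.acts.inv_conj_mem (T' := w ⁻¹' {r | 1 ≤ f' (C.rc r)}) (fun r hr => by simpa using hr) h2
    have h4 : m⁻¹ * (u⁻¹ * (u * m * u' * x * (u * m * u')⁻¹) * u⁻¹⁻¹) * m = u' * x * u'⁻¹ := by group
    rw [h4] at h3
    have h5 := S.mem_inter (Cert.closed_geR f zero_le_one) (Cert.nil_of_pos (hp hd))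
      ((Cert.closed_geR f' zero_le_one).preimage hw') ((Cert.nil_of_pos (hp hd')).preimage hw) h1 h3
    refine S.U_mono ?_ h5
    rintro r ⟨a, b⟩
    simp only [Set.mem_preimage, Set.mem_ofPred_eq, LinearMap.smul_apply, LinearMap.add_apply, smul_eq_mul,
      LinearMap.comp_apply, ← Cert.Aut.rc_map hw'] at a b ⊢
    linarith
  have h6 := Cert.eq_of_qR_le ((Cert.qR_comp hw' f').trans e) (h u' _ key)
  have h7 := Cert.dom_uniqueR (J := Set.univ) (fun j _ => hd' j) hw fun j _ => by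
    rw [Cert.Aut.rc_map hw', ← LinearMap.comp_apply, h6]; exact hd j
  have h8 : f' = f := h7.1.symm.trans h6
  refine ⟨h8, hc.mem_P (C.WJ_mono ?_ h7.2)⟩
  rintro j ⟨-, hj⟩
  rwa [h8] at hj

variable (S)

theorem U_ge_le_UJ {f : (Nd D → ℤ) →ₗ[ℤ] ℝ} (hd : ∀ j, 0 ≤ f (C.rc (C.sp j))) :
    S.U {r | 1 ≤ f (C.rc r)} ≤ S.UJ {j | f (C.rc (C.sp j)) = 0} := by
  refine S.U_mono fun r hr => ⟨Cert.pos_of_domR hd (lt_of_lt_of_le one_pos hr), fun h => ?_⟩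
  have := Cert.zero_of_inJR (f := f) (fun j hj => hj) h
  have hr' : 1 ≤ f (C.rc r) := hr
  linarith

/-- Borel–Tits: a subset of a conjugate of `U` lies in a conjugate of some `U_J` whose normaliser contains every
element normalising the subset -/
theorem borel_tits {X : Set G} {g₀ : G} (hX : ∀ x ∈ X, g₀ * x * g₀⁻¹ ∈ S.Up) :
    ∃ (g : G) (J : Set (Nd D)), (∀ x ∈ X, g * x * g⁻¹ ∈ S.UJ J) ∧
      ∀ y : G, (∀ x ∈ X, y * x * y⁻¹ ∈ X) → g * y * g⁻¹ ∈ S.P J := by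
  obtain ⟨g, f, hd, ho, h⟩ := S.exists_opt hX
  refine ⟨g, _, fun x hx => S.U_ge_le_UJ hd (h x hx), fun y hy => ?_⟩
  refine (Opt.unique (X := {z | ∃ x ∈ X, z = g * x * g⁻¹}) (ho.conj g fun x hx => ⟨x, hx, rfl⟩) hd hd rfl ?_ ?_).2
  · rintro _ ⟨x, hx, rfl⟩; exact h x hx
  · rintro _ ⟨x, hx, rfl⟩
    have := h _ (hy x hx)
    simpa [mul_assoc] using this

theorem borel_tits_pgroup [Finite F] [Finite G] (hφ : Function.Injective S.φ) (p : ℕ) [Fact p.Prime] [CharP F p]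
    {Q : Subgroup G} (hQ : IsPGroup p Q) (hne : Q ≠ ⊥) :
    ∃ (g : G) (J : Set (Nd D)), (∃ i, i ∉ J) ∧ (∀ x ∈ Q, g * x * g⁻¹ ∈ S.UJ J) ∧
      ∀ y : G, (∀ x ∈ Q, y * x * y⁻¹ ∈ Q) → g * y * g⁻¹ ∈ S.P J := by
  obtain ⟨g₀, h₀⟩ := S.exists_conj_le_Up hφ p hQ
  obtain ⟨g, J, h1, h2⟩ := S.borel_tits (X := (Q : Set G)) h₀
  refine ⟨g, J, ?_, h1, h2⟩
  by_contra h
  have hJ : J = Set.univ := Set.eq_univ_of_forall fun i => by_contra fun hi => h ⟨i, hi⟩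
  apply hne
  rw [eq_bot_iff]
  intro x hx
  have := h1 x hx
  rw [hJ, UJ_univ, Subgroup.mem_bot] at this
  rw [Subgroup.mem_bot]
  simpa using this

end Sys

end Cfsg.Agent.Chev
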