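import Cfsg.Agent.Chev.Fx
import Cfsg.Agent.Chev.Order
import Cfsg.Agent.Chev.Kempf
import Cfsg.Agent.Tw.Invol
import Cfsg.Agent.CharLib.Induce

/-!
The Steinberg character: restriction to parabolic subgroups and its values.
-/

set_option autoImplicit false
set_option linter.unusedSimpArgs false
set_option linter.unusedVariables false

attribute [-simp] zsmul_eq_mul nsmul_eq_mul

namespace Cfsg.Agent.Chev

open Cfsg.Lie Cfsg.Lie.ChevalleyDatum Equiv Cfsg.Agent.Tw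

namespace Cert

variable {D : ChevalleyDatum} {C : Cert D}

theorem kilmoyer {J K : Set (Nd D)} {w b : Perm (Rt D)} (hw : w ∈ C.Aut) (h : ∀ j ∈ J, C.Pos (w (C.sp j)))
    (hb : b ∈ C.WJ J) (hK : w * b * w⁻¹ ∈ C.WJ K) : b ∈ C.WJ {j | j ∈ J ∧ C.InJ K (w (C.sp j))} := by
  revert hK
  refine lnJ_induction_right (P := fun b => w * b * w⁻¹ ∈ C.WJ K → b ∈ C.WJ {j | j ∈ J ∧ C.InJ K (w (C.sp j))})
    (fun _ => one_mem _) (fun b hb j hj hp ih hK => ?_) hb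
  have h1 : C.InJ K (w (C.sp j)) := by
    by_contra h1
    have h2 := pos_map_of_not_inJ hK (h j hj) h1
    simp only [Perm.mul_apply, Perm.coe_inv, symm_apply_apply, ss_sp] at h2
    rw [Aut.map_rev (C.WJ_le_Aut J hb), Aut.pos_rev_iff hw] at h2
    exact h2 (pos_of_min hw h hp ((inJ_map hb _).2 (C.inJ_sp.2 hj)))
  refine mul_mem (ih ?_) (C.ss_mem_WJ ⟨hj, h1⟩)
  have h2 := mul_mem hK (sr_mem_WJ h1)
  rw [← Aut.conj_sr hw] at h2
  have e : w * (b * C.ss j) * w⁻¹ * (w * C.sr (C.sp j) * w⁻¹) = w * (b * (C.ss j * C.ss j)) * w⁻¹ := by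
    simp only [ss]; group
  rw [e, ss, sr_mul_self, mul_one] at h2
  exact h2

theorem eq_w0_w0 {K M : Set (Nd D)} (hKM : K ⊆ M) {w : Perm (Rt D)} (hw : w ∈ C.WJ M)
    (h1 : ∀ k ∈ K, C.Pos (w⁻¹ (C.sp k))) (h2 : ∀ j ∈ M, C.Pos (w (C.sp j)) → C.InJ K (w (C.sp j))) :
    w = C.w0 K * C.w0 M := by
  have hA := C.WJ_le_Aut M hw
  have h3 : w⁻¹ * C.w0 K = C.w0 M := by
    refine eq_w0 (mul_mem (inv_mem hw) (C.WJ_mono hKM (C.w0_mem K))) fun j hj h4 => ?_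
    rw [Perm.mul_apply] at h4
    by_cases h5 : j ∈ K
    · rw [pos_iff_of_min (inv_mem hA) h1 ((inJ_map (C.w0_mem K) _).2 (C.inJ_sp.2 h5))] at h4
      exact C.w0_sp h5 h4
    · have h6 : 0 < lev K (C.rc (C.w0 K (C.sp j))) := by rw [lev_map (C.w0_mem K), lev_sp, if_neg h5]; exact one_pos
      have h7 := nonneg_of_dom (J := M) (f := - lev K ∘ₗ C.lin w) (fun i hi => by
        rw [LinearMap.neg_apply, LinearMap.comp_apply, lin_sp, Left.nonneg_neg_iff]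
        by_contra h8
        obtain ⟨h9, h10⟩ := lev_pos_iff.1 (not_le.1 h8)
        exact h10 (h2 i hi h9)) h4
        ((inJ_map (inv_mem hw) _).2 ((inJ_map (C.WJ_mono hKM (C.w0_mem K)) _).2 (C.inJ_sp.2 hj)))
      rw [LinearMap.neg_apply, LinearMap.comp_apply, ← Aut.rc_map hA] at h7
      simp only [Perm.coe_inv, apply_symm_apply] at h7
      omega
  have h8 : (C.w0 M)⁻¹ = (C.w0 K)⁻¹ * w := by rw [← h3, mul_inv_rev, inv_inv]
  rw [w0_inv, w0_inv] at h8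
  rw [h8, ← mul_assoc, w0_mul_self, one_mul]

theorem exists_w0_sp_J {K : Set (Nd D)} {k : Nd D} (hk : k ∈ K) : ∃ j ∈ K, C.w0 K (C.sp k) = (C.sp j).rev := by
  have h1 : C.InJ K (C.w0 K (C.sp k)).rev := C.inJ_rev.2 ((inJ_map (C.w0_mem K) _).2 (C.inJ_sp.2 hk))
  have h2 : C.Pos (C.w0 K (C.sp k)).rev := (C.pos_rev_iff _).2 (C.w0_sp hk)
  obtain ⟨j, hj, h3⟩ := Aut.exists_neg_sp (mul_mem (mul_mem (C.w0_mem_Aut K) (C.ss_mem_Aut k)) (C.w0_mem_Aut K)) h2 (by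
    rw [Perm.mul_apply, Perm.mul_apply, Aut.map_rev (C.w0_mem_Aut K), w0_w0, ss_apply, refl_self_rev]
    exact C.w0_sp hk)
  have h4 : j ∈ K := by by_contra h; exact hj (h1 j h)
  refine ⟨j, h4, ?_⟩
  have h5 : C.InJ K (C.w0 K (C.sp j)) := (inJ_map (C.w0_mem K) _).2 (C.inJ_sp.2 h4)
  rw [Perm.mul_apply, Perm.mul_apply, pos_w0_iff ((inJ_map (C.ss_mem_WJ hk) _).2 h5), not_not] at h3
  have h6 := C.eq_sp_of_not_pos_ss (i := k) ((C.pos_rev_iff _).2 (C.w0_sp h4)) (by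
    rw [Aut.pos_rev_iff (C.ss_mem_Aut k), not_not]; exact h3)
  rw [← h6, Aut.map_rev (C.w0_mem_Aut K), w0_w0]

theorem exists_w0_w0_sp {K M : Set (Nd D)} (hKM : K ⊆ M) {k : Nd D} (hk : k ∈ K) :
    ∃ j ∈ M, (C.w0 K * C.w0 M) (C.sp j) = C.sp k := by
  obtain ⟨i, hi, h1⟩ := exists_w0_sp_J (C := C) hk
  obtain ⟨j, hj, h2⟩ := exists_w0_sp_J (C := C) (hKM hi)
  refine ⟨j, hj, ?_⟩
  have h3 : C.w0 M (C.sp j) = (C.sp i).rev := by
    rw [← Fin.rev_rev (C.sp j), ← h2, Aut.map_rev (C.w0_mem_Aut M), w0_w0]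
  rw [Perm.mul_apply, h3, ← h1, w0_w0]

theorem pos_w0_w0_iff {K M : Set (Nd D)} (hKM : K ⊆ M) {r : Rt D} (hr : C.Pos r) :
    C.Pos ((C.w0 K * C.w0 M)⁻¹ r) ↔ C.InJ K r ∨ ¬ C.InJ M r := by
  rw [mul_inv_rev, w0_inv, w0_inv, Perm.mul_apply]
  by_cases h1 : C.InJ M r
  · rw [pos_w0_iff ((inJ_map (C.WJ_mono hKM (C.w0_mem K)) _).2 h1)]
    by_cases h2 : C.InJ K r
    · simp [pos_w0_iff h2, h2, hr]
    · simp [h1, h2, pos_map_of_not_inJ (C.w0_mem K) hr h2]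
  · simp only [h1, not_false_eq_true, or_true, iff_true]
    exact pos_map_of_not_inJ (mul_mem (C.w0_mem M) (C.WJ_mono hKM (C.w0_mem K))) hr h1

end Cert

theorem sum_powerset_cancel {ι R : Type*} [DecidableEq ι] [CommRing R] {A : Finset ι} {j : ι} (hj : j ∈ A)
    (f : Finset ι → R) (h : ∀ J ⊆ A, j ∉ J → f (insert j J) = f J) : ∑ J ∈ A.powerset, (-1) ^ J.card * f J = 0 := by
  rw [← Finset.insert_erase hj, Finset.sum_powerset_insert (Finset.notMem_erase j A), ← Finset.sum_add_distrib]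
  refine Finset.sum_eq_zero fun J hJ => ?_
  rw [Finset.mem_powerset] at hJ
  have h1 : j ∉ J := fun h => Finset.notMem_erase j A (hJ h)
  rw [h J (hJ.trans (Finset.erase_subset _ _)) h1, Finset.card_insert_of_notMem h1]; ring

namespace Sys

variable {D : ChevalleyDatum} {C : Cert D} {F : Type*} [Field F] {G : Type*} [Group G] {S : Sys C F G}

theorem Over.cell_mul_P {J : Set (Nd D)} {m z : G} {w b : Perm (Rt D)} (hm : S.Over m w)
    (h : ∀ j ∈ J, C.Pos (w (C.sp j))) (hb : b ∈ C.WJ J) (hz : S.Cell b z) : S.Cell (w * b) (m * z) := by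
  obtain ⟨u, hu, n, hn, u', hu', rfl⟩ := hz
  simpa [mul_assoc] using (cell_mul_over h (hm.cell.mul_B (S.Up_le_B hu)) hb hn).mul_B (S.Up_le_B hu')

theorem Over.cell_of_conj {J K : Set (Nd D)} {m y : G} {w : Perm (Rt D)} (hm : S.Over m w)
    (h : ∀ j ∈ J, C.Pos (w (C.sp j))) (h' : ∀ k ∈ K, C.Pos (w⁻¹ (C.sp k))) (hy : y ∈ S.P K)
    (hz : m⁻¹ * y * m ∈ S.P J) : ∃ b ∈ C.WJ {j | j ∈ J ∧ C.InJ K (w (C.sp j))}, S.Cell b (m⁻¹ * y * m) ∧
      S.Cell (w * b * w⁻¹) y := by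
  obtain ⟨a, ha, h1⟩ := Sys.mem_P_iff.1 hy
  obtain ⟨b, hb, h2⟩ := Sys.mem_P_iff.1 hz
  have h3 := hm.cell_mul_P h hb h2
  have h4 := (hm.inv.cell_mul_P h' (inv_mem ha) h1.inv).inv
  simp only [mul_inv_rev, inv_inv, mul_assoc, mul_inv_cancel_left] at h3 h4
  have h5 : w * b * w⁻¹ = a := by rw [h3.unique h4]; simp
  exact ⟨b, Cert.kilmoyer hm.mem_Aut h hb (h5 ▸ ha), h2, h5 ▸ h1⟩

variable (S)

/-- the Steinberg character of a Levi subgroup, inflated to the parabolic subgroup -/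
noncomputable def St (M : Finset (Nd D)) (g : G) : ℂ :=
  ∑ J ∈ M.powerset, (-1) ^ J.card * fx (S.P M) (S.P J) g

theorem St_conj (M : Finset (Nd D)) {a : G} (ha : a ∈ S.P M) (g : G) : S.St M (a * g * a⁻¹) = S.St M g := by
  simp only [St, fx_conj ha]

theorem P_mackey [Finite G] {J K M : Set (Nd D)} (hJ : J ⊆ M) (hK : K ⊆ M) (m : Perm (Rt D) → G)
    (hm : ∀ w ∈ C.W, S.Over (m w) w) {g : G} (hg : g ∈ S.P K) (I : Finset (Perm (Rt D)))
    (hI : ∀ w, w ∈ I ↔ (w ∈ C.WJ M ∧ ∀ k ∈ K, C.Pos (w⁻¹ (C.sp k))) ∧ ∀ j ∈ J, C.Pos (w (C.sp j))) :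
    fx (S.P M) (S.P J) g = ∑ w ∈ I, fx (S.P K) (S.P K ⊓ cjS (m w) (S.P J)) g := by
  refine fx_mackey I m (fun x => ⟨fun hx => ?_, ?_⟩) (fun v hv w hw a ha y hy e => ?_) hg
  · obtain ⟨v, hv, u, hu, n, hn, u', hu', rfl⟩ := mem_P_iff.1 hx
    obtain ⟨a, ha, b, hb, h1, h2⟩ := Cert.exists_min_dcoset K J (C.WJ_le_W M hv)
    have h3 : a * v * b ∈ C.WJ M := mul_mem (mul_mem (C.WJ_mono hK ha) hv) (C.WJ_mono hJ hb)
    obtain ⟨n', hn'⟩ := S.exists_over (C.WJ_le_W K ha)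
    refine ⟨a * v * b, (hI _).2 ⟨⟨h3, h1⟩, h2⟩, u * n'⁻¹, mul_mem (S.Up_le_P K hu) (inv_mem (hn'.mem_P ha)),
      (m (a * v * b))⁻¹ * (n' * n) * u', mul_mem (Over.mem_P ((hm _ (C.WJ_le_W M h3)).inv.mul (hn'.mul hn)) ?_)
        (S.Up_le_P J hu'), by group⟩
    simpa [mul_assoc] using hb
  · rintro ⟨w, hw, a, ha, y, hy, rfl⟩
    have := ((hI w).1 hw).1.1
    exact mul_mem (mul_mem (S.P_mono hK ha) ((hm w (C.WJ_le_W M this)).mem_P this)) (S.P_mono hJ hy)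
  · obtain ⟨⟨h1, h2⟩, h3⟩ := (hI v).1 hv
    obtain ⟨⟨h4, h5⟩, h6⟩ := (hI w).1 hw
    obtain ⟨a', ha', h7⟩ := cell_P_mul ha (hm v (C.WJ_le_W M h1)).cell
    obtain ⟨b', hb', h8⟩ := cell_mul_P h7 hy
    rw [← e] at h8
    have h9 := (hm w (C.WJ_le_W M h4)).cell.unique h8
    rw [h9] at h5 h6 ⊢
    exact (Cert.min_dcoset_unique (C.WJ_le_W M h1) h2 h3 ha' hb' h5 h6).symm

theorem L_conj_UJ_sup {K M : Set (Nd D)} (hKM : K ⊆ M) {y : G} (hy : y ∈ S.L K ⊔ S.UJ M) :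
    ∃ v ∈ S.UJ M, ∃ l ∈ S.L K, y = v * l :=
  mem_mul_of_normalizes' (fun a ha b hb => S.P_conj_UJ (S.P_mono hKM (S.L_le_P K ha)) hb) hy

theorem inf_cjS_w0 {J J' K M : Set (Nd D)} (hKM : K ⊆ M) (hJ' : J' ⊆ K) {m : G} (hm : S.Over m (C.w0 K * C.w0 M))
    (h1 : ∀ j ∈ J, ∃ k ∈ J', (C.w0 K * C.w0 M) (C.sp j) = C.sp k)
    (h2 : ∀ k ∈ J', ∃ j ∈ J, (C.w0 K * C.w0 M) (C.sp j) = C.sp k) :
    S.P K ⊓ cjS m (S.P J) = S.P J' ⊓ (S.L K ⊔ S.UJ M) := by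
  have hA := hm.mem_Aut
  have h3 : ∀ r, C.InJ J' r → C.InJ J ((C.w0 K * C.w0 M)⁻¹ r) := by
    intro r hr i hi
    rw [Cert.Aut.rc_map (inv_mem hA), Cert.lin_apply, Finset.sum_apply]
    refine Finset.sum_eq_zero fun k _ => ?_
    by_cases hk : k ∈ J'
    · obtain ⟨j, hj, e⟩ := h2 k hk
      rw [← e, Perm.coe_inv, symm_apply_apply, Pi.smul_apply, C.rc_sp_apply, if_neg (fun h : i = j => hi (h ▸ hj))]
      simp
    · rw [hr k hk]; simp
  have h4 : ∀ u ∈ S.U {r | C.Pos r ∧ (C.InJ K r ∨ ¬ C.InJ M r)}, m⁻¹ * u * m ∈ S.Up := fun u hu =>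
    hm.acts.inv_conj_mem (T' := {r | C.Pos r}) (fun r hr => (Cert.pos_w0_w0_iff hKM hr.1).2 hr.2) hu
  have h5 : ∀ l ∈ S.L J', m⁻¹ * l * m ∈ S.P J := by
    intro l hl
    obtain ⟨u, hu, a, ha, rfl⟩ := S.mem_U_sup_H.1 hl
    have e : m⁻¹ * (u * a) * m = (m⁻¹ * u * m) * (m⁻¹ * a * m⁻¹⁻¹) := by group
    rw [e]
    refine mul_mem (S.L_le_P J (le_sup_left (α := Subgroup G) (hm.acts.inv_conj_mem (T' := {r | C.InJ J r})
      (fun r hr => h3 r hr) hu))) (S.H_le_P J (S.N_conj_H (inv_mem hm.mem_N) ha))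
  ext y
  constructor
  · rintro ⟨hy, hz⟩
    obtain ⟨b, hb, -, h6⟩ := hm.cell_of_conj (J := J) (K := K) (fun j hj => by
      obtain ⟨k, -, e⟩ := h1 j hj
      rw [e]; exact C.pos_sp k) (fun k hk => (Cert.pos_w0_w0_iff hKM (C.pos_sp k)).2 (Or.inl (C.inJ_sp.2 hk))) hy hz
    have h7 : y ∈ S.P J' := by
      refine h6.mem_P (C.WJ_induction_right
        (P := fun b => C.w0 K * C.w0 M * b * (C.w0 K * C.w0 M)⁻¹ ∈ C.WJ J') (by simp) (fun b _ j hj ih => ?_) hb)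
      obtain ⟨k, hk, e⟩ := h1 j hj.1
      have := mul_mem ih (C.ss_mem_WJ hk)
      rw [Cert.ss, ← e, ← Cert.Aut.conj_sr hA] at this
      generalize C.w0 K * C.w0 M = w at this ⊢
      simpa only [Cert.ss, mul_assoc, inv_mul_cancel_left] using this
    refine ⟨h7, ?_⟩
    obtain ⟨u, hu, l, hl, rfl⟩ := S.mem_P_levi.1 h7
    refine mul_mem ?_ (le_sup_left (α := Subgroup G) (sup_le_sup_right (S.U_mono fun r hr => Cert.InJ.mono hJ' hr) _ hl))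
    have h8 : m⁻¹ * u * m ∈ S.P J := by
      have := mul_mem (mem_cjS.1 hz) (inv_mem (h5 l hl))
      simpa [mul_assoc] using this
    have hT : C.Closed (⇑(C.w0 K * C.w0 M) ⁻¹' {r | C.Pos r ∧ ¬ C.InJ J' r}) := (Cert.closed_radical J').preimage hA
    have hN : C.Nil (⇑(C.w0 K * C.w0 M) ⁻¹' {r | C.Pos r ∧ ¬ C.InJ J' r}) :=
      (Cert.nil_of_pos fun r hr => hr.1).preimage hm.mem_W
    obtain ⟨a, ha, c, hc, e⟩ := S.split (T1 := {r | C.Pos r}) (T2 := {r | ¬ C.Pos r}) hT hN (fun r _ => em _)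
      (hm.acts.inv_conj_mem (T := {r | C.Pos r ∧ ¬ C.InJ J' r}) (fun r hr => by simpa using hr) hu)
    have h9 : c ∈ S.Um := S.U_le_Um (fun r hr => hr.2) hc
    have h10 := S.mem_of_mem_Um_P h9 ((Subgroup.mul_mem_cancel_left _ (S.Up_le_P J (S.U_le_Up (fun r hr => hr.2) ha))).1
      (e ▸ h8))
    have h11 := S.mem_inter (hT.inter Cert.closed_neg) (hN.mono Set.inter_subset_left)
      (Cert.closed_neg.inter (Cert.closed_inJ J)) (Cert.nil_of_neg fun r hr => hr.1) hc h10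
    have h12 : c = 1 := by
      refine Subgroup.mem_bot.1 (S.U_empty ▸ S.U_mono (fun r hr => hr.1.1.2 ?_) h11)
      intro i hi
      rw [Cert.Aut.rc_map hA, Cert.lin_apply, Finset.sum_apply]
      refine Finset.sum_eq_zero fun j _ => ?_
      by_cases hj : j ∈ J
      · obtain ⟨k, hk, e⟩ := h1 j hj
        rw [e, Pi.smul_apply, C.rc_sp_apply, if_neg (fun h : i = k => hi (h ▸ hk))]; simp
      · rw [hr.2.2 j hj]; simp
    have h13 : u = m * a * m⁻¹ := by rw [h12, mul_one] at e; rw [← e]; group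
    rw [h13]
    refine S.U_le.2 (fun r hr t => ?_) (hm.acts.conj_mem (T' := {r | C.Pos r ∧ (C.InJ K r ∨ ¬ C.InJ M r)})
      (fun r hr => And.intro hr.1.1 ((Cert.pos_w0_w0_iff hKM hr.1.1).1 (by simpa using hr.2))) ha)
    rcases hr.2 with h | h
    · exact le_sup_left (α := Subgroup G) (S.x_mem_L h t)
    · exact le_sup_right (α := Subgroup G) (S.x_mem_UJ hr.1 h t)
  · rintro ⟨hy, hz⟩
    refine ⟨S.P_mono hJ' hy, mem_cjS.2 ?_⟩
    obtain ⟨v, hv, l, hl, rfl⟩ := S.L_conj_UJ_sup hKM hz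
    have h6 : l ∈ S.P J' := (Subgroup.mul_mem_cancel_left _ (S.Up_le_P J' (S.UJ_le_Up M hv))).1 hy
    obtain ⟨w, hw, u, hu, n, hn, u', hu', rfl⟩ := S.mem_L_iff.1 hl
    have h7 := (Cell.mem_P_iff ⟨u, S.U_le_Up (fun r hr => hr.1) hu, n, hn, u', S.Uw_le_Up w hu', rfl⟩).1 h6
    have e : m⁻¹ * (v * (u * n * u')) * m = m⁻¹ * v * m * (m⁻¹ * u * m) * (m⁻¹ * n * m) * (m⁻¹ * u' * m) := by group
    rw [e]
    refine mul_mem (mul_mem (mul_mem (S.Up_le_P J (h4 v (S.U_mono (fun r hr => And.intro hr.1 (Or.inr hr.2)) hv)))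
      (S.Up_le_P J (h4 u (S.U_mono (fun r hr => And.intro hr.1 (Or.inl hr.2)) hu)))) (h5 n (hn.mem_L h7)))
      (S.Up_le_P J (h4 u' (S.U_mono (fun r hr => And.intro hr.1 (Or.inl ?_)) hu')))
    by_contra h
    exact hr.2 (Cert.pos_map_of_not_inJ hw hr.1 h)

theorem inf_cjS_insert {J K : Set (Nd D)} {m : G} {w : Perm (Rt D)} (hm : S.Over m w) {j : Nd D}
    (h1 : ∀ i ∈ J, C.Pos (w (C.sp i))) (h3 : ∀ k ∈ K, C.Pos (w⁻¹ (C.sp k))) (h4 : C.Pos (w (C.sp j)))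
    (h5 : ¬ C.InJ K (w (C.sp j))) : S.P K ⊓ cjS m (S.P (insert j J)) = S.P K ⊓ cjS m (S.P J) := by
  refine le_antisymm ?_ (inf_le_inf_left _ fun y hy =>
    mem_cjS.2 (S.P_mono (Set.subset_insert j J) (mem_cjS.1 hy)))
  rintro y ⟨hy, hz⟩
  obtain ⟨b, hb, h7, -⟩ := hm.cell_of_conj (J := insert j J) (K := K) (fun i hi => by
    rcases hi with rfl | hi
    · exact h4
    · exact h1 i hi) h3 hy (mem_cjS.1 hz)
  refine ⟨hy, mem_cjS.2 <| h7.mem_P (C.WJ_mono (fun i hi => ?_) hb)⟩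
  rcases hi.1 with rfl | h
  · exact absurd hi.2 h5
  · exact h

/-- Restriction of the Steinberg character to a parabolic subgroup. -/
theorem St_restrict [Finite G] {K M : Finset (Nd D)} (hKM : K ⊆ M) {g : G} (hg : g ∈ S.P K) :
    S.St M g = ∑ J ∈ K.powerset, (-1) ^ J.card * fx (S.P K) (S.P J ⊓ (S.L K ⊔ S.UJ M)) g := by
  classical
  choose! m hm using fun w (hw : w ∈ C.W) => S.exists_over hw
  have hKM' : (K : Set (Nd D)) ⊆ M := hKM
  let I : Finset (Perm (Rt D)) := Finset.univ.filter fun w => w ∈ C.WJ M ∧ ∀ k ∈ (K : Set (Nd D)), C.Pos (w⁻¹ (C.sp k))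
  have h1 : S.St M g = ∑ w ∈ I, ∑ J ∈ (M.filter fun j => C.Pos (w (C.sp j))).powerset,
      (-1) ^ J.card * fx (S.P K) (S.P K ⊓ cjS (m w) (S.P J)) g := by
    rw [St, Finset.sum_congr rfl fun J hJ => by
      rw [S.P_mackey (J := J) (Finset.mem_powerset.1 hJ) hKM' m hm hg
        (I.filter fun w => ∀ j ∈ (J : Set (Nd D)), C.Pos (w (C.sp j))) (by simp [I]), Finset.mul_sum]]
    refine Finset.sum_comm' fun J w => ?_
    simp only [Finset.mem_powerset, Finset.mem_filter, Finset.subset_iff, Finset.mem_coe]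
    exact ⟨fun h => ⟨fun j hj => ⟨h.1 hj, h.2.2 j hj⟩, h.2.1⟩, fun h => ⟨fun j hj => (h.1 hj).1, h.2, fun j hj => (h.1 hj).2⟩⟩
  have hw : C.w0 K * C.w0 M ∈ C.WJ M := mul_mem (C.WJ_mono hKM' (C.w0_mem K)) (C.w0_mem M)
  rw [h1, Finset.sum_eq_single_of_mem (C.w0 K * C.w0 M) (Finset.mem_filter.2 ⟨Finset.mem_univ _, hw,
    fun k hk => (Cert.pos_w0_w0_iff hKM' (C.pos_sp k)).2 (Or.inl (C.inJ_sp.2 hk))⟩)]
  · choose! π hπ hπ' using fun k (hk : k ∈ (K : Set (Nd D))) => Cert.exists_w0_w0_sp (C := C) hKM' hk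
    have h2 : Set.InjOn π K := fun a ha b hb e => C.sp_inj (by rw [← hπ' a ha, e, hπ' b hb])
    have h3 : (M.filter fun j => C.Pos ((C.w0 K * C.w0 M) (C.sp j))) = K.image π := by
      ext j
      simp only [Finset.mem_filter, Finset.mem_image]
      constructor
      · rintro ⟨hj, h⟩
        have h4 := (Cert.pos_w0_w0_iff hKM' h).1 (by simpa using C.pos_sp j)
        rw [Cert.inJ_map hw, C.inJ_sp] at h4
        have h5 := h4.resolve_right (not_not.2 hj)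
        obtain ⟨k, hk, h6⟩ := Cert.Aut.exists_neg_sp (mul_mem (mul_mem (C.WJ_le_Aut _ hw) (C.ss_mem_Aut j))
          (inv_mem (C.WJ_le_Aut _ hw))) h (by
            rw [Perm.mul_apply, Perm.mul_apply, Perm.coe_inv, symm_apply_apply, C.ss_sp,
              Cert.Aut.pos_rev_iff (C.WJ_le_Aut _ hw), not_not]; exact h)
        have h7 : k ∈ (K : Set (Nd D)) := by by_contra h'; exact hk (h5 k h')
        refine ⟨k, h7, ?_⟩
        by_contra h8
        rw [Perm.mul_apply, Perm.mul_apply, ← hπ' k h7, Perm.coe_inv, symm_apply_apply] at h6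
        apply h6
        have e : C.rc (C.ss j (C.sp (π k))) = C.rc (C.sp (π k)) + (- C.A (C.sp j) (C.sp (π k))) • C.rc (C.sp j) := by
          rw [C.ss_apply, C.rc_refl, neg_smul, sub_eq_add_neg]
        intro i
        rw [Cert.Aut.rc_map (C.WJ_le_Aut _ hw), e, map_add, map_smul, C.lin_sp, C.lin_sp, hπ' k h7, Pi.add_apply,
          Pi.smul_apply, smul_eq_mul]
        exact add_nonneg (C.pos_sp k i) (mul_nonneg (neg_nonneg.2 (C.A_sp_sp_nonpos (Ne.symm h8))) (h i))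
      · rintro ⟨k, hk, rfl⟩
        exact ⟨hπ k hk, by rw [hπ' k hk]; exact C.pos_sp k⟩
    rw [h3, Finset.powerset_image, Finset.sum_image fun a ha b hb e => Finset.coe_injective (by
      rw [Finset.mem_coe, Finset.mem_powerset] at ha hb
      exact (h2.image_eq_image_iff ha hb).1 (by rw [← Finset.coe_image, e, Finset.coe_image]))]
    refine Finset.sum_congr rfl fun J hJ => ?_
    rw [Finset.mem_powerset] at hJ
    rw [Finset.card_image_of_injOn (h2.mono hJ), S.inf_cjS_w0 (J' := J) hKM' hJ (hm _ (C.WJ_le_W _ hw))]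
    · intro j hj
      obtain ⟨k, hk, rfl⟩ := Finset.mem_image.1 hj
      exact ⟨k, hk, hπ' k (hJ hk)⟩
    · exact fun k hk => ⟨π k, Finset.mem_image_of_mem π hk, hπ' k (hJ hk)⟩
  · intro w hw hne
    obtain ⟨h2, h3⟩ := (Finset.mem_filter.1 hw).2
    obtain ⟨j, hj, h4, h5⟩ : ∃ j ∈ (M : Set (Nd D)), C.Pos (w (C.sp j)) ∧ ¬ C.InJ K (w (C.sp j)) := by
      by_contra h
      push Not at h
      exact hne (Cert.eq_w0_w0 hKM' h2 h3 h)
    refine sum_powerset_cancel (j := j) (Finset.mem_filter.2 ⟨hj, h4⟩) _ fun J hJ h6 => ?_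
    rw [Finset.coe_insert, S.inf_cjS_insert (hm w (C.WJ_le_W _ h2)) (fun i hi => (Finset.mem_filter.1 (hJ hi)).2) h3 h4 h5]

end Sys

end Cfsg.Agent.Chev
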