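import Cfsg.Agent.Chev.CentU
import Cfsg.Agent.Chev.St
import Cfsg.Agent.Chev.Kempf
import Cfsg.Agent.Chev.Dickson
import Cfsg.Agent.Lang.Fin
import Cfsg.Agent.TwM.Filt

/-!
Subgroups whose unipotent part is fixed by a field endomorphism: parabolic subgroups and strong embedding.
-/

set_option autoImplicit false
set_option linter.unusedSimpArgs false
set_option linter.unusedVariables false

namespace Cfsg.Agent.Chev

open Cfsg.Lie Cfsg.Lie.ChevalleyDatum Equiv Tw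

attribute [-simp] zsmul_eq_mul nsmul_eq_mul

theorem conj_comm {G : Type*} [Group G] (u : G) {a b : G} (h : a * b = b * a) :
    u * a * u⁻¹ * (u * b * u⁻¹) = u * b * u⁻¹ * (u * a * u⁻¹) := by
  calc _ = u * (a * b) * u⁻¹ := by group
    _ = _ := by rw [h]; group

namespace Sys

variable {D : ChevalleyDatum} {C : Cert D} {F : Type*} [Field F] {G : Type*} [Group G] (S : Sys C F G)

theorem cd_conj_ge (f : (Nd D → ℤ) →ₗ[ℤ] ℤ) {j k : ℤ} (hj : 0 ≤ j) (hk : 0 < k) {u y : G}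
    (hu : u ∈ S.U {r | j ≤ f (C.rc r)}) (hy : y ∈ S.U {r | k ≤ f (C.rc r)}) {r : Rt D} (h1 : f (C.rc r) < 2 * k)
    (h2 : f (C.rc r) < k + j) : S.cd r (u * y * u⁻¹) = S.cd r y := by
  have h3 := TwM.comm_ge S f hj hk hu hy
  rw [commutatorElement_def] at h3
  rw [show u * y * u⁻¹ = u * y * u⁻¹ * y⁻¹ * y by group,
    S.cd_mul hk.le (fun _ h => h) h1 (S.U_mono (fun s hs => by
      have : k + j ≤ f (C.rc s) := hs
      show k ≤ _
      omega) h3) hy, S.cd_eq_zero (by omega) (fun _ h => h) h2 h3, zero_add]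

theorem Up_le_ht {u : G} (hu : u ∈ S.Up) : u ∈ S.U {r | 1 ≤ Cert.lev ∅ (C.rc r)} :=
  S.U_mono (fun r hr => ht_pos hr) hu

theorem ht_le_Up {k : ℤ} (hk : 0 < k) {u : G} (hu : u ∈ S.U {r | k ≤ Cert.lev ∅ (C.rc r)}) : u ∈ S.Up :=
  S.U_mono (fun r hr => C.pos_of_ht (by rw [← C.lev_empty]; exact hk.trans_le hr)) hu

theorem cd_sp_mul (i : Nd D) {u v : G} (hu : u ∈ S.Up) (hv : v ∈ S.Up) :
    S.cd (C.sp i) (u * v) = S.cd (C.sp i) u + S.cd (C.sp i) v :=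
  S.cd_mul (f := Cert.lev ∅) zero_le_one (fun r hr => ht_pos hr) (by rw [ht_sp]; norm_num) hu hv

theorem cd_sp_conj (i : Nd D) {u v : G} (hu : u ∈ S.Up) (hv : v ∈ S.Up) :
    S.cd (C.sp i) (u * v * u⁻¹) = S.cd (C.sp i) v :=
  S.cd_conj_same (f := Cert.lev ∅) zero_le_one (fun r hr => ht_pos hr) (by rw [ht_sp]; norm_num) hu hv

theorem cd_sp_eq_zero {T : Set (Rt D)} (hT : ∀ r ∈ T, C.Pos r) {i : Nd D} (h : C.sp i ∉ T) {u : G} (hu : u ∈ S.U T) :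
    S.cd (C.sp i) u = 0 :=
  S.cd_eq_zero_of_notMem (f := Cert.lev ∅) zero_le_one (fun r hr => ht_pos (hT r hr)) (by rw [ht_sp]; norm_num) h hu

theorem split_sp' (i : Nd D) {u : G} (hu : u ∈ S.Up) : ∃ v ∈ S.UJ {i}, u = v * S.x (C.sp i) (S.cd (C.sp i) u) := by
  obtain ⟨v, hv, t, rfl⟩ := split_sp i hu
  refine ⟨v, S.U_mono (fun r hr => And.intro hr.1 fun h => hr.2 (Cert.eq_sp_of_inJ_singleton hr.1 h)) hv, ?_⟩
  rw [S.cd_sp_mul i (S.U_le_Up (fun r hr => hr.1) hv) (S.x_mem_Up (C.pos_sp i) t), cd_x_self,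
    S.cd_sp_eq_zero (fun r hr => hr.1) (fun h => h.2 rfl) hv, zero_add]

theorem ht_le_of_commute {c y : G} {w : Perm (Rt D)} (hc : S.Cell w c) {r : Rt D} (hr : C.Pos r)
    (hy : y ∈ S.U {s | C.ht r ≤ Cert.lev ∅ (C.rc s)}) (h0 : S.cd r y ≠ 0) (h : c * y = y * c) :
    C.ht r ≤ C.ht (w r) := by
  obtain ⟨u, hu, m, hm, u', hu', rfl⟩ := hc
  have hk : 0 < C.ht r := C.one_le_ht hr
  have hp : ∀ s ∈ {s | C.ht r ≤ Cert.lev ∅ (C.rc s)}, C.Pos s := fun s hs =>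
    C.pos_of_ht (by rw [← C.lev_empty]; exact hk.trans_le hs)
  have hcj : ∀ v ∈ S.Up, v * y * v⁻¹ ∈ S.U {s | C.ht r ≤ Cert.lev ∅ (C.rc s)} := fun v hv =>
    S.conj_ge _ hk (Subgroup.mem_sup_left (S.U_mono (fun s hs => zero_le_one.trans (ht_pos hs)) hv)) hy
  have h2 : u' * y * u'⁻¹ ∈ S.U (w ⁻¹' {s | C.ht r ≤ Cert.lev ∅ (C.rc s)}) := by
    have := hm.acts.inv_conj_mem (T := {s | C.ht r ≤ Cert.lev ∅ (C.rc s)})
      (T' := w ⁻¹' {s | C.ht r ≤ Cert.lev ∅ (C.rc s)}) (fun r hr => by simpa using hr) (hcj _ (inv_mem hu))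
    rwa [show m⁻¹ * (u⁻¹ * y * u⁻¹⁻¹) * m = u' * y * u'⁻¹ by
      calc _ = m⁻¹ * u⁻¹ * (y * (u * m * u')) * u'⁻¹ := by group
        _ = _ := by rw [← h]; group] at this
  have h3 := S.mem_inter (Cert.closed_ge _ hk.le) (Cert.nil_of_pos hp) ((Cert.closed_ge _ hk.le).preimage hm.mem_Aut)
    ((Cert.nil_of_pos hp).preimage hm.mem_W) (hcj _ hu') h2
  by_contra hn
  apply h0
  have e := C.lev_empty r
  rw [← S.cd_conj_ge _ zero_le_one hk (S.Up_le_ht hu') hy (by omega) (by omega)]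
  exact S.cd_eq_zero_of_notMem hk.le (fun s hs => hs.1) (by omega) (fun h => hn (by rw [← C.lev_empty (w r)]; exact h.2)) h3

theorem mem_B_of_commute {J : Set (Nd D)} {i₀ : Nd D} (h0 : i₀ ∉ J) {c : G}
    (h : ∀ r, C.Pos r → ¬ C.InJ J r → ∃ y ∈ S.U {s | C.ht r ≤ Cert.lev ∅ (C.rc s)}, S.cd r y ≠ 0 ∧ c * y = y * c) :
    c ∈ S.B := by
  obtain ⟨w, hw, hc⟩ := S.exists_cell c
  have h1 : ∀ r, C.Pos r → ¬ C.InJ J r → C.ht r ≤ C.ht (w r) ∧ C.ht r ≤ C.ht (w⁻¹ r) := fun r hr hr' => by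
    obtain ⟨y, hy, h1, h2⟩ := h r hr hr'
    exact ⟨S.ht_le_of_commute hc hr hy h1 h2, S.ht_le_of_commute hc.inv hr hy h1 (by
      rw [inv_mul_eq_iff_eq_mul, ← mul_assoc, h2, mul_inv_cancel_right])⟩
  have h2 : ∀ r, C.Pos r → ¬ C.InJ J r → C.Pos (w r) := fun r hr hr' =>
    C.pos_of_ht ((C.one_le_ht hr).trans (h1 r hr hr').1)
  have hJ := Cert.mem_WJ_of_pos hw h2
  have h3 : ∀ r, C.Pos r ∧ ¬ C.InJ J r → C.ht (w r) = C.ht r := by
    rintro r ⟨hr, hr'⟩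
    exact le_antisymm (by simpa using (h1 (w r) (h2 r hr hr') (by rwa [Cert.inJ_map hJ])).2) (h1 r hr hr').1
  obtain rfl : w = 1 := Cert.eq_one_of_pos hw fun j => by
    by_cases hj : j ∈ J
    · obtain ⟨r, u, hr, hu, e⟩ := StB.exists_radical_add (C := C) h0 hj
      have h4 := C.ht_add (Cert.Aut.map_add (C.W_le_Aut hw) e)
      have h5 := C.ht_add e
      rw [h3 r hr, h3 u hu, h5, C.ht_sp] at h4
      exact C.pos_of_ht (by omega)
    · exact h2 _ (C.pos_sp j) fun h => hj (C.inJ_sp.1 h)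
  exact cell_one_iff.1 hc

theorem coset_unique {J : Set (Nd D)} {d d' : Perm (Rt D)} (hd : ∀ j ∈ J, C.Pos (d (C.sp j)))
    (hd' : ∀ j ∈ J, C.Pos (d' (C.sp j))) {m m' u u' : G} (hm : S.Over m d) (hm' : S.Over m' d') (hu : u ∈ S.Uw d⁻¹)
    (hu' : u' ∈ S.Uw d'⁻¹) (h : (u * m)⁻¹ * (u' * m') ∈ S.P J) : d' = d ∧ u' = u := by
  obtain ⟨b, hb, hc⟩ := mem_P_iff.1 h
  have h1 := (hm.cell_mul_P hd hb hc).B_mul (S.Up_le_B (S.Uw_le_Up _ hu))
  rw [show u * (m * ((u * m)⁻¹ * (u' * m'))) = u' * m' by group] at h1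
  have h2 := (hm'.cell.B_mul (S.Up_le_B (S.Uw_le_Up _ hu'))).unique h1
  obtain rfl : b = 1 := Cert.min_coset_unique hm.mem_Aut hd hb (h2 ▸ hd')
  rw [mul_one] at h2
  subst h2
  exact ⟨rfl, (nf_unique' hm (S.H_le_B (hm.inv_mul_mem_H hm')) (cell_one_iff.1 hc) hu' hu (by group)).1⟩

theorem exists_coset (J : Set (Nd D)) (g : G) : ∃ d, (∀ j ∈ J, C.Pos (d (C.sp j))) ∧ ∃ m, S.Over m d ∧
    ∃ u ∈ S.Uw d⁻¹, (u * m)⁻¹ * g ∈ S.P J := by
  obtain ⟨w, hw, u, hu, m, hm, u', hu', rfl⟩ := S.exists_cell g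
  obtain ⟨v, hv, hd⟩ := Cert.exists_min_coset J (C.W_le_Aut hw)
  obtain ⟨n, hn⟩ := S.exists_over (C.WJ_le_W J hv)
  obtain ⟨a, ha, b, hb, e⟩ := ((hm.mul hn).cell.B_mul (S.Up_le_B hu)).exists_nf' (hm.mul hn)
  refine ⟨_, hd, _, hm.mul hn, a, ha, ?_⟩
  rw [show (a * (m * n))⁻¹ * (u * m * u') = (a * (m * n))⁻¹ * (u * (m * n)) * (n⁻¹ * u') by group, e,
    inv_mul_cancel_left]
  exact mul_mem (S.B_le_P J hb) (mul_mem (inv_mem (hn.mem_P hv)) (S.Up_le_P J hu'))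

theorem eq_of_conj_neg {r r' : Rt D} (hr' : ¬ C.Pos r') {a a' : F} (ha' : a' ≠ 0) {u u' : G} (hu : u ∈ S.Up)
    (hu' : u' ∈ S.Up) (h : u * S.x r a * u⁻¹ = u' * S.x r' a' * u'⁻¹) : r = r' := by
  have h1 := ((cell_x_neg hr' ha').B_mul (S.Up_le_B hu')).mul_B (S.Up_le_B (inv_mem hu'))
  have h3 : u * S.x r a * u⁻¹ ∉ S.Up := fun h2 => hr' (S.pos_of_x_mem_B ha' (S.Up_le_B (by
    rw [h] at h2
    simpa [mul_assoc] using mul_mem (mul_mem (inv_mem hu') h2) hu')))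
  have hr : ¬ C.Pos r := fun hr => h3 (mul_mem (mul_mem hu (S.x_mem_Up hr a)) (inv_mem hu))
  have ha : a ≠ 0 := by rintro rfl; simp [x_zero] at h3
  have h2 := ((cell_x_neg hr ha).B_mul (S.Up_le_B hu)).mul_B (S.Up_le_B (inv_mem hu))
  rw [h] at h2
  rcases C.eq_of_sr_eq (h2.unique h1) with e | e
  · exact e
  · exact absurd ((C.pos_rev_iff r').2 hr') (e ▸ hr)

theorem mem_Up_of_pow' (hφ : Function.Injective S.φ) (p : ℕ) [Fact p.Prime] [CharP F p] {b : G}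
    (hb : b ∈ S.B) {k : ℕ} (h : b ^ p ^ k = 1) : b ∈ S.Up := by
  obtain ⟨u, hu, a, ha, rfl⟩ := S.mem_B.1 hb
  have key : ∀ m : ℕ, (u * a) ^ m * (a ^ m)⁻¹ ∈ S.Up := by
    intro m
    induction m with
    | zero => simp
    | succ m ih =>
      have : (u * a) ^ (m + 1) * (a ^ (m + 1))⁻¹ = u * (a * ((u * a) ^ m * (a ^ m)⁻¹) * a⁻¹) := by
        rw [pow_succ', pow_succ' a]; group
      rw [this]; exact mul_mem hu (H_conj_U ha ih)
  have h1 : a ^ p ^ k = 1 := S.eq_one_of_mem_Up_H (by simpa [h] using key (p ^ k)) (pow_mem ha _)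
  have h3 : a = 1 := S.eq_of_chi hφ ha (one_mem _) fun i => by
    have h2 := chi_pow ha (C.sp i) (p ^ k)
    rw [h1, chi_one] at h2
    rw [chi_one]
    have h4 : ((S.chi a (C.sp i) : F) - 1) ^ p ^ k = 0 := by
      rw [sub_pow_char_pow, one_pow, ← Units.val_pow_eq_pow_val, ← h2, Units.val_one, sub_self]
    exact Units.ext (sub_eq_zero.1 (pow_eq_zero_iff (pow_ne_zero _ (Fact.out : p.Prime).ne_zero) |>.1 h4))
  rwa [h3, mul_one]

variable {S}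

theorem IsFld.map_P {ψ : G →* G} {σ : F →+* F} (h : S.IsFld ψ σ) {J : Set (Nd D)} {g : G} (hg : g ∈ S.P J) :
    ψ g ∈ S.P J := by
  obtain ⟨w, hw, u, hu, m, hm, u', hu', rfl⟩ := mem_P_iff.1 hg
  exact mem_P_iff.2 ⟨w, hw, _, h.map_U hu, _, h.over hm, _, h.map_U hu', by rw [map_mul, map_mul]⟩

theorem IsFld.fix_of_simple {ψ : G →* G} {σ : F →+* F} (h : S.IsFld ψ σ) {T : Set (Rt D)} (hT : C.Closed T)
    (hs : ∀ r ∈ T, ∃ j, r = C.sp j) {x : G} (hx : x ∈ S.U T) (h1 : ∀ r ∈ T, σ (S.cd r x) = S.cd r x) : ψ x = x := by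
  have hp : ∀ r ∈ T, C.Pos r := fun r hr => by obtain ⟨j, rfl⟩ := hs r hr; exact C.pos_sp j
  obtain ⟨t, ht, rfl⟩ := S.exists_nf_pos' hT hp hx
  rw [h.map_nf]
  refine S.nf_congr fun r _ => ?_
  by_cases hr : r ∈ T
  · have := h1 r hr
    obtain ⟨j, rfl⟩ := hs r hr
    rwa [S.cd_nf (f := Cert.lev ∅) zero_le_one (fun r hr => ht_pos (hp r hr)) (by rw [ht_sp]; norm_num)
      (List.nodup_finRange _) (fun s _ => ht s), if_pos (List.mem_finRange _)] at this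
  · rw [ht r hr, map_zero]

/-- a subgroup fixed by `T`, containing the unipotent elements fixed by `T` and `ψ`, whose unipotent elements have
fixed leading coefficients -/
structure Ov (T : Stb S) (ψ : G →* G) (φ : F →+* F) (M : Subgroup G) : Prop where
  inj : Function.Injective S.φ
  fld : S.IsFld ψ φ
  aut : T.ρ ∈ C.Aut
  fix : ∀ g ∈ M, T.σ g = g
  up : ∀ u ∈ S.Up, T.σ u = u → ψ u = u → u ∈ M
  ovr : ∀ i, ∃ m ∈ M, ψ m = m ∧ S.Over m (C.w0 (T.orb i))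
  simple : ∀ i r, C.Pos r → C.InJ (T.orb i) r → ∃ j, r = C.sp j
  proper : ∀ i, ∃ j, j ∉ T.orb i
  lead : ∀ r, C.Pos r → ∃ y ∈ M, y ∈ S.U {s | C.ht s = C.ht r ∧ ∀ J, T.Stable J → (C.InJ J s ↔ C.InJ J r)} ∧
    S.cd r y ≠ 0
  cd : ∀ y ∈ M, y ∈ S.Up → ∀ i, φ (S.cd (C.sp i) y) = S.cd (C.sp i) y

namespace Ov

variable {T : Stb S} {ψ : G →* G} {φ : F →+* F} {M : Subgroup G} (h : Ov T ψ φ M)
include h

theorem over_fix {w : Perm (Rt D)} (hw : w ∈ C.W) (e : T.cj w = w) : ∃ m ∈ M, ψ m = m ∧ S.Over m w :=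
  Stb.fix_induction (P := fun w => ∃ m ∈ M, ψ m = m ∧ S.Over m w) ⟨1, one_mem _, map_one _, S.over_one⟩
    (fun w _ _ i _ ⟨m, h1, h2, h3⟩ => by
      obtain ⟨n, h4, h5, h6⟩ := h.ovr i
      exact ⟨m * n, mul_mem h1 h4, by rw [map_mul, h2, h5], h3.mul h6⟩) hw e

theorem fix_Up {y : G} (hy : y ∈ M) (hu : y ∈ S.Up) : ψ y = y := by
  refine Stb.fix_induction (P := fun w => ∀ y ∈ M, y ∈ S.Uw w → ψ y = y) (fun y _ hy => ?_)
    (fun w hw e i hi ih y hy hu => ?_) (C.w0_mem_W Set.univ) T.stable_univ.cj_w0 y hy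
    (S.U_mono (fun r hr => And.intro hr fun h => Cert.pos_w0_univ_iff.1 h hr) hu)
  · have : y ∈ S.U ∅ := S.U_mono (fun r hr => hr.2 hr.1) hy
    rw [S.U_empty, Subgroup.mem_bot] at this
    rw [this, map_one]
  · have hw' := C.W_le_Aut (mul_mem hw (C.w0_mem_W (T.orb i)))
    obtain ⟨v, hv, x, hx, rfl⟩ := S.split_pos (T1 := {r | ¬ C.InJ (T.orb i) r}) (T2 := {r | C.InJ (T.orb i) r})
      (Cert.closed_inv hw') (fun r hr => hr.1) (fun r _ => (em _).symm) hu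
    have hv' : v ∈ S.Up := S.U_le_Up (fun r hr => hr.1.1) hv
    have hx' : x ∈ S.Up := S.U_le_Up (fun r hr => hr.1.1) hx
    have h1 := ((T.stable_orb i).levi (S.U_mono (fun r hr => And.intro hr.1.1 hr.2) hv)
      (Subgroup.mem_sup_left (S.U_mono (fun r hr => hr.2) hx)) (h.fix _ hy)).2
    have h2 : ψ x = x := h.fld.fix_of_simple ((Cert.closed_inv hw').inter (Cert.closed_inJ _))
      (fun r hr => h.simple i r hr.1.1 hr.2) hx fun r hr => by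
        obtain ⟨j, rfl⟩ := h.simple i r hr.1.1 hr.2
        have := h.cd _ hy (mul_mem hv' hx') j
        rwa [S.cd_sp_mul j hv' hx', S.cd_sp_eq_zero (fun r hr => hr.1.1) (fun h => h.2 hr.2) hv, zero_add] at this
    obtain ⟨m, h3, h4, h5⟩ := h.ovr i
    have h6 := ih (m * v * m⁻¹) (mul_mem (mul_mem h3 (by simpa using mul_mem hy (inv_mem (h.up x hx' h1 h2))))
      (inv_mem h3)) (h5.acts.conj_mem (fun r hr => And.intro (Cert.pos_map_of_not_inJ (C.w0_mem _) hr.1.1 hr.2)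
        hr.1.2) hv)
    rw [map_mul, map_mul, map_inv, h4, mul_left_inj, mul_right_inj] at h6
    rw [map_mul, h6, h2]

theorem rational {J : Set (Nd D)} (hJ : T.Stable J) {g : G} (h1 : g⁻¹ * ψ g ∈ S.P J) (h2 : g⁻¹ * T.σ g ∈ S.P J) :
    ∃ a ∈ M, ψ a = a ∧ a⁻¹ * g ∈ S.P J := by
  obtain ⟨d, hd, m, hm, u, hu, hp⟩ := S.exists_coset J g
  have h3 := (S.coset_unique hd hd hm (h.fld.over hm) hu (h.fld.map_U hu) (by
    have := mul_mem (mul_mem hp h1) (inv_mem (h.fld.map_P hp))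
    simpa [mul_assoc] using this)).2
  have h4 := S.coset_unique hd (d' := T.cj d) (fun j hj => by
    obtain ⟨i, rfl⟩ := T.π.surjective j
    rw [← T.sp, T.cj_apply, T.pos]
    exact hd i ((hJ i).1 hj)) hm (T.σ_over hm) hu (by rw [← T.cj_inv]; exact T.σ_Uw hu) (by
    have := mul_mem (mul_mem hp h2) (inv_mem (hJ.σ_P hp))
    simpa [mul_assoc] using this)
  obtain ⟨n, h5, h6, h7⟩ := h.over_fix hm.mem_W h4.1
  refine ⟨u * n, mul_mem (h.up u (S.Uw_le_Up _ hu) h4.2 h3) h5, by rw [map_mul, h3, h6], ?_⟩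
  simpa [mul_assoc] using mul_mem (S.H_le_P J (h7.inv_mul_mem_H hm)) hp

theorem commute_of_conj {g y : G} (hg : g ∈ M) (hy : y ∈ M) (h1 : y ∈ S.Up) (h2 : g * y * g⁻¹ ∈ S.Up) :
    g⁻¹ * ψ g * y = y * (g⁻¹ * ψ g) := by
  have h3 := h.fix_Up (mul_mem (mul_mem hg hy) (inv_mem hg)) h2
  rw [map_mul, map_mul, map_inv, h.fix_Up hy h1] at h3
  calc _ = g⁻¹ * (ψ g * y * (ψ g)⁻¹) * ψ g := by group
    _ = _ := by rw [h3]; group

theorem exists_B {J : Set (Nd D)} (hJ : T.Stable J) {i₀ : Nd D} (h0 : i₀ ∉ J) {g : G} (hg : g ∈ M) (hP : g ∈ S.P J) :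
    ∃ a ∈ M, ψ a = a ∧ a⁻¹ * g ∈ S.B := by
  rw [← S.P_empty]
  refine h.rational (fun _ => Iff.rfl) ?_ (by rw [h.fix g hg, inv_mul_cancel]; exact one_mem _)
  rw [S.P_empty]
  refine S.mem_B_of_commute h0 fun r hr hr' => ?_
  obtain ⟨y, h1, h2, h3⟩ := h.lead r hr
  have h4 : y ∈ S.UJ J := S.U_mono (fun s hs => And.intro (C.pos_of_ht (hs.1 ▸ C.one_le_ht hr))
    fun h => hr' ((hs.2 J hJ).1 h)) h2
  exact ⟨y, S.U_mono (fun s hs => by rw [Set.mem_ofPred_eq, C.lev_empty, hs.1]) h2, h3,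
    h.commute_of_conj hg h1 (S.UJ_le_Up J h4) (S.UJ_le_Up J (S.P_conj_UJ hP h4))⟩

theorem fix_B {b : G} (hb : b ∈ M) (hB : b ∈ S.B) : ψ b = b := by
  have key := Stb.fix_induction (P := fun w => ∀ b ∈ M, b ∈ S.B → ∃ m ∈ M, ψ m = m ∧ S.Over m w ∧
      ∃ a ∈ M, ψ a = a ∧ a⁻¹ * (b * m) ∈ S.B)
    (fun b _ hB => ⟨1, one_mem _, map_one _, S.over_one, 1, one_mem _, map_one _, by simpa using hB⟩)
    (fun w hw e i hi ih b hb hB => by
      obtain ⟨m, h1, h2, h3, a, h4, h5, h6⟩ := ih b hb hB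
      obtain ⟨n, h7, h8, h9⟩ := h.ovr i
      obtain ⟨j, hj⟩ := h.proper i
      obtain ⟨a', k1, k2, k3⟩ := h.exists_B (T.stable_orb i) hj (mul_mem (mul_mem (inv_mem h4) (mul_mem hb h1)) h7)
        (mul_mem (S.B_le_P _ h6) (h9.mem_P (C.w0_mem _)))
      exact ⟨m * n, mul_mem h1 h7, by rw [map_mul, h2, h8], h3.mul h9, a * a', mul_mem h4 k1,
        by rw [map_mul, h5, k2], by simpa [mul_assoc] using k3⟩)
    (C.w0_mem_W Set.univ) T.stable_univ.cj_w0 b hb hB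
  obtain ⟨m, h1, h2, h3, a, h4, h5, h6⟩ := key
  have h7 := mul_mem (inv_mem h6) (h.fld.map_B h6)
  rw [map_mul, map_mul, map_inv, h2, h5] at h7
  have hH : b⁻¹ * ψ b ∈ S.H := S.mem_H_of_conj (fun u hu => S.B_conj_Up (mul_mem (inv_mem hB) (h.fld.map_B hB)) hu)
    fun v hv => by
      have := S.w0_conj_Up h3 (S.B_conj_Up h7 (S.w0_conj_Um (by simpa [Cert.w0_inv] using h3.inv) hv))
      simpa [mul_assoc] using this
  rw [eq_comm, ← inv_mul_eq_one]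
  refine S.eq_of_chi h.inj hH (one_mem _) fun i => ?_
  obtain ⟨y, k1, k2, k3⟩ := h.lead _ (C.pos_sp i)
  have k4 : y ∈ S.Up := S.U_le_Up (fun s hs => by exact C.pos_of_ht (hs.1 ▸ C.one_le_ht (C.pos_sp i))) k2
  have k5 := TwM.cd_conj_H S (Cert.lev ∅) zero_le_one (fun r hr => ht_pos hr) (r := C.sp i)
    (by rw [ht_sp]; norm_num) hH k4
  rw [h.commute_of_conj hb k1 k4 (S.B_conj_Up hB k4), mul_inv_cancel_right] at k5
  rw [chi_one]
  exact Units.ext (mul_right_cancel₀ k3 (k5.symm.trans (one_mul _).symm))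

theorem fix_P {J : Set (Nd D)} (hJ : T.Stable J) {i₀ : Nd D} (h0 : i₀ ∉ J) {g : G} (hg : g ∈ M) (hP : g ∈ S.P J) :
    ψ g = g := by
  obtain ⟨a, h1, h2, h3⟩ := h.exists_B hJ h0 hg hP
  have := h.fix_B (mul_mem (inv_mem h1) hg) h3
  rwa [map_mul, map_inv, h2, mul_right_inj] at this

theorem kempf {c g : G} {f : (Nd D → ℤ) →ₗ[ℤ] ℝ} (hd : ∀ j, 0 ≤ f (C.rc (C.sp j))) (ho : S.Opt {c} f)
    (hg : g * c * g⁻¹ ∈ S.U {r | 1 ≤ f (C.rc r)}) (hc : c ∈ M) (e : ψ c = c) :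
    T.Stable {j | f (C.rc (C.sp j)) = 0} ∧ ∃ a ∈ M, ψ a = a ∧ g * a ∈ S.P {j | f (C.rc (C.sp j)) = 0} := by
  have ho' : S.Opt {g * c * g⁻¹} f := ho.conj g (by simp)
  have h1 := (ho'.unique hd hd rfl (by simpa using hg) (y := ψ g * g⁻¹) (by
    have := h.fld.map_U hg
    rw [map_mul, map_mul, map_inv, e] at this
    simpa [mul_assoc] using this)).2
  have hρ : ∀ r, (f ∘ₗ C.lin T.ρ⁻¹) (C.rc (T.ρ r)) = f (C.rc r) := fun r => by
    rw [LinearMap.comp_apply, ← Cert.Aut.rc_map (inv_mem h.aut)]; simp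
  have h2 := ho'.unique (f' := f ∘ₗ C.lin T.ρ⁻¹) hd (fun j => by
    obtain ⟨i, rfl⟩ := T.π.surjective j
    rw [← T.sp, hρ]; exact hd i) (Cert.qR_comp (inv_mem h.aut) f) (by simpa using hg) (y := T.σ g * g⁻¹) (by
    have := T.σ_U (B := {r | 1 ≤ (f ∘ₗ C.lin T.ρ⁻¹) (C.rc r)}) (fun r hr => by
      rw [Set.mem_ofPred_eq, hρ]; exact hr) hg
    rw [map_mul, map_mul, map_inv, h.fix c hc] at this
    simpa [mul_assoc] using this)
  have h3 : T.Stable {j | f (C.rc (C.sp j)) = 0} := fun i => by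
    show _ = _ ↔ _ = _
    rw [← T.sp, ← hρ (C.sp i), h2.1]
  obtain ⟨a, h4, h5, h6⟩ := h.rational h3 (g := g⁻¹) (by simpa using inv_mem h1) (by simpa using inv_mem h2.2)
  exact ⟨h3, a, h4, h5, by simpa using inv_mem h6⟩

/-- strong embedding of the fixed points -/
theorem se {c g₀ m : G} (hc : c ∈ M) (h1 : c ≠ 1) (hu : g₀ * c * g₀⁻¹ ∈ S.Up) (e : ψ c = c) (hm : m ∈ M)
    (e' : ψ (m * c * m⁻¹) = m * c * m⁻¹) : ψ m = m := by
  obtain ⟨g, f, hd, ho, hg⟩ := S.exists_opt (X := {c}) (g₀ := g₀) (by simpa using hu)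
  have hg := hg c rfl
  obtain ⟨h2, a, h3, h4, h5⟩ := h.kempf hd ho hg hc e
  obtain ⟨-, a', h6, h7, h8⟩ := h.kempf (g := g * m⁻¹) hd (ho.conj m (by simp)) (by simpa [mul_assoc] using hg)
    (mul_mem (mul_mem hm hc) (inv_mem hm)) e'
  obtain ⟨i, hi⟩ : ∃ i, i ∉ {j | f (C.rc (C.sp j)) = 0} := by
    by_contra hn
    push Not at hn
    have := S.U_ge_le_UJ hd hg
    rw [Set.eq_univ_of_forall hn, S.UJ_univ, Subgroup.mem_bot] at this
    exact h1 (by simpa using this)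
  have h9 := h.fix_P h2 hi (mul_mem (mul_mem (inv_mem h6) hm) h3) (by
    simpa [mul_assoc] using mul_mem (inv_mem h8) h5)
  rwa [map_mul, map_mul, map_inv, h4, h7, mul_left_inj, mul_right_inj] at h9

theorem se_comm {c g₀ m : G} (hc : c ∈ M) (h1 : c ≠ 1) (hu : g₀ * c * g₀⁻¹ ∈ S.Up) (e : ψ c = c) (hm : m ∈ M)
    (e' : m * c = c * m) : ψ m = m :=
  h.se hc h1 hu e hm (by rw [e', mul_inv_cancel_right, e])

theorem exists_conj [Finite M] (p : ℕ) [Fact p.Prime] [CharP F p] {c : G} (hc : c ∈ M) {k : ℕ} (hk : c ^ p ^ k = 1) :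
    ∃ g : G, g * c * g⁻¹ ∈ S.Up := by
  let P : Sylow p M :=
    { toSubgroup := S.Up.subgroupOf M
      isPGroup' := fun u => by
        obtain ⟨n, hn⟩ := Lang.exists_pow_eq_one p (S := S) u.2
        exact ⟨n, Subtype.ext (Subtype.ext hn)⟩
      is_maximal' := fun {Q} hQ hle => by
        by_contra h1
        obtain ⟨g, hg, h2, h3⟩ := exists_normalizer_of_lt hQ (lt_of_le_of_ne hle (Ne.symm h1))
        obtain ⟨w, hw, hcell⟩ := S.exists_cell g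
        obtain rfl : w = 1 := Cert.eq_one_of_pos hw fun i => by
          obtain ⟨y, k1, k2, k3⟩ := h.lead _ (C.pos_sp i)
          have k4 : y ∈ S.Up := S.U_le_Up (fun s hs => by exact C.pos_of_ht (hs.1 ▸ C.one_le_ht (C.pos_sp i))) k2
          exact S.pos_of_conj_mem hcell k4 k3 ((Subgroup.mem_normalizer_iff.1 h3 ⟨y, k1⟩).1 k4)
        obtain ⟨n, hn⟩ := hQ ⟨g, hg⟩
        exact h2 (S.mem_Up_of_pow' h.inj p (cell_one_iff.1 hcell) (k := n)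
          (congrArg (fun x : Q => ((x : M) : G)) hn)) }
  have : IsPGroup p (Subgroup.zpowers (⟨c, hc⟩ : M)) := by
    rintro ⟨_, m, rfl⟩
    refine ⟨k, Subtype.ext ?_⟩
    show ((⟨c, hc⟩ : M) ^ m) ^ p ^ k = 1
    rw [← zpow_natCast, ← zpow_mul, mul_comm, zpow_mul, zpow_natCast, show (⟨c, hc⟩ : M) ^ p ^ k = 1 from
      Subtype.ext hk, one_zpow]
  obtain ⟨Q, hQ⟩ := this.exists_le_sylow
  obtain ⟨g, hg⟩ := MulAction.exists_smul_eq M Q P
  have : g * ⟨c, hc⟩ * g⁻¹ ∈ (g • Q : Sylow p M) :=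
    Subgroup.smul_mem_pointwise_smul _ _ _ (hQ (Subgroup.mem_zpowers _))
  rw [hg] at this
  exact ⟨g, this⟩

/-- elements which are not fixed move the highest root element to an opposite one -/
theorem exists_opp (hz : S.x C.top 1 ∈ M) {g : G} (hg : g ∈ M) (hn : ψ g ≠ g) : ∃ u ∈ S.Up, T.σ u = u ∧ ∃ μ, μ ≠ 0 ∧
    g * S.x C.top 1 * g⁻¹ = u * S.x C.top.rev μ * u⁻¹ := by
  obtain ⟨w, hw, hcell⟩ := S.exists_cell g
  obtain ⟨u, hu, m, hm, u', hu', rfl⟩ := hcell.exists_nfU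
  obtain ⟨c, hc⟩ := hm.acts C.top
  have e : u * m * u' * S.x C.top 1 * (u * m * u')⁻¹ = u * S.x (w C.top) (c * 1) * u⁻¹ := by
    rw [← hc, mul_assoc _ u', S.Up_commute_top (S.Uw_le_Up _ hu')]; group
  have hc0 : (c : F) * 1 ≠ 0 := by simp
  refine ⟨u, hu, (Stb.nf_fix hu hm hu' (h.fix _ hg)).2.1, _, hc0, ?_⟩
  by_contra hne
  have hβ : w C.top ≠ C.top.rev := fun e' => hne (by rw [e, e'])
  generalize u * m * u' = g at *
  generalize (c : F) * 1 = d at *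
  have hl := Cert.Aut.len_map (C.W_le_Aut hw) C.top
  generalize w C.top = β at *
  have z1 : S.x C.top 1 ≠ 1 := by simp [S.x_eq_one_iff]
  have z2 : 1 * S.x C.top 1 * 1⁻¹ ∈ S.Up := by simpa using S.x_mem_Up C.pos_top 1
  have z3 : ψ (S.x C.top 1) = S.x C.top 1 := by rw [h.fld, map_one]
  have z4 : u * S.x C.top 1 * u⁻¹ = S.x C.top 1 := by rw [S.Up_commute_top hu, mul_inv_cancel_right]
  have hz' : u * S.x β d * u⁻¹ ∈ M := e ▸ mul_mem (mul_mem hg hz) (inv_mem hg)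
  apply hn
  refine h.se hz z1 z2 z3 hg ?_
  rw [e]
  by_cases hN : C.N C.top β = 0
  · refine h.se_comm hz z1 z2 z3 hz' ?_
    rw [← z4]
    exact conj_comm u (S.commute_of_N hβ hN 1 d).symm
  obtain ⟨v, -, hv, -⟩ := C.exists_add hN
  have key : ∀ r s : Rt D, C.len r = C.len C.top → C.len s = C.len C.top → C.rc v = C.rc r + C.rc s →
      v ≠ r.rev ∧ ∀ u, C.rc u ≠ C.rc v + C.rc r := fun r s hr hs e => by
    have h1 := C.len_add e
    have h2 := C.len_le_top v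
    have h3 := C.len_pos v
    have h4 : C.A r v = 2 + C.A r s := by rw [← C.pr_rc, e, C.pr_add, C.pr_rc, C.pr_rc, C.A_self]
    rw [hr, hs] at h1
    have h5 : C.A r s = -1 := by
      have : -2 < C.A r s := by nlinarith
      have : C.A r s < 0 := by nlinarith
      omega
    refine ⟨fun e' => ?_, fun u e' => ?_⟩
    · rw [e', C.A_rev_right, C.A_self] at h4; omega
    · have h6 := C.len_add (e'.trans (add_comm _ _))
      have h7 := C.len_le_top u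
      rw [h4, h5, hr] at h6
      omega
  have k1 := key _ _ rfl hl hv
  have k2 := key _ _ hl rfl (hv.trans (add_comm _ _))
  have k3 := S.comm_simple hv k1.2 k2.2 1 d
  have c1 := S.commute_of_not_add k1.1 (fun u e => k1.2 u (e.trans (add_comm _ _))) 1 (-(C.N C.top β * 1 * d))
  have c2 := S.commute_of_not_add k2.1 (fun u e => k2.2 u (e.trans (add_comm _ _))) d (-(C.N C.top β * 1 * d))
  have hcM : u * S.x v (-(C.N C.top β * 1 * d)) * u⁻¹ ∈ M := by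
    have := mul_mem (mul_mem (mul_mem (inv_mem hz') (inv_mem hz)) hz') hz
    rw [← z4] at this
    rw [← k3]
    simpa [mul_assoc] using this
  have c3 : u * S.x v (-(C.N C.top β * 1 * d)) * u⁻¹ * S.x C.top 1 =
      S.x C.top 1 * (u * S.x v (-(C.N C.top β * 1 * d)) * u⁻¹) := by
    rw [← z4]; exact conj_comm u c1.symm
  by_cases h0 : S.x v (-(C.N C.top β * 1 * d)) = 1
  · refine h.se_comm hz z1 z2 z3 hz' ?_
    rw [← z4]
    rw [h0, mul_assoc, ← mul_inv_rev, inv_mul_eq_one] at k3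
    exact conj_comm u k3.symm
  obtain ⟨w', hw', j, hj⟩ := C.exists_sp_conj v
  obtain ⟨n, hn⟩ := S.exists_over hw'
  refine h.se_comm hcM (by simpa using h0) (g₀ := n⁻¹ * u⁻¹) ?_ (h.se_comm hz z1 z2 z3 hcM c3) hz' ?_
  · have := hn.acts.inv_conj_mem (T := {v}) (T' := {r | C.Pos r}) (by
      intro r hr
      rw [Set.mem_singleton_iff.1 hr, ← hj, Set.mem_ofPred_eq]; simpa using C.pos_sp j)
      (S.x_mem_U (Set.mem_singleton v) (-(C.N C.top β * 1 * d)))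
    rwa [show n⁻¹ * u⁻¹ * (u * S.x v (-(C.N C.top β * 1 * d)) * u⁻¹) * (n⁻¹ * u⁻¹)⁻¹ =
      n⁻¹ * S.x v (-(C.N C.top β * 1 * d)) * n by group]
  · exact conj_comm u c2

theorem not_opp (hz : S.x C.top 1 ∈ M) {g : G} (hg : g ∈ M) (hn : ψ g ≠ g) {j : Nd D} (hj : C.A (C.sp j) C.top ≠ 0)
    {u : G} (hu : u ∈ S.Up) {t : Fˣ} {μ : F}
    (e : g * S.x C.top 1 * g⁻¹ = u * S.n (C.sp j) t * S.x C.top.rev μ * (u * S.n (C.sp j) t)⁻¹) : False := by
  obtain ⟨u', hu', -, μ', h1, h2⟩ := h.exists_opp hz hg hn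
  rw [h2, show u * S.n (C.sp j) t * S.x C.top.rev μ * (u * S.n (C.sp j) t)⁻¹ =
    u * (S.n (C.sp j) t * S.x C.top.rev μ * (S.n (C.sp j) t)⁻¹) * u⁻¹ by group, S.n_conj] at e
  have h3 := congrArg C.rc (S.eq_of_conj_neg (C.not_pos_rev C.pos_top) h1 hu hu' e.symm)
  rw [C.rc_refl, sub_eq_self, C.A_rev_right, smul_eq_zero] at h3
  exact h3.elim (fun h => hj (neg_eq_zero.1 h)) (C.rc_ne_zero _)

theorem opp_ne_zero (hz : S.x C.top 1 ∈ M) {g : G} (hg : g ∈ M) (hn : ψ g ≠ g) {j : Nd D}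
    (hj : C.A (C.sp j) C.top ≠ 0) (hm : S.n (C.sp j) 1 ∈ M) {u : G} (hu : u ∈ S.Up) {μ : F}
    (e : g * S.x C.top 1 * g⁻¹ = u * S.x C.top.rev μ * u⁻¹) : S.cd (C.sp j) u ≠ 0 := fun h0 => by
  obtain ⟨v, hv, e'⟩ := S.split_sp' j hu
  rw [h0, x_zero, mul_one] at e'
  subst e'
  refine h.not_opp hz (mul_mem hm hg) (by rwa [map_mul, h.fld.map_n, map_one, Ne, mul_right_inj]) hj
    (S.UJ_le_Up _ (S.P_conj_UJ ((S.over_ns j 1).mem_P (C.ss_mem_WJ (Set.mem_singleton j))) hv)) (t := 1) (μ := μ) ?_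
  calc _ = S.n (C.sp j) 1 * (g * S.x C.top 1 * g⁻¹) * (S.n (C.sp j) 1)⁻¹ := by group
    _ = _ := by rw [e]; group

theorem opp_step (hz : S.x C.top 1 ∈ M) {g : G} (hg : g ∈ M) (hn : ψ g ≠ g) {j : Nd D}
    (hj : C.A (C.sp j) C.top ≠ 0) {c : F} (hm : S.x (C.sp j).rev c ∈ M) (hc : φ c = c) {u : G} (hu : u ∈ S.Up) {μ : F}
    (e : g * S.x C.top 1 * g⁻¹ = u * S.x C.top.rev μ * u⁻¹) : 1 + S.cd (C.sp j) u * c ≠ 0 ∧
      ∃ g' ∈ M, ψ g' ≠ g' ∧ ∃ u' ∈ S.Up, g' * S.x C.top 1 * g'⁻¹ =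
        u' * S.x C.top.rev ((1 + S.cd (C.sp j) u * c) ^ C.A (C.sp j) C.top * μ) * u'⁻¹ := by
  obtain ⟨v, hv, e'⟩ := S.split_sp' j hu
  generalize S.cd (C.sp j) u = s at *
  subst e'
  have h1 := S.UJ_le_Up _ (S.P_conj_UJ (S.x_mem_P (Or.inr (C.inJ_rev.2 (C.inJ_sp.2 (Set.mem_singleton j)))) c) hv)
  have h2 : ψ (S.x (C.sp j).rev c * g) ≠ S.x (C.sp j).rev c * g := by
    rwa [map_mul, h.fld, hc, Ne, mul_right_inj]
  have h3 : S.x (C.sp j).rev c * g * S.x C.top 1 * (S.x (C.sp j).rev c * g)⁻¹ =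
      S.x (C.sp j).rev c * v * (S.x (C.sp j).rev c)⁻¹ * (S.x (C.sp j).rev c * S.x (C.sp j) s) * S.x C.top.rev μ *
      (S.x (C.sp j).rev c * v * (S.x (C.sp j).rev c)⁻¹ * (S.x (C.sp j).rev c * S.x (C.sp j) s))⁻¹ := by
    calc _ = S.x (C.sp j).rev c * (g * S.x C.top 1 * g⁻¹) * (S.x (C.sp j).rev c)⁻¹ := by group
      _ = _ := by rw [e]; group
  have h4 : 1 + s * c ≠ 0 := fun h0 => by
    have hc0 : c ≠ 0 := by rintro rfl; simp at h0
    have h5 := S.x_rev_eq (C.sp j) (Units.mk0 c hc0)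
    have h6 : s = -c⁻¹ := by field_simp; linear_combination h0
    rw [Units.val_mk0] at h5
    rw [show S.x (C.sp j).rev c * S.x (C.sp j) s = S.x (C.sp j) ((Units.mk0 c hc0)⁻¹ : Fˣ) *
      S.n (C.sp j) (-(Units.mk0 c hc0)⁻¹) by rw [h5, h6, x_neg]; simp, ← mul_assoc] at h3
    exact h.not_opp hz (mul_mem hm hg) h2 hj (mul_mem h1 (S.x_mem_Up (C.pos_sp j) _)) h3
  refine ⟨h4, _, mul_mem hm hg, h2, _, mul_mem h1 (S.x_mem_Up (C.pos_sp j) (s / (1 + s * c))), ?_⟩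
  have h5 := S.commute_of_not_add (r := (C.sp j).rev) (s := C.top.rev) (fun e => by
    rw [Fin.rev_rev] at e
    exact C.not_pos_rev C.pos_top (e ▸ C.pos_sp j)) (fun u e => C.not_add_top (C.pos_sp j) u.rev (by
      rw [C.rc_neg, e, C.rc_neg, C.rc_neg]; abel)) (c / (1 + s * c)) μ
  have h6 := h_conj_x (S := S) (C.sp j) (Units.mk0 _ h4)⁻¹ C.top.rev μ
  rw [C.A_rev_right, inv_zpow', neg_neg, Units.val_zpow_eq_zpow_val, Units.val_mk0] at h6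
  rw [h3, S.x_rev_mul_x h.inj _ h4, ← h6]
  generalize S.x (C.sp j).rev c * v * (S.x (C.sp j).rev c)⁻¹ = a
  generalize S.x (C.sp j) (s / (1 + s * c)) = b
  generalize S.h (C.sp j) (Units.mk0 _ h4)⁻¹ = d
  generalize S.x (C.sp j).rev (c / (1 + s * c)) = x at h5
  generalize S.x C.top.rev μ = y at h5
  calc _ = a * b * d * (x * y) * x⁻¹ * (a * b * d)⁻¹ := by group
    _ = _ := by rw [h5]; group

end Ov

end Sys

end Cfsg.Agent.Chev
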