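import Cfsg.Agent.Chev.Over1
import Cfsg.Agent.Chev.Cent3

/-!
Finite subgroups containing the root elements `x r 1`: the unipotent part is defined over a finite field.
-/

set_option autoImplicit false
set_option linter.unusedSimpArgs false
set_option linter.unusedVariables false

namespace Cfsg.Agent.Chev

open Cfsg.Lie Cfsg.Lie.ChevalleyDatum Equiv Tw

attribute [-simp] zsmul_eq_mul nsmul_eq_mul

section field

variable {F : Type*} [Field F]

/-- a finite additive subgroup which contains `1` and is closed under products -/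
def fieldOf (A : AddSubgroup F) [Finite A] (h1 : (1 : F) ∈ A) (h : ∀ a ∈ A, ∀ b ∈ A, a * b ∈ A) : Subfield F where
  carrier := A
  mul_mem' := fun ha hb => h _ ha _ hb
  one_mem' := h1
  add_mem' := A.add_mem
  zero_mem' := A.zero_mem
  neg_mem' := A.neg_mem
  inv_mem' := fun x hx => by
    by_cases h0 : x = 0
    · rw [h0, inv_zero]; exact A.zero_mem
    · obtain ⟨y, hy⟩ := Finite.surjective_of_injective (f := fun y : A => (⟨x * y, h _ hx _ y.2⟩ : A))
        (fun a b e => Subtype.ext (mul_left_cancel₀ h0 (congrArg Subtype.val e))) ⟨1, h1⟩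
      rw [← eq_inv_of_mul_eq_one_right (congrArg Subtype.val hy)]
      exact y.2

theorem mem_of_pow_char (p : ℕ) [Fact p.Prime] [CharP F p] (E : Subfield F) [Finite E] {t : F} (h : t ^ p ∈ E) :
    t ∈ E := by
  obtain ⟨y, hy⟩ := Finite.surjective_of_injective (f := fun y : E => y ^ p)
    (fun a b e => Subtype.ext (frobenius_inj F p (congrArg Subtype.val e))) ⟨_, h⟩
  rw [← frobenius_inj F p (congrArg Subtype.val hy : (y : F) ^ p = t ^ p)]
  exact y.2

theorem mem_of_natCast_mul (p : ℕ) [Fact p.Prime] [CharP F p] (A : AddSubgroup F) {n : ℕ} (hn : ¬ p ∣ n) {t : F}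
    (h : n * t ∈ A) : t ∈ A := by
  obtain ⟨m, hm⟩ := Nat.exists_mul_mod_eq_one_of_coprime ((Nat.Prime.coprime_iff_not_dvd Fact.out).2 hn).symm
    (Fact.out : p.Prime).one_lt
  have h1 : ((n * m : ℕ) : F) = 1 := by rw [CharP.natCast_eq_natCast_mod F p, hm.2, Nat.cast_one]
  have := A.nsmul_mem h m
  rwa [nsmul_eq_mul, ← mul_assoc, ← Nat.cast_mul, mul_comm m, h1, one_mul] at this

theorem mem_of_intCast_mul (p : ℕ) [Fact p.Prime] [CharP F p] (A : AddSubgroup F) {n : ℤ} (hn : ¬ p ∣ n.natAbs) {t : F}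
    (h : n * t ∈ A) : t ∈ A := by
  refine mem_of_natCast_mul p A hn ?_
  rcases Int.natAbs_eq n with e | e
  · rwa [e, Int.cast_natCast] at h
  · rw [e, Int.cast_neg, Int.cast_natCast, neg_mul] at h
    simpa using h

theorem exists_frob_eq (p : ℕ) [Fact p.Prime] [CharP F p] (E : Subfield F) [Finite E] :
    ∃ n, 0 < n ∧ Nat.card E = p ^ n ∧ ∀ t, t ∈ E ↔ t ^ p ^ n = t := by
  classical
  obtain ⟨n, hn, hc⟩ := Sys.exists_card_pow E p
  have := Fintype.ofFinite E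
  have h1 : ∀ t ∈ E, t ^ p ^ n = t := fun t ht => by
    have := FiniteField.pow_card (⟨t, ht⟩ : E)
    rw [← Nat.card_eq_fintype_card, hc] at this
    exact congrArg Subtype.val this
  have h2 : 1 < p ^ n := Nat.one_lt_pow hn.ne' (Fact.out : p.Prime).one_lt
  have h3 : ∀ t, t ∈ (Polynomial.X ^ p ^ n - Polynomial.X : Polynomial F).roots.toFinset ↔ t ^ p ^ n = t := fun t => by
    simp [Polynomial.mem_roots (FiniteField.X_pow_card_sub_X_ne_zero F h2), sub_eq_zero]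
  have h4 : (E : Set F) = (Polynomial.X ^ p ^ n - Polynomial.X : Polynomial F).roots.toFinset :=
    Set.eq_of_subset_of_ncard_le (fun t ht => (h3 t).2 (h1 t ht)) (by
      rw [Set.ncard_coe_finset, ← Nat.card_coe_set_eq]
      exact ((Multiset.toFinset_card_le _).trans (Polynomial.card_roots' _)).trans
        ((FiniteField.X_pow_card_sub_X_natDegree_eq F h2).trans hc.symm).le)
  exact ⟨n, hn, hc, fun t => (Set.ext_iff.1 h4 t).trans (h3 t)⟩

end field

namespace Cert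

variable {D : ChevalleyDatum} (C : Cert D)

theorem eq_top_of_ht {r : Rt D} (h : C.ht C.top ≤ C.ht r) : r = C.top :=
  C.rc_inj (funext fun i => (Finset.sum_eq_sum_iff_of_le fun i _ => C.rc_le_top r i).1
    (le_antisymm (Finset.sum_le_sum fun i _ => C.rc_le_top r i) h) i (Finset.mem_univ i))

theorem pos_of_top {r s : Rt D} (h : C.rc C.top = C.rc r + C.rc s) : C.Pos s := fun i => by
  have h1 := C.rc_le_top r i
  rw [h, Pi.add_apply] at h1
  omega

theorem long_add {r s u : Rt D} (h : C.rc u = C.rc r + C.rc s) (hr : C.len r = C.len C.top)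
    (hu : C.len u = C.len C.top) : C.len s = C.len C.top ∧ C.A r u = 1 ∧ (C.N s r).natAbs = 1 := by
  have h1 := C.len_add h
  have h2 := C.len_le_top s
  have h3 := C.len_pos s
  have h4 : C.A r u = 2 + C.A r s := by rw [← C.pr_rc, h, C.pr_add, C.pr_rc, C.pr_rc, C.A_self]
  rw [hr, hu] at h1
  have h5 : C.A r s = -1 := by
    have : -2 < C.A r s := by nlinarith
    have : C.A r s < 0 := by nlinarith
    omega
  rw [h5] at h1
  refine ⟨by omega, by omega, ?_⟩
  have h6 := C.N_abs' (C.ch_one_of_add h)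
  have h7 : C.cl r.rev s = 0 := by
    rw [← C.N_eq_zero_iff']
    by_contra h8
    obtain ⟨v, -, hv, -⟩ := C.exists_add h8
    have h9 := C.len_add hv
    have := C.len_le_top v
    rw [C.len_rev, C.A_rev_left, h5, hr] at h9
    omega
  rw [h7, Int.abs_eq_natAbs] at h6
  rw [C.N_anti, Int.natAbs_neg]
  omega

end Cert

namespace Sys

variable {D : ChevalleyDatum} {C : Cert D} {F : Type*} [Field F] {G : Type*} [Group G] (S : Sys C F G)

theorem cd_comm_x (f : (Nd D → ℤ) →ₗ[ℤ] ℤ) {k : ℤ} (hk : 0 < k) {γ δ : Rt D} (hγ : 0 < f (C.rc γ))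
    (hδ : f (C.rc δ) = k + f (C.rc γ)) (c : F) {z : G} (hz : z ∈ S.U {r | k ≤ f (C.rc r)}) :
    S.cd δ (S.x γ c * z * (S.x γ c)⁻¹ * z⁻¹) =
      ∑ β, if C.rc δ = C.rc β + C.rc γ then C.N γ β * c * S.cd β z else 0 := by
  refine S.U_induction (P := fun z => S.cd δ (S.x γ c * z * (S.x γ c)⁻¹ * z⁻¹) =
    ∑ β, if C.rc δ = C.rc β + C.rc γ then C.N γ β * c * S.cd β z else 0) (by simp [cd_one]) (fun s hs d z hz ih => ?_) hz
  have hs' : k ≤ f (C.rc s) := hs
  have h1 := S.comm_level f hk hγ.le c (S.x_mem_U hs d)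
  have h2 := S.comm_level f hk hγ.le c hz
  have h3 : S.cd δ (S.x γ c * S.x s d * (S.x γ c)⁻¹ * (S.x s d)⁻¹) =
      if C.rc δ = C.rc s + C.rc γ then C.N γ s * c * d else 0 := by
    have e : S.x γ c * S.x s d * (S.x γ c)⁻¹ * (S.x s d)⁻¹ =
        (S.x γ (-c))⁻¹ * (S.x s (-d))⁻¹ * S.x γ (-c) * S.x s (-d) := by simp [x_neg]
    have hst : ∀ {T : Set (Rt D)}, (∀ r ∈ T, k + f (C.rc γ) ≤ f (C.rc r)) →
        (∀ r, k + f (C.rc γ) < f (C.rc r) → r ∈ T) → C.Stab {s, γ} T := fun h h' a ha r hr u e2 => h' u (by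
      have := h a ha
      rcases hr with rfl | rfl <;> rw [e2, map_add] <;> omega)
    rw [e]
    split_ifs with h4
    · obtain ⟨y, hy, e'⟩ := S.comm_first h4 (T := {r | k + f (C.rc γ) + 1 ≤ f (C.rc r)}) (fun u hu => by
        show _ ≤ f _
        rcases hu with hu | hu <;> rw [hu, map_add] <;> omega) (hst (fun r hr => by
          have : _ ≤ f _ := hr
          omega) fun r hr => hr) (-d) (-c)
      rw [e', S.cd_mul (f := f) (k := k + f (C.rc γ)) (T := {r | k + f (C.rc γ) ≤ f (C.rc r)}) (by omega)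
        (fun r hr => hr) (by omega) (S.x_mem_U hδ.ge _) (S.U_mono (fun r hr => by
          have : _ ≤ f _ := hr
          show _ ≤ f _
          omega) hy), cd_x_self, S.cd_eq_zero (by omega) (fun r hr => hr) (by omega) hy, C.N_anti s γ]
      push_cast; ring
    · refine S.cd_eq_zero_of_notMem (f := f) (k := k + f (C.rc γ)) (T := {r | k + f (C.rc γ) ≤ f (C.rc r) ∧ r ≠ δ})
        (by omega) (fun r hr => hr.1) (by omega) (fun h => h.2 rfl) (S.comm_mem ?_ (fun u e => And.intro ?_ ?_)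
          (hst (fun r hr => by exact hr.1) fun r hr => And.intro hr.le (by rintro rfl; omega)) _ _)
      · rintro rfl
        rw [C.rc_neg, map_neg] at hγ; omega
      · rw [e, map_add]; omega
      · rintro rfl; exact h4 e
  rw [show S.x γ c * (S.x s d * z) * (S.x γ c)⁻¹ * (S.x s d * z)⁻¹ = S.x γ c * S.x s d * (S.x γ c)⁻¹ * (S.x s d)⁻¹ *
    (S.x s d * (S.x γ c * z * (S.x γ c)⁻¹ * z⁻¹) * (S.x s d)⁻¹) by group,
    S.cd_mul (f := f) (k := k + f (C.rc γ)) (by omega) (fun r hr => hr) (by omega) h1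
      (S.conj_ge f (by omega) (Subgroup.mem_sup_left (S.x_mem_U (show 0 ≤ f _ by omega) d)) h2),
    S.cd_conj_ge f hk.le (by omega) (S.x_mem_U hs d) h2 (by omega) (by omega), h3, ih]
  have h4 : ∀ β, (if C.rc δ = C.rc β + C.rc γ then (C.N γ β : F) * c * S.cd β (S.x s d * z) else 0) =
      (if s = β then if C.rc δ = C.rc β + C.rc γ then C.N γ β * c * d else 0 else 0) +
      if C.rc δ = C.rc β + C.rc γ then C.N γ β * c * S.cd β z else 0 := fun β => by
    by_cases h : C.rc δ = C.rc β + C.rc γ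
    · rw [h, map_add] at hδ
      rw [S.cd_mul hk.le (fun r hr => hr) (by omega) (S.x_mem_U hs d) hz, cd_x]
      simp only [if_pos h]
      split_ifs <;> ring
    · simp [h]
  simp only [h4, Finset.sum_add_distrib, Finset.sum_ite_eq, Finset.mem_univ, if_true]

theorem cd_comm_of_add (f : (Nd D → ℤ) →ₗ[ℤ] ℤ) {k : ℤ} (hk : 0 < k) {β γ δ : Rt D} (hγ : 0 < f (C.rc γ))
    (hβ : f (C.rc β) = k) (e : C.rc δ = C.rc β + C.rc γ) (c : F) {z : G} (hz : z ∈ S.U {r | k ≤ f (C.rc r)}) :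
    S.cd δ (S.x γ c * z * (S.x γ c)⁻¹ * z⁻¹) = C.N γ β * c * S.cd β z := by
  rw [S.cd_comm_x f hk hγ (by rw [e, map_add, hβ]) c hz, Finset.sum_eq_single β (fun s _ hs => if_neg fun h =>
    hs (C.rc_inj (add_right_cancel (h.symm.trans e)))) (by simp), if_pos e]

theorem cd_comm_of_not_add (f : (Nd D → ℤ) →ₗ[ℤ] ℤ) {k : ℤ} (hk : 0 < k) {γ δ : Rt D} (hγ : 0 < f (C.rc γ))
    (hδ : f (C.rc δ) = k + f (C.rc γ)) (e : ∀ β, C.rc δ ≠ C.rc β + C.rc γ) (c : F) {z : G}
    (hz : z ∈ S.U {r | k ≤ f (C.rc r)}) : S.cd δ (S.x γ c * z * (S.x γ c)⁻¹ * z⁻¹) = 0 := by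
  rw [S.cd_comm_x f hk hγ hδ c hz]
  exact Finset.sum_eq_zero fun β _ => if_neg (e β)

theorem cd_conj_acts {m : G} {w : Perm (Rt D)} (hm : S.Acts m w) (hw : w ∈ C.Aut) {f : (Nd D → ℤ) →ₗ[ℤ] ℤ} {k : ℤ}
    (hk : 0 ≤ k) {T : Set (Rt D)} (hT : ∀ r ∈ T, k ≤ f (C.rc r)) {r : Rt D} (hr : f (C.rc r) < 2 * k) {c : F}
    (hc : ∀ t, m * S.x r t * m⁻¹ = S.x (w r) (c * t)) {u : G} (hu : u ∈ S.U T) :
    S.cd (w r) (m * u * m⁻¹) = c * S.cd r u := by
  have h1 : ∀ s, (f ∘ₗ C.lin w⁻¹) (C.rc (w s)) = f (C.rc s) := fun s => by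
    rw [LinearMap.comp_apply, ← Cert.Aut.rc_map (inv_mem hw)]; simp
  have h2 : ∀ v ∈ S.U T, m * v * m⁻¹ ∈ S.U (w '' T) := fun v hv =>
    hm.conj_mem (T := T) (T' := w '' T) (fun s hs => ⟨s, hs, rfl⟩) hv
  refine S.U_induction (P := fun u => S.cd (w r) (m * u * m⁻¹) = c * S.cd r u) (by simp [S.cd_one])
    (fun s hs t g hg ih => ?_) hu
  rw [show m * (S.x s t * g) * m⁻¹ = m * S.x s t * m⁻¹ * (m * g * m⁻¹) by group,
    S.cd_mul (f := f ∘ₗ C.lin w⁻¹) (T := w '' T) hk (by rintro _ ⟨s, hs, rfl⟩; rw [h1]; exact hT s hs) (by rwa [h1])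
      (h2 _ (S.x_mem_U hs t)) (h2 g hg), S.cd_mul hk hT hr (S.x_mem_U hs _) hg, ih, mul_add]
  congr 1
  by_cases e : s = r
  · rw [e, hc, cd_x_self, cd_x_self]
  · obtain ⟨c', hc'⟩ := hm s
    rw [hc', S.cd_x_ne (w.injective.ne e), S.cd_x_ne e, mul_zero]

/-- parameters of the root elements in `M` -/
def AM (M : Subgroup G) (r : Rt D) : AddSubgroup F where
  carrier := {t | S.x r t ∈ M}
  add_mem' := fun {a b} ha hb => by rw [Set.mem_ofPred_eq, S.x_add]; exact mul_mem ha hb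
  zero_mem' := by rw [Set.mem_ofPred_eq, x_zero]; exact one_mem _
  neg_mem' := fun {a} ha => by rw [Set.mem_ofPred_eq, x_neg]; exact inv_mem ha

/-- leading coefficients of the unipotent elements in `M` -/
def TM (M : Subgroup G) (i : Nd D) : AddSubgroup F where
  carrier := {t | ∃ y ∈ M, y ∈ S.Up ∧ S.cd (C.sp i) y = t}
  add_mem' := by
    rintro _ _ ⟨a, ha, ha', rfl⟩ ⟨b, hb, hb', rfl⟩
    exact ⟨a * b, mul_mem ha hb, mul_mem ha' hb', S.cd_sp_mul i ha' hb'⟩
  zero_mem' := ⟨1, one_mem _, one_mem _, S.cd_one _⟩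
  neg_mem' := by
    rintro _ ⟨a, ha, ha', rfl⟩
    exact ⟨a⁻¹, inv_mem ha, inv_mem ha', S.cd_inv (f := Cert.lev ∅) zero_le_one (fun r hr => ht_pos hr)
      (by rw [ht_sp]; norm_num) ha'⟩

variable {S} {M : Subgroup G}

theorem mem_AM {r : Rt D} {t : F} : t ∈ S.AM M r ↔ S.x r t ∈ M := Iff.rfl

instance instFiniteTM [Finite M] (i : Nd D) : Finite (S.TM M i) :=
  Set.Finite.subset (Set.finite_range fun y : M => S.cd (C.sp i) y) fun _ ⟨y, hy, _, e⟩ => ⟨⟨y, hy⟩, e⟩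

instance instFiniteAM [Finite M] (r : Rt D) : Finite (S.AM M r) :=
  Set.Finite.subset (Set.finite_range fun y : M => S.cd r y) fun t ht => ⟨⟨_, ht⟩, S.cd_x_self r t⟩

theorem AM_le_TM (i : Nd D) : S.AM M (C.sp i) ≤ S.TM M i := fun t ht =>
  ⟨_, ht, S.x_mem_Up (C.pos_sp i) t, S.cd_x_self _ t⟩

theorem eta_mul_mem {A : AddSubgroup F} (r s : Rt D) {t : F} : C.eta r s * t ∈ A ↔ t ∈ A := by
  rcases C.eta_unit r s with h | h <;> simp [h]

theorem n_one_conj (r s : Rt D) (t : F) : S.n r 1 * S.x s t * (S.n r 1)⁻¹ = S.x (C.refl r s) (C.eta r s * t) := by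
  rw [S.n_conj]; simp [C.etaU_val]

theorem seed {j : Nd D} {γ : Rt D} (e : C.rc C.top = C.rc (C.sp j) + C.rc γ) {t c : F} (ht : t ∈ S.TM M j)
    (hc : c ∈ S.AM M γ) : C.N γ (C.sp j) * (c * t) ∈ S.AM M C.top := by
  obtain ⟨y, hy, hy', rfl⟩ := ht
  have h1 := ht_pos (C.pos_of_top e)
  have h2 := S.comm_level (Cert.lev ∅) one_pos (by omega) c (S.Up_le_ht hy') (a := γ)
  have h3 := S.cd_comm_of_add (Cert.lev ∅) one_pos (by omega) (ht_sp j) e c (S.Up_le_ht hy')
  obtain ⟨d, hd⟩ := S.mem_U_singleton.1 (S.U_mono (T' := {C.top}) (fun r hr => C.eq_top_of_ht (by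
    rw [Set.mem_ofPred_eq, C.lev_empty, C.lev_empty] at hr
    rwa [C.ht_add e, C.ht_sp])) h2)
  rw [hd, cd_x_self] at h3
  rw [← mul_assoc, ← h3, mem_AM, ← hd]
  exact mul_mem (mul_mem (mul_mem hc hy) (inv_mem hc)) (inv_mem hy)

section

variable (h1 : ∀ r, S.x r 1 ∈ M)
include h1

theorem n_one_mem (r : Rt D) : S.n r 1 ∈ M :=
  mul_mem (mul_mem (h1 r) (by simpa [x_neg] using h1 r.rev)) (h1 r)

theorem AM_refl (r : Rt D) {s : Rt D} {t : F} (h : t ∈ S.AM M s) : t ∈ S.AM M (C.refl r s) := by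
  rw [← eta_mul_mem (C := C) r s, mem_AM, ← n_one_conj]
  exact mul_mem (mul_mem (n_one_mem h1 r) h) (inv_mem (n_one_mem h1 r))

theorem AM_len {r s : Rt D} (e : C.len r = C.len s) : S.AM M r ≤ S.AM M s := by
  obtain ⟨w, hw, rfl⟩ := Cert.exists_conj_of_len e
  intro t ht
  exact C.WJ_induction_left (P := fun w => t ∈ S.AM M (w r)) ht (fun w _ j _ ih => AM_refl h1 _ ih) hw

theorem TM_adj {i j : Nd D} (hij : i ≠ j) {m : ℕ} (hm : C.A (C.sp i) (C.sp j) = -m) {t c : F} (ht : t ∈ S.TM M i)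
    (hc : c ∈ S.AM M (C.sp j)) : c * t ^ m ∈ S.TM M j := by
  by_cases h0 : t = 0
  · rcases m with _ | m
    · simpa using AM_le_TM j hc
    · simp [h0]
  obtain ⟨y, hy, hy', e⟩ := ht
  obtain ⟨v, hv, e'⟩ := S.split_sp' i hy'
  rw [e] at e'
  have hn := n_one_mem h1 (C.sp i)
  have h2 := S.UJ_le_Up _ (S.P_conj_UJ ((S.over_ns i 1).mem_P (C.ss_mem_WJ (Set.mem_singleton i))) hv)
  have h3 : S.n (C.sp i) 1 * y * (S.n (C.sp i) 1)⁻¹ = S.n (C.sp i) 1 * v * (S.n (C.sp i) 1)⁻¹ *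
      (S.x (C.sp i) (-t⁻¹) * S.n (C.sp i) (Units.mk0 t h0)⁻¹ * S.x (C.sp i) (-t⁻¹)) := by
    have h4 := S.x_rev_eq (C.sp i) (-Units.mk0 t h0)
    have h5 := n_one_conj (S := S) (C.sp i) (C.sp i) t
    rw [C.refl_self, C.eta_self] at h5
    simp only [inv_neg, neg_neg, Units.val_neg, Units.val_mk0, Units.val_inv_eq_inv_val] at h4
    rw [← h4, e', show -t = ((-1 : ℤ) : F) * t by simp, ← h5]; group
  have h4 := S.commute_of_not_add (r := C.sp i) (s := C.refl (C.sp i) (C.sp j)) (fun e => hij (C.sp_inj (by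
    rw [← C.refl_refl (C.sp i) (C.sp j), e, C.refl_self_rev]))) (fun u e => by
      have h5 := C.rc_refl (C.sp i) u
      have h6 : C.A (C.sp i) u = 2 + m := by
        rw [← C.pr_rc, e, C.pr_add, C.pr_rc, C.pr_rc, C.A_self, C.A_refl_self, hm, neg_neg]
      rw [h6, e, C.rc_refl _ (C.sp j), hm] at h5
      have h7 := Cert.pos_of_coord_pos (C := C) (r := C.refl (C.sp i) u) (i := j) (by
        simp [h5, C.rc_sp_apply, hij.symm]) i
      simp [h5, C.rc_sp_apply, hij] at h7) (-t⁻¹) c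
  have h5 := AM_refl h1 (C.sp i) hc
  have h6 := S.n_conj (C.sp i) (Units.mk0 t h0)⁻¹ (C.refl (C.sp i) (C.sp j)) c
  rw [C.refl_refl, C.A_refl_self, hm, neg_neg, inv_zpow', neg_neg, zpow_natCast, Units.val_mul, C.etaU_val,
    Units.val_pow_eq_pow_val, Units.val_mk0, mul_assoc _ (t ^ m), mul_comm (t ^ m)] at h6
  rw [← eta_mul_mem (C := C) (C.sp i) (C.refl (C.sp i) (C.sp j))]
  have h7 := mul_mem h2 (S.x_mem_Up (C.pos_sp i) (-t⁻¹))
  have h8 := S.x_mem_Up (C.pos_sp j) (C.eta (C.sp i) (C.refl (C.sp i) (C.sp j)) * (c * t ^ m))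
  refine ⟨_, ?_, mul_mem (mul_mem h7 h8) (inv_mem h7), by rw [S.cd_sp_conj j h7 h8, cd_x_self]⟩
  have h9 := mul_mem (mul_mem hn hy) (inv_mem hn)
  have h10 := mul_mem (mul_mem h9 h5) (inv_mem h9)
  rw [h3] at h10
  rw [← h6]
  convert h10 using 1
  generalize S.n (C.sp i) 1 * v * (S.n (C.sp i) 1)⁻¹ = a
  generalize S.x (C.sp i) (-t⁻¹) = b at h4
  generalize S.x (C.refl (C.sp i) (C.sp j)) c = d at h4
  generalize S.n (C.sp i) (Units.mk0 t h0)⁻¹ = n
  calc _ = a * b * n * (d * b) * b⁻¹ * (a * b * n)⁻¹ := by group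
    _ = _ := by rw [← h4]; group

/-- data for the triple bond -/
def _root_.Cfsg.Agent.Chev.Cert.Tri3 (C : Cert D) : Prop := ∀ i j, C.A (C.sp i) (C.sp j) = -3 → ∃ γ δ ε, 0 < C.ht γ ∧
  (∀ l, C.rc δ l = C.rc (C.sp i) l + C.rc γ l) ∧ (∀ l, C.rc C.top l = C.rc δ l + C.rc ε l) ∧
  ¬ 2 ∣ (C.N ε δ * C.N γ (C.sp i)).natAbs

theorem spread (p : ℕ) [Fact p.Prime] [CharP F p] (h3 : C.Tri3) (E : Subfield F) [Finite E]
    (hE : ∀ t, t ∈ S.AM M C.top ↔ t ∈ E) {j₀ : Nd D} (h0 : ∀ t ∈ S.TM M j₀, t ∈ E) :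
    (∀ i, ∀ t ∈ S.TM M i, t ∈ E) ∧ ∀ r t, S.x r t ∈ M ↔ t ∈ E := by
  have key : ∀ i, ∀ t ∈ S.TM M i, t ∈ E := by
    have := C.connected (K := {i | ∀ t ∈ S.TM M i, t ∈ E}) fun i hi j hj => by
      by_contra hA
      have hij : j ≠ i := fun e => hj (e ▸ hi)
      have h4 := C.A_sp_sp_nonpos hij
      have h5 := (C.A_bound (r := C.sp j) (s := C.sp i)).1
      have h6 : ∀ m : ℕ, C.A (C.sp j) (C.sp i) = -m → ∀ t ∈ S.TM M j, t ^ m ∈ E := fun m hm t ht => by
        simpa using hi _ (TM_adj h1 hij hm ht (h1 _))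
      have h7 : (1 : F) ∈ S.TM M j := AM_le_TM j (h1 _)
      have hp : p.Prime := Fact.out
      refine hj fun t ht => ?_
      obtain h | h | h : C.A (C.sp j) (C.sp i) = -(1 : ℕ) ∨ C.A (C.sp j) (C.sp i) = -(2 : ℕ) ∨
        C.A (C.sp j) (C.sp i) = -(3 : ℕ) := by omega
      · simpa using h6 1 h t ht
      · by_cases e : p = 2
        · subst e; exact mem_of_pow_char 2 E (h6 2 h t ht)
        · refine mem_of_natCast_mul p E.toAddSubgroup (n := 2) (fun h => e ((Nat.prime_dvd_prime_iff_eq hp Nat.prime_two).1 h)) ?_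
          rw [Subfield.mem_toAddSubgroup]
          convert sub_mem (sub_mem (h6 2 h _ (add_mem ht h7)) (h6 2 h t ht)) E.one_mem using 1
          push_cast; ring
      · by_cases e : p = 3
        · subst e; exact mem_of_pow_char 3 E (h6 3 h t ht)
        by_cases e' : p = 2
        · subst e'
          obtain ⟨γ, δ, ε, a1, a2, a3, a4⟩ := h3 j i h
          obtain ⟨y, hy, hy', rfl⟩ := ht
          have a2 : C.rc δ = C.rc (C.sp j) + C.rc γ := funext a2
          have a3 : C.rc C.top = C.rc δ + C.rc ε := funext a3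
          rw [← C.lev_empty] at a1
          have a5 := ht_pos (C.pos_of_top a3)
          have b1 := S.comm_level (Cert.lev ∅) one_pos a1.le 1 (S.Up_le_ht hy')
          have b2 := S.cd_comm_of_add (Cert.lev ∅) one_pos a1 (ht_sp j) a2 1 (S.Up_le_ht hy')
          have b3 := S.comm_level (Cert.lev ∅) (by omega) (by omega) 1 b1 (a := ε)
          have b4 := S.cd_comm_of_add (Cert.lev ∅) (by omega) (by omega) (by rw [a2, map_add, ht_sp]) a3 1 b1
          have b5 := mul_mem (mul_mem (mul_mem (h1 γ) hy) (inv_mem (h1 γ))) (inv_mem hy)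
          have b6 := mul_mem (mul_mem (mul_mem (h1 ε) b5) (inv_mem (h1 ε))) (inv_mem b5)
          obtain ⟨d, hd⟩ := S.mem_U_singleton.1 (S.U_mono (T' := {C.top}) (fun r hr => C.eq_top_of_ht (by
            rw [Set.mem_ofPred_eq, C.lev_empty, C.lev_empty, C.lev_empty] at hr
            rwa [C.ht_add a3, C.ht_add a2, C.ht_sp])) b3)
          rw [hd, cd_x_self, b2] at b4
          rw [hd, b4] at b6
          refine mem_of_intCast_mul 2 E.toAddSubgroup a4 ?_
          rw [Subfield.mem_toAddSubgroup]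
          convert (hE _).1 b6 using 1
          push_cast; ring
        · refine mem_of_natCast_mul p E.toAddSubgroup (n := 2 * 3) (fun h => ?_) ?_
          · rcases (Nat.Prime.dvd_mul hp).1 h with h | h
            · exact e' ((Nat.prime_dvd_prime_iff_eq hp Nat.prime_two).1 h)
            · exact e ((Nat.prime_dvd_prime_iff_eq hp Nat.prime_three).1 h)
          · rw [Subfield.mem_toAddSubgroup]
            convert sub_mem (add_mem (h6 3 h _ (add_mem ht h7)) (h6 3 h _ (sub_mem ht h7)))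
              (add_mem (h6 3 h t ht) (h6 3 h t ht)) using 1
            push_cast; ring
    exact fun i => (Set.eq_univ_iff_forall.1 (this.resolve_left (Set.Nonempty.ne_empty ⟨j₀, h0⟩))) i
  refine ⟨key, fun r t => ⟨fun h => ?_, fun h => ?_⟩⟩
  · obtain ⟨w, hw, i, e⟩ := C.exists_sp_conj r
    exact key i t (AM_le_TM i (AM_len h1 (by rw [← e, Cert.Aut.len_map (C.W_le_Aut hw)]) h))
  · by_cases e : C.len r = C.len C.top
    · exact AM_len h1 e.symm ((hE t).2 h)
    by_cases h0 : t = 0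
    · rw [h0, x_zero]; exact one_mem _
    obtain ⟨w, hw, h4⟩ := Cert.exists_conj_A_pos (C := C) C.top r
    have h5 := Cert.Aut.len_map (C.W_le_Aut hw) C.top
    generalize w C.top = s at h4 h5
    have h6 := (C.A_abs_le_one (r := s) (s := r) (fun e' => e (e' ▸ h5)) (fun e' => e (by rw [e', C.len_rev, h5]))
      (h5 ▸ C.len_le_top r)).2
    have h7 : ∀ u : Fˣ, (u : F) ∈ E → S.n s u ∈ M := fun u hu =>
      mul_mem (mul_mem (AM_len h1 h5.symm ((hE _).2 hu)) (AM_len h1 (by rw [C.len_rev, h5]) ((hE _).2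
        (neg_mem (by simpa using inv_mem hu))))) (AM_len h1 h5.symm ((hE _).2 hu))
    have h8 : S.h s (Units.mk0 t h0) ∈ M := mul_mem (h7 _ h) (h7 _ (by simp))
    have h9 := mul_mem (mul_mem h8 (h1 r)) (inv_mem h8)
    rwa [h_conj_x, show C.A s r = 1 by omega, zpow_one, Units.val_mk0, mul_one] at h9

theorem field_long [Finite M] (p : ℕ) [Fact p.Prime] [CharP F p] (h3 : C.Tri3) {j : Nd D} {γ : Rt D} (e : C.rc C.top = C.rc (C.sp j) + C.rc γ)
    (hl : C.len (C.sp j) = C.len C.top) : ∃ E : Subfield F, Finite E ∧ (∀ i, ∀ t ∈ S.TM M i, t ∈ E) ∧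
      ∀ r t, S.x r t ∈ M ↔ t ∈ E := by
  obtain ⟨h4, -, h5⟩ := C.long_add e hl rfl
  have h6 : ∀ t ∈ S.TM M j, ∀ c ∈ S.AM M C.top, c * t ∈ S.AM M C.top := fun t ht c hc =>
    mem_of_intCast_mul p _ (by rw [h5, Nat.dvd_one]; exact (Fact.out : p.Prime).ne_one)
      (seed e ht (AM_len h1 h4.symm hc))
  let E := fieldOf (S.AM M C.top) (h1 _) fun a ha b hb => h6 b (AM_le_TM j (AM_len h1 hl.symm hb)) a ha
  have : Finite E := instFiniteAM (S := S) (M := M) C.top
  exact ⟨E, this, spread h1 p h3 E (fun _ => Iff.rfl) (j₀ := j) fun t ht => by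
    have := h6 t ht 1 (h1 _)
    rwa [one_mul] at this⟩

end

end Sys

/-- roots of B2 by index -/
def rB (k : ℕ) (h : k < 8 := by decide) : Rt chevB2 := ⟨k, h⟩
/-- nodes of B2 by index -/
def nB (k : ℕ) (h : k < 2 := by decide) : Nd chevB2 := ⟨k, h⟩

theorem tri3_of {D : ChevalleyDatum} (C : Cert D) (h : ∀ i j : Nd D, D.cartan i (D.simple j) ≠ -3) : C.Tri3 :=
  fun i j e => absurd ((C.A_sp _ _).symm.trans e) (h i j)

theorem reflB2_eq {r s u : Rt chevB2} (h : ∀ i : Nd chevB2, rcB2 u i = rcB2 s i - chevB2.pairing r s * rcB2 r i) :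
    certB2.refl r s = u :=
  certB2.rc_inj (by rw [certB2.rc_refl]; exact funext fun i => (h i).symm)

section B2

open Sys

variable {F : Type*} [Field F] {G : Type*} [Group G] {S : Sys certB2 F G} {M : Subgroup G} [Finite M]
  (h1 : ∀ r, S.x r 1 ∈ M)
include h1

theorem field_B2_odd (p : ℕ) [Fact p.Prime] [CharP F p] (hp : p ≠ 2) : ∃ E : Subfield F, Finite E ∧
    (∀ i, ∀ t ∈ S.TM M i, t ∈ E) ∧ ∀ r t, S.x r t ∈ M ↔ t ∈ E := by
  have h2 : ¬ p ∣ 2 := fun h => hp ((Nat.prime_dvd_prime_iff_eq Fact.out Nat.prime_two).1 h)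
  have a1 : S.TM M (nB 0) ≤ S.AM M certB2.top := fun t ht => by
    have := seed (γ := rB 6) (funext (by simp only [Pi.add_apply, certB2_rc]; decide +kernel)) ht (h1 _)
    rw [one_mul] at this
    exact mem_of_intCast_mul p _ (by rwa [show (certB2.N (rB 6) (certB2.sp (nB 0))).natAbs = 2 by
      rw [Cert.N_def]; decide +kernel]) this
  have a2 : S.AM M certB2.top ≤ S.AM M (certB2.sp (nB 1)) :=
    AM_len h1 (by rw [certB2_len, certB2_len]; decide +kernel)
  have a3 : S.TM M (nB 1) ≤ S.TM M (nB 0) := fun t ht => by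
    simpa using TM_adj h1 (i := nB 1) (j := nB 0) (by decide) (m := 1) (by rw [Cert.A_sp]; decide +kernel) ht (h1 _)
  have a4 : ∀ t ∈ S.AM M certB2.top, t ^ 2 ∈ S.AM M certB2.top := fun t ht => by
    simpa using a1 (a3 (TM_adj h1 (i := nB 0) (j := nB 1) (by decide) (m := 2) (by rw [Cert.A_sp]; decide +kernel)
      (a3 (AM_le_TM _ (a2 ht))) (h1 _)))
  let E := fieldOf (S.AM M certB2.top) (h1 _) fun a ha b hb => mem_of_natCast_mul p _ h2 (by
    convert sub_mem (sub_mem (a4 _ (add_mem ha hb)) (a4 a ha)) (a4 b hb) using 1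
    push_cast; ring)
  have : Finite E := instFiniteAM (S := S) (M := M) certB2.top
  exact ⟨E, this, spread h1 p (tri3_of _ (by decide +kernel)) E (fun _ => Iff.rfl) (j₀ := nB 0) a1⟩

theorem field_B2_two [CharP F 2] : ∃ E : Subfield F, Finite E ∧
    (∀ i, ∀ t ∈ S.TM M i, t ∈ E) ∧ ∀ r t, S.x r t ∈ M ↔ t ∈ E := by
  have c : ∀ r s : Rt chevB2, (r : ℕ) ∈ [4, 5, 6, 7] → (s : ℕ) ∈ [6, 7] → ∀ t u,
      S.x r t * S.x s u = S.x s u * S.x r t := fun r s hr hs =>
    S.commute_of_dvd 2 (by revert r s; decide +kernel)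
  have up : ∀ r : Rt chevB2, (r : ℕ) ∈ [4, 5, 6, 7] → ∀ t, S.x r t ∈ S.Up := fun r hr =>
    S.x_mem_Up ((certB2.pos_iff_val r).2 (by revert r; decide +kernel))
  have cU : ∀ s : Rt chevB2, (s : ℕ) ∈ [6, 7] → ∀ u, ∀ z ∈ S.Up, z * S.x s u = S.x s u * z := fun s hs u z hz =>
    S.commute_of_mem_U (fun r hr t => c r s (by
      rw [Set.mem_ofPred_eq, certB2.pos_iff_val] at hr
      revert r; decide +kernel) hs t u) hz
  have key : ∀ t s z z', z ∈ S.Up → z * (z' * S.x (rB 5) s) = z' * S.x (rB 5) s * z →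
      z' * S.x (rB 4) t = S.x (rB 4) t * z' → S.x (rB 4) t * z ∈ M → z' * S.x (rB 5) s ∈ M →
      S.x (rB 6) (t * s) * S.x (rB 7) (t * s ^ 2) ∈ M := fun t s z z' hz e1 e2 m1 m2 => by
    have h2 := xi_swap S (r := 4) (s := 5) (L := [(6, 1, 1, 1), (7, -1, 1, 2)]) (by decide +kernel) t s
    simp only [List.map_cons, List.map_nil, wd_cons, wd_nil, pow_one, Int.cast_one, Int.cast_neg, CharTwo.neg_eq,
      one_mul, mul_one] at h2
    change S.x (rB 5) s * S.x (rB 4) t = S.x (rB 4) t * (S.x (rB 5) s * (S.x (rB 6) _ * S.x (rB 7) _)) at h2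
    have h3 : z * (S.x (rB 6) (t * s) * S.x (rB 7) (t * s ^ 2)) = S.x (rB 6) (t * s) * S.x (rB 7) (t * s ^ 2) * z := by
      rw [← mul_assoc, cU _ (by decide) _ z hz, mul_assoc, cU _ (by decide) _ z hz, mul_assoc]
    have h4 := mul_mem (mul_mem (mul_mem (inv_mem m2) (inv_mem m1)) m2) m1
    generalize S.x (rB 6) (t * s) * S.x (rB 7) (t * s ^ 2) = κ at *
    generalize S.x (rB 4) t = a at *
    generalize S.x (rB 5) s = b at *
    convert h4 using 1
    calc κ = (z' * b * z)⁻¹ * a⁻¹ * (a * z') * b * (z * κ) := by group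
      _ = (z * (z' * b))⁻¹ * a⁻¹ * (z' * (a * (b * κ))) * z := by rw [e1, ← e2, h3]; group
      _ = _ := by rw [← h2]; group
  have nf : ∀ y ∈ S.Up, ∃ a b, y = S.x (rB 4) (S.cd (certB2.sp (nB 1)) y) * (S.x (rB 5) (S.cd (certB2.sp (nB 0)) y) *
      (S.x (rB 6) a * S.x (rB 7) b)) := fun y hy => by
    obtain ⟨t, -, rfl⟩ := S.exists_nf_pos (l := [rB 4, rB 5, rB 6, rB 7]) Cert.closed_pos (fun r hr => hr) (by decide)
      (fun r hr => by
        rw [Set.mem_ofPred_eq, certB2.pos_iff_val] at hr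
        revert r; decide +kernel) hy
    have e := fun i => S.cd_nf (f := Cert.lev ∅) (T := {r | certB2.Pos r}) (l := [rB 4, rB 5, rB 6, rB 7]) (t := t)
      (r := certB2.sp i) zero_le_one (fun r hr => ht_pos hr) (by rw [ht_sp]; norm_num) (by decide)
      (fun s hs h => absurd ((certB2.pos_iff_val s).2 (by clear h; revert s; decide +kernel)) h)
    refine ⟨t (rB 6), t (rB 7), ?_⟩
    rw [e, e, if_pos (by decide), if_pos (by decide)]
    simp only [nf_cons, nf_nil, mul_one]; rfl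
  have a1 : ∀ t ∈ S.TM M (nB 1), S.x (rB 6) t * S.x (rB 7) t ∈ M := by
    rintro _ ⟨y, hy, hy', rfl⟩
    obtain ⟨a, b, e⟩ := nf y hy'
    simpa using key _ 1 _ 1 (mul_mem (up _ (by decide) _) (mul_mem (up _ (by decide) _) (up _ (by decide) _)))
      (by rw [one_mul, mul_assoc, mul_assoc, ← c (rB 5) (rB 7) (by decide) (by decide), ← mul_assoc (S.x (rB 6) _),
        ← c (rB 5) (rB 6) (by decide) (by decide), mul_assoc, ← mul_assoc, S.x_comm_self, mul_assoc]) (by simp)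
      (e ▸ hy) (by simpa using h1 _)
  have a2 : ∀ s ∈ S.TM M (nB 0), S.x (rB 6) s * S.x (rB 7) (s ^ 2) ∈ M := by
    rintro _ ⟨y, hy, hy', rfl⟩
    obtain ⟨a, b, e⟩ := nf y hy'
    rw [← mul_assoc (S.x (rB 5) _), c (rB 5) (rB 6) (by decide) (by decide), mul_assoc,
      c (rB 5) (rB 7) (by decide) (by decide), ← mul_assoc, ← mul_assoc] at e
    simpa using key 1 _ 1 _ (one_mem _) (by simp)
      (by rw [mul_assoc, ← c (rB 4) (rB 7) (by decide) (by decide), ← mul_assoc, mul_assoc (S.x (rB 4) _),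
        ← c (rB 4) (rB 6) (by decide) (by decide), ← mul_assoc, S.x_comm_self]; simp only [mul_assoc])
      (by simpa using h1 _) (e ▸ hy)
  have eta : ∀ r s, (certB2.eta r s : F) = 1 := fun r s => by
    rcases certB2.eta_unit r s with h | h <;> simp [h, CharTwo.neg_eq]
  have b1 : ∀ a b, S.x (rB 6) a * S.x (rB 7) b ∈ M → S.x (rB 4) b * S.x (rB 6) a ∈ M := fun a b h => by
    have h2 := mul_mem (mul_mem (n_one_mem h1 (rB 5)) h) (inv_mem (n_one_mem h1 (rB 5)))
    rwa [← conj_mul, n_one_conj, n_one_conj, eta, eta, one_mul, one_mul, reflB2_eq (u := rB 6) (by decide +kernel),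
      reflB2_eq (u := rB 4) (by decide +kernel), ← c _ _ (by decide) (by decide)] at h2
  have b2 : ∀ a b, S.x (rB 6) a * S.x (rB 7) b ∈ M → S.x (rB 7) b * S.x (rB 5) a ∈ M := fun a b h => by
    have h2 := mul_mem (mul_mem (n_one_mem h1 (rB 4)) h) (inv_mem (n_one_mem h1 (rB 4)))
    rwa [← conj_mul, n_one_conj, n_one_conj, eta, eta, one_mul, one_mul, reflB2_eq (u := rB 5) (by decide +kernel),
      reflB2_eq (u := rB 7) (by decide +kernel), c _ _ (by decide) (by decide)] at h2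
  have b3 : ∀ a b, S.x (rB 6) a * S.x (rB 7) b ∈ M → a ∈ S.TM M (nB 0) ∧ b ∈ S.TM M (nB 1) := fun a b h =>
    ⟨⟨_, b2 a b h, mul_mem (up _ (by decide) _) (up _ (by decide) _), by
      rw [S.cd_sp_mul _ (up _ (by decide) _) (up _ (by decide) _), S.cd_x_ne (by decide), zero_add]
      exact S.cd_x_self _ _⟩, ⟨_, b1 a b h, mul_mem (up _ (by decide) _) (up _ (by decide) _), by
      rw [S.cd_sp_mul _ (up _ (by decide) _) (up _ (by decide) _), S.cd_x_ne (s := rB 6) (by decide), add_zero]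
      exact S.cd_x_self _ _⟩⟩
  have b4 : S.TM M (nB 1) = S.TM M (nB 0) := AddSubgroup.eq_of_le_of_card_ge (fun t ht => (b3 _ _ (a1 t ht)).1)
    (Nat.card_le_card_of_injective (fun s : S.TM M (nB 0) => (⟨_, (b3 _ _ (a2 s s.2)).2⟩ : S.TM M (nB 1)))
      fun a b e => Subtype.ext (frobenius_inj F 2 (congrArg Subtype.val e)))
  rw [b4] at a1
  have b5 : ∀ t ∈ S.TM M (nB 0), ∀ s ∈ S.TM M (nB 0), S.x (rB 6) (t * s) * S.x (rB 7) (t * s ^ 2) ∈ M :=
    fun t ht s hs => key t s _ _ (up _ (by decide) _) (cU _ (by decide) _ _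
      (mul_mem (up _ (by decide) _) (up _ (by decide) _))).symm (c _ _ (by decide) (by decide) _ _).symm
      (b1 _ _ (a1 t ht)) (b2 _ _ (a1 s hs))
  let E := fieldOf (S.TM M (nB 0)) (AM_le_TM _ (h1 _)) fun a ha b hb => (b3 _ _ (b5 a ha b hb)).1
  have : Finite E := instFiniteTM (S := S) (M := M) (nB 0)
  refine ⟨E, this, spread h1 2 (tri3_of _ (by decide +kernel)) E (fun t => ⟨fun h => ?_, fun h => ?_⟩)
    (j₀ := nB 0) fun t ht => ht⟩
  · exact b4.le (AM_le_TM _ (AM_len h1 (by rw [certB2_len, certB2_len]; decide +kernel) h))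
  · by_cases h2 : t ^ 2 + t = 0
    · rw [show t ^ 2 + t = t * (t - 1) by rw [CharTwo.sub_eq_add]; ring, mul_eq_zero, sub_eq_zero] at h2
      rcases h2 with rfl | rfl
      exacts [zero_mem _, h1 _]
    · have h3 : t / (t ^ 2 + t) ∈ E := div_mem h (add_mem (pow_mem h 2) h)
      have h4 := mul_mem (inv_mem (a1 _ (E.mul_mem h3 h))) (b5 _ h3 t h)
      rw [mul_inv_rev, mul_assoc, inv_mul_cancel_left, ← x_neg, ← S.x_add, CharTwo.neg_eq,
        show t / (t ^ 2 + t) * t + t / (t ^ 2 + t) * t ^ 2 = t by rw [← mul_add, add_comm t, div_mul_cancel₀ _ h2]] at h4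
      exact h4

end B2

end Cfsg.Agent.Chev
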