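import Cfsg.Agent.Chev.Over2
import Cfsg.Agent.Chev.Fix2
import Cfsg.Agent.Tw.Rank

/-!
Finite subgroups containing the root elements `x r 1` lie between the group over a finite field and the fixed points
of the corresponding Frobenius map.
-/

set_option autoImplicit false
set_option linter.unusedSimpArgs false
set_option linter.unusedVariables false

namespace Cfsg.Agent.Chev

open Cfsg.Lie Cfsg.Lie.ChevalleyDatum Equiv Tw

attribute [-simp] zsmul_eq_mul nsmul_eq_mul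

theorem dihedral {G : Type*} [Group G] {a b : G} (ha : a * a = 1) (hb : b * b = 1) (hf : IsOfFinOrder (a * b)) :
    (∃ g, g * a * g⁻¹ = b) ∨ ∃ k : ℕ, (a * b) ^ k ≠ 1 ∧ (a * b) ^ k * (a * b) ^ k = 1 ∧
      (a * b) ^ k * a = a * (a * b) ^ k ∧ b * (a * b) ^ k = (a * b) ^ k * b := by
  have ha' := eq_inv_of_mul_eq_one_left ha
  have hb' := eq_inv_of_mul_eq_one_left hb
  have h1 : ∀ n : ℕ, (a * b) ^ n * a = a * ((a * b) ^ n)⁻¹ := fun n => by
    rw [← inv_pow, mul_inv_rev, ← ha', ← hb']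
    exact (SemiconjBy.pow_right (a := a) (x := b * a) (y := a * b) (mul_assoc _ _ _).symm n).symm
  have h2 : ∀ n : ℕ, b * (a * b) ^ n = ((a * b) ^ n)⁻¹ * b := fun n => by
    rw [← inv_pow, mul_inv_rev, ← ha', ← hb']
    exact SemiconjBy.pow_right (a := b) (y := b * a) (x := a * b) (mul_assoc _ _ _).symm n
  have h3 := pow_orderOf_eq_one (a * b)
  have h4 := hf.orderOf_pos
  rcases Nat.even_or_odd' (orderOf (a * b)) with ⟨k, h | h⟩
  · rw [h, two_mul, pow_add] at h3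
    refine Or.inr ⟨k, pow_ne_one_of_lt_orderOf (by omega) (by omega), h3, ?_, ?_⟩
    · rw [h1, ← eq_inv_of_mul_eq_one_left h3]
    · rw [h2, ← eq_inv_of_mul_eq_one_left h3]
  · refine Or.inl ⟨(a * b) ^ k, ?_⟩
    rw [h, two_mul, pow_succ, pow_add] at h3
    rw [h1, mul_assoc, ← mul_inv_rev, ← eq_inv_of_mul_eq_one_right h3, ← mul_assoc, ha, one_mul]

theorem char_three_four {F : Type*} [Field F] [CharP F 3] {s : F} (h1 : (1 + s) ^ 4 = 1) (h2 : (1 - s) ^ 4 = 1) :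
    s = 0 := by
  have h3 : (3 : F) = 0 := CharP.cast_eq_zero F 3
  exact pow_eq_zero_iff (n := 4) (by norm_num) |>.1 (by
    linear_combination (-1 : F) * h1 - h2 + (s ^ 4 + 4 * s ^ 2) * h3)

theorem char_three_nine {F : Type*} [Field F] [CharP F 3] {s t : F} (h : ∀ x ∈ [s, t, s + t, s - t], x ^ 9 = x ∧ x ^ 3 ≠ x) :
    False := by
  have : Fact (Nat.Prime 3) := ⟨Nat.prime_three⟩
  have key : ∀ x ∈ [s, t], (x ^ 3 - x) ^ 2 = -1 := fun x hx => by
    obtain ⟨h1, h2⟩ := h x (by simp only [List.mem_cons] at hx ⊢; tauto)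
    have h3 := sub_pow_char (p := 3) (x ^ 3) x
    rw [← pow_mul, h1] at h3
    exact mul_left_cancel₀ (sub_ne_zero.2 h2) (by linear_combination h3)
  have h1 := (key s (by simp)).trans (key t (by simp)).symm
  rcases sq_eq_sq_iff_eq_or_eq_neg.1 h1 with e | e
  · exact (h (s - t) (by simp)).2 (by rw [sub_pow_char]; linear_combination e)
  · exact (h (s + t) (by simp)).2 (by rw [add_pow_char]; linear_combination e)

theorem dvd_of_frob (p : ℕ) [Fact p.Prime] (k : Type*) [Field k] [IsAlgClosed k] [CharP k p] {a n : ℕ} (ha : 0 < a)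
    (h : ∀ t : k, t ^ p ^ a = t → t ^ p ^ n = t) : a ∣ n := by
  have hp : p.Prime := Fact.out
  have h1 : ∀ m, p ^ m = p ^ m - 1 + 1 := fun m => (Nat.sub_add_cancel (Nat.one_le_pow _ _ hp.pos)).symm
  have : NeZero ((p ^ a - 1 : ℕ) : k) := ⟨by
    rw [Nat.cast_sub (Nat.one_le_pow _ _ hp.pos), Nat.cast_pow, CharP.cast_eq_zero, zero_pow ha.ne']; simp⟩
  have := NeZero.of_neZero_natCast k (n := p ^ a - 1)
  obtain ⟨ζ, hζ⟩ := HasEnoughRootsOfUnity.exists_primitiveRoot k (p ^ a - 1)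
  have h2 := h ζ (by rw [h1, pow_succ, hζ.pow_eq_one, one_mul])
  rw [h1, pow_succ, mul_eq_right₀ (hζ.ne_zero (NeZero.ne _)), hζ.pow_eq_one_iff_dvd, Nat.dvd_iff_mod_eq_zero,
    Nat.pow_sub_one_mod_pow_sub_one, Nat.sub_eq_zero_iff_le] at h2
  by_contra h3
  exact absurd (Nat.one_lt_pow (fun e => h3 (Nat.dvd_of_mod_eq_zero e)) hp.one_lt) h2.not_gt

theorem mem_range_iff_frob (p : ℕ) [Fact p.Prime] {K k : Type*} [Field K] [Finite K] [Field k] [CharP k p] (ι : K →+* k)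
    {n : ℕ} (h : Nat.card K = p ^ n) (t : k) : (∃ s, ι s = t) ↔ t ^ p ^ n = t := by
  have : Finite ι.fieldRange := Finite.of_surjective _ ι.rangeRestrictField_bijective.2
  obtain ⟨m, -, h1, h2⟩ := exists_frob_eq p ι.fieldRange
  rw [← Nat.card_eq_of_bijective _ ι.rangeRestrictField_bijective, h] at h1
  rw [Nat.pow_right_injective (Fact.out : p.Prime).two_le h1]
  exact h2 t

namespace Sys

variable {D : ChevalleyDatum} {C : Cert D} {F : Type*} [Field F] {G : Type*} [Group G] {S : Sys C F G}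
  {M : Subgroup G}

theorem orb_one (i : Nd D) : (Stb.one S).orb i = {i} := Set.ext fun j => Perm.sameCycle_one.trans eq_comm

theorem w0_single (i : Nd D) : C.w0 {i} = C.ss i :=
  (Cert.eq_w0 (C.ss_mem_WJ (Set.mem_singleton i)) fun j hj => by
    rw [Set.mem_singleton_iff.1 hj, C.ss_sp]; exact C.not_pos_rev (C.pos_sp i)).symm

theorem ov_one (hφ : Function.Injective S.φ) {ψ : G →* G} {φ : F →+* F} (hf : S.IsFld ψ φ)
    (hT : ∀ i, ∀ t ∈ S.TM M i, φ t = t) (hE : ∀ r t, φ t = t → S.x r t ∈ M) : Ov (Stb.one S) ψ φ M where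
  inj := hφ
  fld := hf
  aut := one_mem _
  fix _ _ := rfl
  up u hu _ e := S.sub_le.2 hE (hf.mem_sub_of_Up hu e)
  ovr i := ⟨_, n_one_mem (fun r => hE r 1 (map_one φ)) (C.sp i), by rw [hf.map_n, map_one], by
    rw [orb_one, w0_single]; exact S.over_ns i 1⟩
  simple i r hr h := ⟨i, Cert.eq_sp_of_inJ_singleton hr (orb_one (S := S) i ▸ h)⟩
  proper i := by
    have : Nontrivial (Nd D) := Fin.nontrivial_iff_two_le.2 C.two_le_rank
    rw [orb_one]; exact exists_ne i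
  lead r _ := ⟨_, hE r 1 (map_one φ), S.x_mem_U (And.intro rfl fun _ _ => Iff.rfl) 1, by simp [cd_x_self]⟩
  cd y hy hu i := hT i _ ⟨y, hy, hu, rfl⟩

theorem not_conj_top {i j : Nd D} (hij : i ≠ j) {a : G} (ha : a ∈ S.Up) (hi : S.cd (C.sp i) a ≠ 0)
    (hj : S.cd (C.sp j) a ≠ 0) (g : G) (c : F) : g * S.x C.top c * g⁻¹ ≠ a := fun e => by
  obtain ⟨w, hw, u, hu, m, hm, u', hu', rfl⟩ := S.exists_cell g
  obtain ⟨d, hd⟩ := hm.acts C.top
  have h1 : u⁻¹ * a * u⁻¹⁻¹ = S.x (w C.top) (d * c) := by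
    rw [← hd, ← e, mul_assoc _ u', S.Up_commute_top hu']; group
  rw [← S.cd_sp_conj _ (inv_mem hu) ha, h1] at hi hj
  by_cases h2 : w C.top = C.sp i
  · exact hj (S.cd_x_ne (h2 ▸ C.sp_inj.ne hij) _)
  · exact hi (S.cd_x_ne h2 _)

namespace Ov

variable {T : Stb S} {ψ : G →* G} {φ : F →+* F} (h : Ov T ψ φ M)
include h

theorem fix_two [Finite M] [CharP F 2] (hz : S.x C.top 1 ∈ M) {a : G} (ha : a ∈ M) (hu : a ∈ S.Up) (h1 : a ≠ 1)
    (h2 : a * a = 1) (hn : ∀ g : G, g * S.x C.top 1 * g⁻¹ ≠ a) {g : G} (hg : g ∈ M) : ψ g = g := by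
  have hb := mul_mem (mul_mem hg hz) (inv_mem hg)
  refine h.se (g₀ := 1) hz (by simp [S.x_eq_one_iff]) (by simpa using S.x_mem_Up C.pos_top 1)
    (by rw [h.fld, map_one]) hg ?_
  rcases dihedral h2 (b := g * S.x C.top 1 * g⁻¹) (by
    rw [conj_mul, ← S.x_add, CharTwo.add_self_eq_zero, x_zero, mul_one, mul_inv_cancel])
    (M.subtype.isOfFinOrder (isOfFinOrder_of_finite (⟨_, mul_mem ha hb⟩ : M))) with ⟨y, e⟩ | ⟨k, k1, k2, k3, k4⟩
  · exact absurd (show y⁻¹ * g * S.x C.top 1 * (y⁻¹ * g)⁻¹ = a by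
      rw [← mul_left_inj y⁻¹, ← mul_right_inj y, ← mul_assoc y a, e]; group) (hn _)
  · have hc := pow_mem (mul_mem ha hb) k
    obtain ⟨g₀, h0⟩ := h.exists_conj 2 hc (k := 1) (by rw [pow_one, pow_two, k2])
    exact h.se_comm hc k1 h0 (h.se_comm (g₀ := 1) ha h1 (by simpa using hu) (h.fix_Up ha hu) hc k3) hb k4

theorem lam [Finite M] [IsAlgClosed F] (p : ℕ) [Fact p.Prime] [CharP F p] (hp : p ≠ 2) {E : Subfield F}
    (hE : ∀ t, S.x C.top t ∈ M ↔ t ∈ E) {g u : G} (hg : g ∈ M) (hu : u ∈ S.Up) {μ : F} (h0 : μ ≠ 0)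
    (e : g * S.x C.top 1 * g⁻¹ = u * S.x C.top.rev μ * u⁻¹) : μ ∈ E ∨ (Nat.card E = 3 ∧ μ ^ 4 = 1) := by
  have : Finite (M.comap (MulAut.conj u).toMonoidHom) := Finite.of_injective
    (fun x => (⟨_, x.2⟩ : M)) fun a b e => Subtype.ext ((MulAut.conj u).injective (congrArg Subtype.val e))
  refine S.dickson_root h.inj p hp (M.comap (MulAut.conj u).toMonoidHom) E C.top (fun t => ?_) ?_ h0
  · show u * _ * u⁻¹ ∈ M ↔ _
    rw [Tw.top_commute hu, hE]
  · show u * _ * u⁻¹ ∈ M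
    exact e ▸ mul_mem (mul_mem hg ((hE 1).2 E.one_mem)) (inv_mem hg)

/-- the parameter of the opposite position lies outside the fixed field -/
theorem opp_not_fix (hz : S.x C.top 1 ∈ M) {g : G} (hg : g ∈ M) (hn : ψ g ≠ g) {j : Nd D}
    (hj : C.A (C.sp j) C.top ≠ 0) (hm : S.n (C.sp j) 1 ∈ M) (hx : ∀ c, φ c = c → S.x (C.sp j).rev c ∈ M) {u : G}
    (hu : u ∈ S.Up) {μ : F} (e : g * S.x C.top 1 * g⁻¹ = u * S.x C.top.rev μ * u⁻¹) :
    φ (S.cd (C.sp j) u) ≠ S.cd (C.sp j) u := fun h1 => by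
  have h2 := h.opp_ne_zero hz hg hn hj hm hu e
  have h3 : φ (-(S.cd (C.sp j) u)⁻¹) = -(S.cd (C.sp j) u)⁻¹ := by rw [map_neg, map_inv₀, h1]
  exact (h.opp_step hz hg hn hj (hx _ h3) h3 hu e).1 (by rw [mul_neg, mul_inv_cancel₀ h2, add_neg_cancel])

theorem opp_odd [Finite M] [IsAlgClosed F] (p : ℕ) [Fact p.Prime] [CharP F p] (hp : p ≠ 2) {E : Subfield F} [Finite E]
    (hE : ∀ r t, S.x r t ∈ M ↔ t ∈ E) (he : ∀ t, t ∈ E ↔ φ t = t) {j : Nd D} {a : ℕ} (ha : a = 1 ∨ a = 2)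
    (hj : C.A (C.sp j) C.top = a) {g u : G} (hg : g ∈ M) (hn : ψ g ≠ g) (hu : u ∈ S.Up) {μ : F} (h0 : μ ≠ 0)
    (e : g * S.x C.top 1 * g⁻¹ = u * S.x C.top.rev μ * u⁻¹) :
    p = 3 ∧ a = 2 ∧ S.cd (C.sp j) u ^ 9 = S.cd (C.sp j) u ∧ S.cd (C.sp j) u ^ 3 ≠ S.cd (C.sp j) u := by
  have h1 : ∀ r, S.x r 1 ∈ M := fun r => (hE r 1).2 E.one_mem
  have hj' : C.A (C.sp j) C.top ≠ 0 := by omega
  have h2 := h.opp_not_fix (h1 _) hg hn hj' (n_one_mem h1 _) (fun c hc => (hE _ c).2 ((he c).2 hc)) hu e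
  rw [Ne, ← he] at h2
  have h3 : ∀ c ∈ E, 1 + S.cd (C.sp j) u * c ≠ 0 ∧ ((1 + S.cd (C.sp j) u * c) ^ a * μ ∈ E ∨
      (Nat.card E = 3 ∧ ((1 + S.cd (C.sp j) u * c) ^ a * μ) ^ 4 = 1)) := fun c hc => by
    obtain ⟨k1, g', k2, -, u', k3, k4⟩ := h.opp_step (h1 _) hg hn hj' ((hE _ c).2 hc) ((he c).1 hc) hu e
    rw [hj, zpow_natCast] at k4
    exact ⟨k1, h.lam p hp (hE _) k2 k3 (mul_ne_zero (pow_ne_zero _ k1) h0) k4⟩
  generalize S.cd (C.sp j) u = s at *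
  have h4 := h3 0 E.zero_mem
  have h5 := h3 1 E.one_mem
  have h6 := h3 (-1) (neg_mem E.one_mem)
  simp only [mul_zero, add_zero, one_pow, one_mul, mul_one, mul_neg, ← sub_eq_add_neg] at h4 h5 h6
  by_cases h7 : Nat.card E = 3
  · obtain ⟨n, hn, k1, k2⟩ := exists_frob_eq p E
    rw [h7] at k1
    obtain ⟨rfl, rfl⟩ := (Nat.Prime.pow_eq_iff Nat.prime_three).1 k1.symm
    have k3 : ∀ t, t ≠ 0 → (t ∈ E ∨ (Nat.card E = 3 ∧ t ^ 4 = 1)) → t ^ 4 = 1 := fun t h0 ht => ht.elim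
      (fun ht => mul_left_cancel₀ h0 (by linear_combination (t ^ 2 + 1) * (k2 t).1 ht)) And.right
    have k4 := k3 _ (mul_ne_zero (pow_ne_zero _ h5.1) h0) h5.2
    have k5 := k3 _ (mul_ne_zero (pow_ne_zero _ h6.1) h0) h6.2
    rw [mul_pow, k3 _ h0 h4.2, mul_one, ← pow_mul] at k4 k5
    rcases ha with rfl | rfl
    · exact absurd (char_three_four k4 k5 ▸ E.zero_mem) h2
    · refine ⟨rfl, rfl, ?_, fun h => h2 ((k2 s).2 h)⟩
      have := add_pow_char_pow (p := 3) (n := 2) 1 s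
      linear_combination (1 + s) * k4 - this
  · have k1 := h4.2.resolve_right fun h => h7 h.1
    have k2 := div_mem (h5.2.resolve_right fun h => h7 h.1) k1
    have k3 := div_mem (h6.2.resolve_right fun h => h7 h.1) k1
    rw [mul_div_cancel_right₀ _ h0] at k2 k3
    refine absurd ?_ h2
    rcases ha with rfl | rfl
    · simpa using sub_mem k2 E.one_mem
    · refine mem_of_natCast_mul p E.toAddSubgroup (n := 2 ^ 2) (fun h => hp ((Nat.prime_dvd_prime_iff_eq Fact.out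
        Nat.prime_two).1 ((Fact.out : p.Prime).dvd_of_dvd_pow h))) ?_
      rw [Subfield.mem_toAddSubgroup]
      convert sub_mem k2 k3 using 1
      push_cast; ring

theorem fix_odd [Finite M] [IsAlgClosed F] (p : ℕ) [Fact p.Prime] [CharP F p] (hp : p ≠ 2) {E : Subfield F} [Finite E]
    (hE : ∀ r t, S.x r t ∈ M ↔ t ∈ E) (he : ∀ t, t ∈ E ↔ φ t = t) {j : Nd D} (hj : C.A (C.sp j) C.top = 1) {g : G}
    (hg : g ∈ M) : ψ g = g := by
  by_contra hn
  obtain ⟨u, hu, -, μ, h0, e⟩ := h.exists_opp ((hE _ 1).2 E.one_mem) hg hn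
  exact absurd (h.opp_odd p hp hE he (Or.inl rfl) hj hg hn hu h0 e).2.1 (by decide)

end Ov

end Sys

theorem Sys.Ov.fix_B2 {F : Type*} [Field F] {G : Type*} [Group G] {S : Sys certB2 F G} {M : Subgroup G} {T : Stb S}
    {ψ : G →* G} {φ : F →+* F} (h : Sys.Ov T ψ φ M) [Finite M] [IsAlgClosed F] (p : ℕ) [Fact p.Prime] [CharP F p]
    (hp : p ≠ 2) {E : Subfield F} [Finite E] (hE : ∀ r t, S.x r t ∈ M ↔ t ∈ E) (he : ∀ t, t ∈ E ↔ φ t = t) {g : G}
    (hg : g ∈ M) : ψ g = g := by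
  by_contra hn
  have h1 : ∀ r, S.x r 1 ∈ M := fun r => (hE r 1).2 E.one_mem
  obtain ⟨u, hu, -, μ, h0, e⟩ := h.exists_opp (h1 _) hg hn
  have key := fun {g u : G} {μ : F} => h.opp_odd p hp hE he (Or.inr rfl) (j := nB 0)
    (by rw [Cert.A_sp]; decide +kernel) (g := g) (u := u) (μ := μ)
  obtain rfl := (key hg hn hu h0 e).1
  obtain ⟨v, hv, e'⟩ := S.split_sp' (nB 1) hu
  have c : ∀ r : Rt chevB2, (r : ℕ) ∈ [3, 4] → ∀ t u, S.x r t * S.x certB2.top.rev u = S.x certB2.top.rev u * S.x r t :=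
    fun r hr => S.commute_of_N (by clear * - hr; revert r; decide +kernel) (by
      rw [Cert.N_def]; clear * - hr; revert r; decide +kernel)
  rw [e', show ∀ x, v * x * S.x certB2.top.rev μ * (v * x)⁻¹ = v * (x * S.x certB2.top.rev μ * x⁻¹) * v⁻¹ from
    fun x => by group, c _ (by decide), mul_inv_cancel_right] at e
  clear e' hu u
  have key' : ∀ m ∈ M, m ∈ S.P {nB 1} → ψ m = m → ∀ ν, ν ≠ 0 → m * S.x certB2.top.rev μ * m⁻¹ = S.x certB2.top.rev ν →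
      S.cd (rB 5) (m * v * m⁻¹) ^ 9 = S.cd (rB 5) (m * v * m⁻¹) ∧
        S.cd (rB 5) (m * v * m⁻¹) ^ 3 ≠ S.cd (rB 5) (m * v * m⁻¹) := fun m k1 k2 k3 ν k4 k5 =>
    (key (mul_mem k1 hg) (by rwa [map_mul, k3, Ne, mul_right_inj]) (S.UJ_le_Up _ (S.P_conj_UJ k2 hv)) k4 (by
      rw [← k5]
      calc _ = m * (g * S.x certB2.top 1 * g⁻¹) * m⁻¹ := by group
        _ = _ := by rw [e]; group)).2.2
  let f : (Nd chevB2 → ℤ) →ₗ[ℤ] ℤ := (3 : ℤ) • LinearMap.proj (nB 0) - LinearMap.proj (nB 1)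
  have hf : ∀ r, f (certB2.rc r) = 3 * rcB2 r (nB 0) - rcB2 r (nB 1) := fun r => rfl
  have hv' : v ∈ S.U {r | 2 ≤ f (certB2.rc r)} := S.U_mono (fun r hr => by
    have k1 := (certB2.pos_iff_val r).1 hr.1
    have k2 : r ≠ certB2.sp (nB 1) := fun e => hr.2 (e ▸ certB2.inJ_sp.2 rfl)
    rw [Set.mem_ofPred_eq, hf]
    clear * - k1 k2; revert r; decide +kernel) hv
  have hb : certB2.InJ {nB 1} (certB2.sp (nB 1)) := certB2.inJ_sp.2 (Set.mem_singleton _)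
  have k1 := fun d : ℤ => key' (S.x (rB 3) d) ((hE _ _).2 (intCast_mem E d))
    (S.x_mem_P (Or.inr (certB2.inJ_rev.2 hb)) _) (by rw [h.fld, map_intCast]) μ h0 (by
      rw [c _ (by decide), mul_inv_cancel_right])
  have k2 : ∀ d : F, S.cd (rB 5) (S.x (rB 3) d * v * (S.x (rB 3) d)⁻¹) = S.cd (rB 5) v + d * S.cd (rB 6) v := fun d => by
    rw [← inv_mul_cancel_right (S.x (rB 3) d * v * (S.x (rB 3) d)⁻¹) v, S.cd_mul (f := f) (k := 2) (by decide)
      (fun _ h => h) (by rw [hf]; decide +kernel) (S.U_mono (fun r hr => by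
          have k3 : 2 + f (certB2.rc (rB 3)) ≤ f (certB2.rc r) := hr
          rw [show f (certB2.rc (rB 3)) = 1 by rw [hf]; decide +kernel] at k3
          exact le_trans (by decide) k3)
        (S.comm_level f two_pos (a := rB 3) (by rw [hf]; decide +kernel) d hv')) hv', S.cd_comm_of_add f two_pos (β := rB 6)
        (by rw [hf]; decide +kernel) (by rw [hf]; decide +kernel)
        (funext (by simp only [Pi.add_apply, certB2_rc]; decide +kernel)) d hv',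
        show certB2.N (rB 3) (rB 6) = 1 by rw [Cert.N_def]; decide +kernel]
    push_cast; ring
  have k3 := key' _ (Sys.n_one_mem h1 (certB2.sp (nB 1))) ((S.over_ns _ 1).mem_P (certB2.ss_mem_WJ (Set.mem_singleton _)))
    (by rw [h.fld.map_n, map_one]) (certB2.eta (certB2.sp (nB 1)) certB2.top.rev * μ)
    (mul_ne_zero (by rcases certB2.eta_unit (certB2.sp (nB 1)) certB2.top.rev with e | e <;> simp [e]) h0)
    (by rw [Sys.n_one_conj, reflB2_eq (u := certB2.top.rev) (by decide +kernel)])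
  have k4 := S.cd_conj_acts (S.over_ns (nB 1) 1).acts (certB2.W_le_Aut (S.over_ns (nB 1) 1).mem_W) (k := 2)
    (by decide) (fun _ h => h) (r := rB 6) (by rw [hf]; decide +kernel) (Sys.n_one_conj _ _) hv'
  rw [certB2.ss_apply, reflB2_eq (u := rB 5) (by decide +kernel)] at k4
  rw [k4] at k3
  simp only [k2] at k1
  refine char_three_nine (s := S.cd (rB 5) v) (t := S.cd (rB 6) v) ?_
  simp only [List.forall_mem_cons]
  refine ⟨by simpa using k1 0, ?_, by simpa using k1 1, by simpa [sub_eq_add_neg] using k1 (-1), by simp⟩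
  rcases certB2.eta_unit (certB2.sp (nB 1)) (rB 6) with e | e
  · simpa [e] using k3
  · simpa [e, Odd.neg_pow (show Odd 9 by decide), Odd.neg_pow (show Odd 3 by decide)] using k3

/-- the combinatorial data used for a type -/
def Cert.Typ {D : ChevalleyDatum} (C : Cert D) : Prop :=
  (∃ i, C.len (C.sp i) ≠ C.len C.top) ∨ ∃ i j, i ≠ j ∧ C.N (C.sp i) (C.sp j) = 0

namespace Sys

variable {D : ChevalleyDatum} {C : Cert D} {F : Type*} [Field F] {G : Type*} [Group G] {S : Sys C F G}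
  {M : Subgroup G}

theorem Ov.fix_two' {T : Stb S} {ψ : G →* G} {φ : F →+* F} (h : Ov T ψ φ M) [Finite M] [CharP F 2] (ht : C.Typ)
    (h1 : ∀ r, S.x r 1 ∈ M) {g : G} (hg : g ∈ M) : ψ g = g := by
  have h2 : ∀ r, S.x r 1 * S.x r 1 = 1 := fun r => by rw [← S.x_add, CharTwo.add_self_eq_zero, x_zero]
  rcases ht with ⟨i, hi⟩ | ⟨i, j, hij, hN⟩
  · exact h.fix_two (h1 _) (h1 _) (S.x_mem_Up (C.pos_sp i) 1) (by simp [S.x_eq_one_iff]) (h2 _)
      (fun g e => hi (len_eq_of_conj_top (C.pos_sp i) one_ne_zero e)) hg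
  · have h3 := S.x_mem_Up (C.pos_sp i) 1
    have h4 := S.x_mem_Up (C.pos_sp j) 1
    have h5 : S.cd (C.sp i) (S.x (C.sp i) 1 * S.x (C.sp j) 1) ≠ 0 := by
      rw [S.cd_sp_mul _ h3 h4, cd_x_self, S.cd_x_ne (C.sp_inj.ne hij.symm), add_zero]; exact one_ne_zero
    have h6 : S.cd (C.sp j) (S.x (C.sp i) 1 * S.x (C.sp j) 1) ≠ 0 := by
      rw [S.cd_sp_mul _ h3 h4, cd_x_self, S.cd_x_ne (C.sp_inj.ne hij), zero_add]; exact one_ne_zero
    refine h.fix_two (h1 _) (mul_mem (h1 _) (h1 _)) (mul_mem h3 h4) (fun e => h5 (by rw [e, cd_one])) ?_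
      (fun g => not_conj_top hij (mul_mem h3 h4) h5 h6 g 1) hg
    rw [mul_assoc, ← mul_assoc (S.x (C.sp j) 1), ← S.commute_of_N (fun e => C.not_pos_rev (C.pos_sp i)
      (e ▸ C.pos_sp j)) hN, mul_assoc, h2, mul_one, h2]

/-- the conclusion -/
def Sand (S : Sys C F G) (p : ℕ) [Fact p.Prime] [CharP F p] (M : Subgroup G) : Prop :=
  ∃ n, 0 < n ∧ (∀ r t, S.x r t ∈ M ↔ t ^ p ^ n = t) ∧ ∀ ψ, S.IsFld ψ (iterateFrobenius F p n) → ∀ g ∈ M, ψ g = g

theorem sand_of (hφ : Function.Injective S.φ) (p : ℕ) [Fact p.Prime] [CharP F p] (h : ∃ E : Subfield F, Finite E ∧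
    (∀ i, ∀ t ∈ S.TM M i, t ∈ E) ∧ ∀ r t, S.x r t ∈ M ↔ t ∈ E)
    (h' : ∀ ψ φ, Ov (Stb.one S) ψ φ M → ∀ E : Subfield F, Finite E → (∀ r t, S.x r t ∈ M ↔ t ∈ E) →
      (∀ t, t ∈ E ↔ φ t = t) → ∀ g ∈ M, ψ g = g) : S.Sand p M := by
  obtain ⟨E, _, h1, h2⟩ := h
  obtain ⟨n, hn, -, h3⟩ := exists_frob_eq p E
  exact ⟨n, hn, fun r t => (h2 r t).trans (h3 t), fun ψ hψ => h' ψ _ (ov_one hφ hψ (fun i t ht => (h3 t).1 (h1 i t ht))
    fun r t ht => (h2 r t).2 ((h3 t).2 ht)) E ‹_› h2 h3⟩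

theorem sand_long [Finite M] [IsAlgClosed F] (hφ : Function.Injective S.φ) (p : ℕ) [Fact p.Prime] [CharP F p]
    (h1 : ∀ r, S.x r 1 ∈ M) (h3 : C.Tri3) (ht : C.Typ) (j : Nd D) (γ : Rt D)
    (e : ∀ i, C.rc C.top i = C.rc (C.sp j) i + C.rc γ i) (hl : C.len (C.sp j) = C.len C.top) : S.Sand p M :=
  sand_of hφ p (field_long h1 p h3 (funext e) hl) fun ψ φ h E _ hE he g hg => by
    by_cases hp : p = 2
    · subst hp; exact h.fix_two' ht h1 hg
    · exact h.fix_odd p hp hE he (C.long_add (funext e) hl rfl).2.1 hg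

end Sys

theorem exists_sand {D : ChevalleyDatum} (hD : D ∈ [chevG2, chevB2, chevD4, chevF4, chevE6, chevE7, chevE8]) :
    ∃ C : Cert D, ∀ (F : Type*) [Field F] [IsAlgClosed F] (p : ℕ) [Fact p.Prime] [CharP F p] (M : Subgroup (D.group F))
      [Finite M], (∀ r, (C.sys F).x r 1 ∈ M) → (C.sys F).Sand p M := by
  simp only [List.mem_cons, List.not_mem_nil, or_false] at hD
  rcases hD with rfl | rfl | rfl | rfl | rfl | rfl | rfl
  · refine ⟨certG2, fun F _ _ p _ _ M _ h1 => Sys.sand_long (certG2.sys_φ_inj F) p h1 (fun i j h => ?_)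
      (Or.inl ⟨⟨0, by decide⟩, ?_⟩) ⟨1, by decide⟩ ⟨10, by decide⟩ ?_ ?_⟩
    · refine ⟨⟨9, by decide⟩, ⟨10, by decide⟩, ⟨6, by decide⟩, ?_, ?_⟩
      · exact certG2.one_le_ht ((certG2.pos_iff_val _).2 (by decide +kernel))
      · rw [Cert.A_sp] at h
        simp only [certG2_rc, Cert.N_def]
        clear * - h; revert i j; decide +kernel
    all_goals simp only [certG2_rc, certG2_len]; decide +kernel
  · refine ⟨certB2, fun F _ _ p _ _ M _ h1 => ?_⟩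
    by_cases hp : p = 2
    · subst hp
      exact Sys.sand_of (certB2.sys_φ_inj F) 2 (field_B2_two h1) fun ψ φ h E _ hE he g hg =>
        h.fix_two' (Or.inl ⟨nB 0, by simp only [certB2_len]; decide +kernel⟩) h1 hg
    · exact Sys.sand_of (certB2.sys_φ_inj F) p (field_B2_odd h1 p hp) fun ψ φ h E _ hE he g hg => h.fix_B2 p hp hE he hg
  · refine ⟨certD4, fun F _ _ p _ _ M _ h1 => Sys.sand_long (certD4.sys_φ_inj F) p h1 (tri3_of _ (by decide +kernel))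
      (Or.inr ⟨⟨0, by decide⟩, ⟨2, by decide⟩, by decide, ?_⟩) ⟨1, by decide⟩ ⟨22, by decide⟩ ?_ ?_⟩
    all_goals simp only [certD4_rc, certD4_len, Cert.N_def]; decide +kernel
  · refine ⟨certF4, fun F _ _ p _ _ M _ h1 => Sys.sand_long (certF4.sys_φ_inj F) p h1 (tri3_of _ (by decide +kernel))
      (Or.inr ⟨⟨0, by decide⟩, ⟨2, by decide⟩, by decide, ?_⟩) ⟨3, by decide⟩ ⟨46, by decide⟩ ?_ ?_⟩
    all_goals simp only [certF4_rc, certF4_len, Cert.N_def]; decide +kernel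
  · refine ⟨certE6, fun F _ _ p _ _ M _ h1 => Sys.sand_long (certE6.sys_φ_inj F) p h1 (tri3_of _ (by decide +kernel))
      (Or.inr ⟨⟨0, by decide⟩, ⟨1, by decide⟩, by decide, ?_⟩) ⟨1, by decide⟩ ⟨70, by decide⟩ ?_ ?_⟩
    all_goals simp only [certE6_rc, certE6_len, Cert.N_def]; decide +kernel
  · refine ⟨certE7, fun F _ _ p _ _ M _ h1 => Sys.sand_long (certE7.sys_φ_inj F) p h1 (tri3_of _ (by decide +kernel))
      (Or.inr ⟨⟨0, by decide⟩, ⟨1, by decide⟩, by decide, ?_⟩) ⟨0, by decide⟩ ⟨124, by decide⟩ ?_ ?_⟩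
    all_goals simp only [certE7_rc, certE7_len, Cert.N_def]; decide +kernel
  · refine ⟨certE8, fun F _ _ p _ _ M _ h1 => Sys.sand_long (certE8.sys_φ_inj F) p h1 (tri3_of _ (by decide +kernel))
      (Or.inr ⟨⟨0, by decide⟩, ⟨1, by decide⟩, by decide, ?_⟩) ⟨7, by decide⟩ ⟨238, by decide⟩ ?_ ?_⟩
    all_goals simp only [certE8_rc, certE8_len, Cert.N_def]; decide +kernel

end Cfsg.Agent.Chev
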