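import Cfsg.Agent.Chev.Over2
import Cfsg.Agent.Forms.LieTw

/-!
Overgroups, inside a twisted group, of the points fixed by the field automorphism.
-/

set_option autoImplicit false
set_option linter.unusedSimpArgs false
set_option linter.unusedVariables false

namespace Cfsg.Agent.Chev

open Cfsg.Lie Cfsg.Lie.ChevalleyDatum Equiv Tw Forms

attribute [-simp] zsmul_eq_mul nsmul_eq_mul

variable {D : ChevalleyDatum} {C : Cert D} {F : Type*} [Field F] {G : Type*} [Group G] {S : Sys C F G}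

theorem Sys.cd_comm_mul (S : Sys C F G) (f : (Nd D → ℤ) →ₗ[ℤ] ℤ) {k m : ℤ} (hk : 0 < k) (hm : 0 < m) {δ : Rt D}
    (hδ : f (C.rc δ) = k + m) {a b z : G} (ha : a ∈ S.U {r | m ≤ f (C.rc r)}) (hb : b ∈ S.U {r | m ≤ f (C.rc r)})
    (hz : z ∈ S.U {r | k ≤ f (C.rc r)}) : S.cd δ (a * b * z * (a * b)⁻¹ * z⁻¹) =
      S.cd δ (a * z * a⁻¹ * z⁻¹) + S.cd δ (b * z * b⁻¹ * z⁻¹) := by
  have h1 := TwM.comm_ge S f hm.le hk ha hz
  have h2 := TwM.comm_ge S f hm.le hk hb hz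
  rw [commutatorElement_def] at h1 h2
  rw [show a * b * z * (a * b)⁻¹ * z⁻¹ = a * (b * z * b⁻¹ * z⁻¹) * a⁻¹ * (a * z * a⁻¹ * z⁻¹) by group,
    S.cd_mul (f := f) (k := k + m) (by omega) (fun _ h => h) (by omega) (S.conj_ge f (by omega)
      (Subgroup.mem_sup_left (S.U_mono (fun r hr => hm.le.trans hr) ha)) h2) h1,
    S.cd_conj_ge f hm.le (by omega) ha h2 (by omega) (by omega), add_comm]

theorem Cert.refl_eq (C : Cert D) {r s u : Rt D} (h : ∀ i, C.rc u i = C.rc s i - D.pairing r s * C.rc r i) :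
    C.refl r s = u :=
  C.rc_inj (by rw [C.rc_refl]; exact funext fun i => (h i).symm)

variable {k : Type*} [Field k]

/-- subgroups between the fixed points of `σ` and `ψ` and the fixed points of `σ` -/
structure Btw (R : LR S k) (ψ : G →* G) (H : Subgroup G) : Prop where
  fld : S.IsFld ψ R.φ
  e : ∀ r, R.φ (R.T.e r) = R.T.e r
  le : ∀ g, R.T.σ g = g → ψ g = g → g ∈ H
  fix : ∀ g ∈ H, R.T.σ g = g
  simple : ∀ i r, C.Pos r → C.InJ (R.T.orb i) r → ∃ j, r = C.sp j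
  proper : ∀ i, ∃ j, j ∉ R.T.orb i

/-- parameters of the relative root elements in `H` -/
def AT (R : LR S k) (H : Subgroup G) (r : Rt D) : AddSubgroup F where
  carrier := {t | (R.nm r t : G) ∈ H}
  add_mem' := fun {a b} ha hb => by rw [Set.mem_ofPred_eq, R.nm_add]; exact mul_mem ha hb
  zero_mem' := by
    have := R.nm_add r 0 0
    rw [add_zero, left_eq_mul] at this
    rw [Set.mem_ofPred_eq, this]; exact one_mem H
  neg_mem' := fun {a} ha => by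
    have h0 := R.nm_add r 0 0
    have := R.nm_add r (-a) a
    rw [add_zero, left_eq_mul] at h0
    rw [neg_add_cancel, h0] at this
    rw [Set.mem_ofPred_eq, eq_inv_of_mul_eq_one_left this.symm]; exact inv_mem ha

theorem mem_AT_iff {R : LR S k} {H : Subgroup G} {r : Rt D} {t : F} : t ∈ AT R H r ↔ (R.nm r t : G) ∈ H := Iff.rfl

theorem pn_map (R : LR S k) {M : Type*} [FunLike M G G] [MonoidHomClass M G G] (τ : M)
    (h : ∀ g, τ (R.T.σ g) = R.T.σ (τ g)) (n : ℕ) (g : G) : τ (R.pn n g) = R.pn n (τ g) := by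
  induction n with
  | zero => simp [LR.pn]
  | succ n ih => rw [R.pn_succ', R.pn_succ', map_mul, h, ih]

theorem ht_inv (R : LR S k) (r : Rt D) : Cert.lev ∅ (C.rc (R.T.ρ r)) = Cert.lev ∅ (C.rc r) := by
  simp only [C.lev_empty, R.ht_ρ]

theorem cd_Ob (R : LR S k) {f : (Nd D → ℤ) →ₗ[ℤ] ℤ} (hf : ∀ r, f (C.rc (R.T.ρ r)) = f (C.rc r)) {m : ℤ} (hm : 0 ≤ m)
    {z : G} (hz : z ∈ S.U {s | m ≤ f (C.rc s)}) (e : R.T.σ z = z) {r : Rt D} (hr : f (C.rc r) < 2 * m)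
    (h0 : S.cd r z = 0) {s : Rt D} (hs : s ∈ R.Ob r) : S.cd s z = 0 := by
  obtain ⟨j, rfl⟩ := hs
  induction j with
  | zero => exact h0
  | succ j ih =>
    have h1 : f (C.rc (R.T.ρ^[j] r)) = f (C.rc r) := R.Ob_inv (f := fun r => f (C.rc r)) hf ⟨j, rfl⟩
    rw [Function.iterate_succ_apply', ← e, R.T.cd_σ hm hm (fun _ h => h) (fun s hs => (hf s).ge.trans' hs) (h1 ▸ hr)
      (by rwa [hf, h1]) hz, ih, map_zero, mul_zero]

theorem AT_ρ (R : LR S k) (H : Subgroup G) {r : Rt D} (h : AT R H r = ⊤) : AT R H (R.T.ρ r) = ⊤ :=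
  eq_top_iff.2 fun t _ => by
    have h1 : (R.nm r (R.φ.symm (((R.T.e r)⁻¹ : Fˣ) * t)) : G) ∈ H := (AddSubgroup.eq_top_iff' _).1 h _
    rw [← R.σ_coe, R.nm_coe, pn_map R R.T.σ fun _ => rfl, R.T.σ_x, R.f_eq] at h1
    simpa [mem_AT_iff, R.nm_coe] using h1

theorem fld_comm {R : LR S k} {ψ : G →* G} (h : S.IsFld ψ R.φ) (he : ∀ r, R.φ (R.T.e r) = R.T.e r) (g : G) :
    ψ (R.T.σ g) = R.T.σ (ψ g) :=
  DFunLike.congr_fun (S.hom_ext (f := ψ.comp R.T.σ) (g := (R.T.σ : G →* G).comp ψ) fun r t => by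
    simp [R.T.σ_x, h r, h (R.T.ρ r), R.f_eq, he]) g

namespace Btw

variable {R : LR S k} {ψ : G →* G} {H : Subgroup G} (h : Btw R ψ H)
include h

theorem nm_fix (r : Rt D) {t : F} (ht : R.φ t = t) : ψ (R.nm r t) = R.nm r t := by
  rw [R.nm_coe, pn_map R ψ (fld_comm h.fld h.e), h.fld, RingHom.coe_coe, ht]

theorem mem_AT (r : Rt D) {t : F} (ht : R.φ t = t) : t ∈ AT R H r := h.le _ (R.σ_coe _) (h.nm_fix r ht)

theorem mem_of_fixed {z : G} (hz : z ∈ S.U {s | R.T.ρ s = s}) (e : R.T.σ z = z) : z ∈ H := by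
  refine h.le z e (Eq.trans ?_ e)
  refine S.U_induction (P := fun z => ψ z = R.T.σ z) (by simp) (fun r hr t g _ ih => ?_) hz
  rw [map_mul, map_mul, ih, h.fld, R.σ_fix hr, RingHom.coe_coe]

theorem x_mem {r : Rt D} (hr : R.T.ρ r = r) {t : F} (ht : R.φ t = t) : S.x r t ∈ H :=
  h.mem_of_fixed (S.x_mem_U (by exact hr) t) (by rw [R.σ_fix hr, ht])

theorem exists_Y {f : (Nd D → ℤ) →ₗ[ℤ] ℤ} (hf : ∀ r, f (C.rc (R.T.ρ r)) = f (C.rc r)) {r : Rt D}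
    (hr : 0 < f (C.rc r)) : ∃ y ∈ S.U (R.Ob r), R.T.σ y = y ∧ ψ y = y ∧ S.cd r y = 1 := by
  by_cases h1 : R.T.ρ r = r
  · exact ⟨_, S.x_mem_U (R.mem_Ob r) 1, by rw [R.σ_fix h1, map_one], by rw [h.fld, map_one], S.cd_x_self r 1⟩
  · exact ⟨_, R.nm_mem (R.sb_Ob r) (R.mem_Ob r) 1, R.σ_coe _, h.nm_fix r (map_one _), R.cd_nm hf hr h1 1⟩

theorem exists_neg (i : Nd D) : ∃ v ∈ S.U {r | ¬ C.Pos r ∧ C.InJ (R.T.orb i) r}, R.T.σ v = v ∧ ψ v = v ∧ v ≠ 1 := by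
  obtain ⟨y, h1, h2, h3, h4⟩ := h.exists_Y (f := -Cert.lev ∅) (fun r => by simp only [LinearMap.neg_apply, ht_inv])
    (r := (C.sp i).rev) (by rw [C.rc_neg, map_neg, LinearMap.neg_apply, Sys.ht_sp]; norm_num)
  refine ⟨y, S.U_mono (fun s hs => And.intro ?_ ?_) h1, h2, h3, fun e => by simp [e, S.cd_one] at h4⟩
  · rw [R.Ob_inv (f := C.Pos) (fun r => propext (R.T.pos r)) hs]; exact C.not_pos_rev (C.pos_sp i)
  · rw [R.Ob_inv (f := C.InJ (R.T.orb i)) (fun r => propext ((R.T.stable_orb i).inJ r)) hs]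
    exact C.inJ_rev.2 (C.inJ_sp.2 (R.T.mem_orb i))

theorem ovr (i : Nd D) : ∃ m ∈ H, ψ m = m ∧ S.Over m (C.w0 (R.T.orb i)) := by
  obtain ⟨v, hv, h1, h2, h3⟩ := h.exists_neg i
  obtain ⟨w, hw, u, hu, m, hm, u', hu', rfl⟩ := S.mem_L_iff.1
    ((S.U_mono (fun r hr => hr.2)).trans le_sup_left hv : v ∈ S.L (R.T.orb i))
  have hu := S.U_le_Up (fun _ h => h.1) hu
  obtain ⟨h4, -, h5, -⟩ := Stb.nf_fix hu hm hu' h1
  have h6 := (Sys.nfU_unique (h.fld.over hm) hm (h.fld.map_U hu) hu (h.fld.map_U hu') hu'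
    (by rw [← h2, map_mul, map_mul])).2.2.1
  refine ⟨m, h.le m h5 h6, h6, ?_⟩
  rwa [← Stb.eq_w0_orb hw h4]
  rintro rfl
  exact h3 (S.eq_one_of_mem_Um_B (S.U_le_Um (fun _ h => h.1) hv) (mul_mem (mul_mem
    (S.Up_le_B hu) (S.H_le_B hm.mem_H)) (S.Up_le_B (S.Uw_le_Up _ hu'))))

theorem over_fix {w : Perm (Rt D)} (hw : w ∈ C.W) (e : R.T.cj w = w) : ∃ m ∈ H, ψ m = m ∧ S.Over m w :=
  Stb.fix_induction (P := fun w => ∃ m ∈ H, ψ m = m ∧ S.Over m w) ⟨1, one_mem _, map_one _, S.over_one⟩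
    (fun w _ _ i _ ⟨m, h1, h2, h3⟩ => by
      obtain ⟨n, h4, h5, h6⟩ := h.ovr i
      exact ⟨m * n, mul_mem h1 h4, by rw [map_mul, h2, h5], h3.mul h6⟩) hw e

theorem ov (hT : ∀ i, ∀ t ∈ S.TM H i, R.φ t = t) : Sys.Ov R.T ψ R.φ H where
  inj := R.inj
  fld := h.fld
  aut := R.aut
  fix := h.fix
  up u _ := h.le u
  ovr := h.ovr
  simple := h.simple
  proper := h.proper
  lead r hr := by
    obtain ⟨y, h1, h2, h3, h4⟩ := h.exists_Y (ht_inv R) (Sys.ht_pos hr)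
    exact ⟨y, h.le y h2 h3, S.U_mono (fun s hs => And.intro (R.Ob_inv R.ht_ρ hs) fun J hJ =>
      (R.Ob_inv (f := C.InJ J) (fun r => propext (hJ.inJ r)) hs).to_iff) h1, by simp [h4]⟩
  cd y hy hu i := hT i _ ⟨y, hy, hu, rfl⟩

omit h in
theorem cd_sp {u : G} (hu : u ∈ S.Up) (e : R.T.σ u = u) (he : ∀ i, R.T.e (C.sp i) = 1) (i : Nd D) :
    S.cd (C.sp (R.T.π i)) u = R.φ (S.cd (C.sp i) u) := by
  conv_lhs => rw [← e, R.T.cd_sp hu, he, R.f_eq, Units.val_one, one_mul]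

theorem fix_of_TM (hT : ∀ i, ∀ t ∈ S.TM H i, R.φ t = t) (h0 : R.T.ρ C.top = C.top) {j : Nd D} (hj : R.T.π j = j)
    (hA : C.A (C.sp j) C.top ≠ 0) {g : G} (hg : g ∈ H) : ψ g = g := by
  by_contra hn
  have h1 := R.fix_sp.2 hj
  have h2 := h.x_mem h0 (map_one _)
  obtain ⟨u, hu, e, μ, -, h3⟩ := (h.ov hT).exists_opp h2 hg hn
  have h4 := (h.ov hT).opp_ne_zero h2 hg hn hA (mul_mem (mul_mem (h.x_mem h1 (by simp))
    (h.x_mem (R.fix_rev h1) (by simp))) (h.x_mem h1 (by simp))) hu h3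
  have h5 := R.T.cd_sp hu j
  rw [hj, e, R.e_eq _ h1, R.f_eq, Units.val_one, one_mul] at h5
  have h6 : R.φ (-(S.cd (C.sp j) u)⁻¹) = -(S.cd (C.sp j) u)⁻¹ := by rw [map_neg, map_inv₀, ← h5]
  exact ((h.ov hT).opp_step h2 hg hn hA (h.x_mem (R.fix_rev h1) h6) h6 hu h3).1
    (by rw [mul_neg, mul_inv_cancel₀ h4, add_neg_cancel])

theorem AT_mul {β r : Rt D} (hβ : R.T.ρ β = β) (hA : C.A β r = 1) {c t : F} (hc : R.φ c = c) (ht : t ∈ AT R H r) :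
    c * t ∈ AT R H r := by
  by_cases h0 : c = 0
  · rw [h0, zero_mul]; exact zero_mem _
  have h1 : ∀ u : Fˣ, R.φ u = u → S.n β u ∈ H := fun u hu => mul_mem (mul_mem (h.x_mem hβ hu)
    (h.x_mem (R.fix_rev hβ) (by simp [hu]))) (h.x_mem hβ hu)
  have h2 : S.h β (Units.mk0 c h0) ∈ H := mul_mem (h1 _ hc) (h1 _ (by simp))
  have h3 := congrArg Subtype.val (R.nm_conj (a := ⟨_, R.mem _ (h.fix _ h2)⟩) (S.h_mem _ _) r t)
  rw [S.chi_h, hA, zpow_one, Units.val_mk0] at h3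
  rw [mem_AT_iff, ← h3]
  exact mul_mem (mul_mem h2 ht) (inv_mem h2)

theorem AT_le {β r s : Rt D} (hβ : R.T.ρ β = β) (hA : C.A β r = 1) {w : Perm (Rt D)} (hw : w ∈ C.W) (e : R.T.cj w = w)
    (hs : w r = s) : AT R H r ≤ AT R H s := fun t ht => by
  obtain ⟨m, h1, h2, h3⟩ := h.over_fix hw e
  obtain ⟨c, hc⟩ := h3.acts r
  have h4 := congrArg ψ (hc 1)
  rw [map_mul, map_mul, map_inv, h2, h.fld, h.fld, map_one, hc, mul_one] at h4
  have h5 := mul_mem (mul_mem h1 (h.AT_mul hβ hA (c := (c : F)⁻¹) (by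
    rw [map_inv₀]; exact congrArg _ (S.x_inj _ h4).symm) ht)) (inv_mem h1)
  rw [R.nm_coe, ← MulAut.conj_apply, pn_map R _ fun g => by simp [h.fix m h1], MulAut.conj_apply, hc,
    mul_inv_cancel_left₀ c.ne_zero, hs] at h5
  exact h5

theorem AT_top {r : Rt D} (hr : C.Pos r) (h1 : R.T.ρ r ≠ r) (h2 : ∀ s, C.ht r ≤ C.ht s → R.T.ρ s = s ∨ s ∈ R.Ob r ∧
    C.ht s = C.ht r) {y : G} (hy : y ∈ H) (hu : y ∈ S.U {s | C.ht r ≤ Cert.lev ∅ (C.rc s)}) : S.cd r y ∈ AT R H r := by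
  have h3 := C.one_le_ht hr
  have h4 := C.lev_empty r
  have h5 := inv_mem (R.nm_mem (A := {s | C.ht r ≤ Cert.lev ∅ (C.rc s)}) (fun s hs => by
    rwa [Set.mem_ofPred_eq, ht_inv]) h4.ge (S.cd r y))
  have h6 : R.T.σ ((R.nm r (S.cd r y) : G)⁻¹ * y) = (R.nm r (S.cd r y) : G)⁻¹ * y := by
    rw [map_mul, map_inv, R.σ_coe, h.fix y hy]
  have h7 := h.mem_of_fixed (peel (f := Cert.lev ∅) (k := C.ht r) (by omega) (Cert.closed_ge _ (by omega))
    (Cert.nil_of_fun (Cert.lev ∅) fun s hs => h3.trans hs) (fun _ h => h) (mul_mem h5 hu) fun s hs =>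
      (h2 s (C.lev_empty s ▸ hs)).imp_right fun h => And.intro (by rw [C.lev_empty]; omega)
        (cd_Ob R (ht_inv R) (by omega) (mul_mem h5 hu) h6 (by omega) (by
          rw [S.cd_mul (f := Cert.lev ∅) (k := C.ht r) (by omega) (fun _ h => h) (by omega) h5 hu,
            S.cd_inv (f := Cert.lev ∅) (k := C.ht r) (by omega) (fun _ h => h) (by omega) (inv_mem_iff.1 h5),
            R.cd_nm (ht_inv R) (by omega) h1, neg_add_cancel]) h.1)) h6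
  simpa [mem_AT_iff] using mul_mem hy (inv_mem h7)

theorem good (h1 : ∀ i, R.T.π i ≠ i → AT R H (C.sp i) = ⊤) : R.T.Good H :=
  Stb.good_of_gen h.fix (fun i u hu e => R.UK_le (M := H.subgroupOf R.K) (A := {r | C.Pos r ∧ C.InJ (R.T.orb i) r})
    (fun r hr => ⟨(R.T.pos r).2 hr.1, ((R.T.stable_orb i).inJ r).2 hr.2⟩) (Cert.closed_pos.inter (Cert.closed_inJ _))
    (fun _ h => h.1) (fun r hr t => by
      obtain ⟨j, rfl⟩ := h.simple i r hr.1 hr.2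
      by_cases h2 : R.T.π j = j
      · exact h.mem_of_fixed (z := R.nm _ t) (by
          rw [R.nm_fix (R.fix_sp.2 h2)]; exact S.x_mem_U (by exact R.fix_sp.2 h2) _) (R.σ_coe _)
      · exact (AddSubgroup.eq_top_iff' _).1 (h1 j h2) t) (x := ⟨u, R.mem u e⟩) hu) fun i => by
    obtain ⟨v, h1, h2, h3, h4⟩ := h.exists_neg i
    exact ⟨v, h.le v h2 h3, h1, h4⟩

end Btw

end Cfsg.Agent.Chev
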