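import Cfsg.Agent.Chev.Over4
import Cfsg.Agent.Tw.TwPar
import Cfsg.Agent.Tw.InvTw

/-!
The points over the subfield are maximal in the twisted groups of type `E₆` and `D₄`.
-/

set_option autoImplicit false
set_option linter.unusedSimpArgs false
set_option linter.unusedVariables false

namespace Cfsg.Agent.Chev

open Cfsg.Lie Cfsg.Lie.ChevalleyDatum Equiv Tw Forms

attribute [-simp] zsmul_eq_mul nsmul_eq_mul

section field

variable {F : Type*} [Field F] {φ : F ≃+* F}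

theorem top_of_two (h2 : ∀ t, φ (φ t) = t) {A : AddSubgroup F} (h : ∀ c, φ c = c → ∀ t ∈ A, c * t ∈ A) (h1 : (1 : F) ∈ A)
    {t : F} (ht : t ∈ A) (hn : φ t ≠ t) : A = ⊤ := eq_top_iff.2 fun x _ => by
  have h0 := sub_ne_zero.2 hn
  have h0' := sub_ne_zero.2 hn.symm
  convert add_mem (h (x - (φ x - x) / (φ t - t) * t) (by simp only [map_sub, map_mul, map_div₀, h2]; field_simp; ring) 1 h1)
    (h ((φ x - x) / (φ t - t)) (by simp only [map_sub, map_div₀, h2]; field_simp; ring) t ht) using 1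
  ring

theorem ne_three (h3 : ∀ t, φ (φ (φ t)) = t) {t : F} (hn : φ t ≠ t) :
    t - φ t ≠ 0 ∧ φ t - φ (φ t) ≠ 0 ∧ φ (φ t) - t ≠ 0 :=
  ⟨sub_ne_zero.2 hn.symm, sub_ne_zero.2 (φ.injective.ne hn.symm), sub_ne_zero.2 fun e => hn (by
    conv_lhs => rw [← e, h3])⟩

theorem top_of_three (h3 : ∀ t, φ (φ (φ t)) = t) {A : AddSubgroup F} (h : ∀ c, φ c = c → ∀ t ∈ A, c * t ∈ A)
    (h1 : (1 : F) ∈ A) {t : F} (ht : t ∈ A) (hn : φ t ≠ t) (hu : φ t * φ (φ t) ∈ A) : A = ⊤ :=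
  eq_top_iff.2 fun x _ => by
  obtain ⟨a1, a2, a3⟩ := ne_three h3 hn
  let d := -((t - φ t) * (φ t - φ (φ t)) * (φ (φ t) - t))
  have hd : φ d = d := by simp only [d, map_sub, map_mul, map_neg, h3]; ring
  have h0 : d ≠ 0 := neg_ne_zero.2 (mul_ne_zero (mul_ne_zero a1 a2) a3)
  convert add_mem (add_mem
    (h ((x * t * (φ (φ t) ^ 2 - φ t ^ 2) + φ x * φ t * (t ^ 2 - φ (φ t) ^ 2) + φ (φ x) * φ (φ t) * (φ t ^ 2 - t ^ 2)) / d)
      (by simp only [map_add, map_sub, map_mul, map_pow, map_div₀, hd, h3]; ring) 1 h1)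
    (h ((x * t * (φ t - φ (φ t)) + φ x * φ t * (φ (φ t) - t) + φ (φ x) * φ (φ t) * (t - φ t)) / d)
      (by simp only [map_add, map_sub, map_mul, map_pow, map_div₀, hd, h3]; ring) t ht))
    (h ((x * (φ t - φ (φ t)) + φ x * (φ (φ t) - t) + φ (φ x) * (t - φ t)) / d)
      (by simp only [map_add, map_sub, map_mul, map_pow, map_div₀, hd, h3]; ring) _ hu) using 1
  field_simp
  simp only [d]
  ring

end field

section

variable {D : ChevalleyDatum} {C : Cert D} {F : Type*} [Field F]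

theorem stb_x (P : SPerm C) (h : P.Ok) (φ : F ≃+* F) (r : Rt D) (t : F) :
    (P.stb h φ).σ ((C.sys F).x r t) = (C.sys F).x (P.ρ r) (P.ε r * φ t) := (P.stb h φ).σ_x r t

theorem orb_nonneg {ρ : Rt D → Rt D} {d : ℕ} (hd : 0 < d) (h : ∀ r, ρ^[d] r = r)
    (h' : ∀ r : Rt D, ∀ j < d, 0 ≤ D.pairing r (ρ^[j] r : Rt D)) (r : Rt D) (j : ℕ) : 0 ≤ C.A r (ρ^[j] r) := by
  rw [← Function.IsPeriodicPt.iterate_mod_apply (h r)]
  exact h' r _ (Nat.mod_lt _ hd)

theorem max_final {k : Type*} [Field k] (R : LR (C.sys F) k) {W : Set (List (ℕ × F))} (hW : R.K = gen (C.sys F) W)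
    (he : ∀ r, R.φ (R.T.e r) = R.T.e r) {i : Nd D} (hi : R.T.π i ≠ i) {t : F} (ht : R.φ t ≠ t)
    (h : ∀ H, (∀ g ∈ R.K, fieldHom C R.φ g = g → g ∈ H) → H ≤ R.K → (∀ g ∈ H, fieldHom C R.φ g = g) ∨ R.K ≤ H)
    {M : Subgroup (GL D.Idx F)} (hM : ∀ g : GL D.Idx F, g ∈ M ↔ g ∈ D.genSubgroup F W ∧
      ∀ i j, R.φ ((g : Matrix D.Idx D.Idx F) i j) = (g : Matrix D.Idx D.Idx F) i j) :
    M ≠ D.genSubgroup F W ∧ ∀ H, M ≤ H → H ≤ D.genSubgroup F W → H = M ∨ H = D.genSubgroup F W := by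
  rw [genSubgroup_eq C, ← hW] at hM ⊢
  have h1 : ∀ g : D.group F, g.1 ∈ M ↔ g ∈ R.K ∧ fieldHom C R.φ g = g := fun g =>
    (hM g).trans (and_congr (Subgroup.mem_map_iff_mem Subtype.val_injective) (fieldHom_eq_iff C R.φ g).symm)
  refine ⟨fun e => ht ?_, fun H h2 h3 => ?_⟩
  · have h2 := ((h1 (R.nm (C.sp i) t)).1 (e ▸ ⟨_, (R.nm _ t).2, rfl⟩)).2
    have h3 := fun t => R.cd_nm (ht_inv R) (Sys.ht_pos (C.pos_sp i)) (mt R.fix_sp.1 hi) t
    rw [R.nm_coe, pn_map R _ (fld_comm (isFld_fieldHom C _) he), fieldHom_x, ← R.nm_coe, ← R.nm_coe] at h2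
    exact (h3 _).symm.trans (h2 ▸ h3 t)
  · rcases h (H.subgroupOf _) (fun g a b => h2 ((h1 g).2 ⟨a, b⟩))
      (fun g hg => (Subgroup.mem_map_iff_mem Subtype.val_injective).1 (h3 hg)) with h4 | h4
    · refine Or.inl (le_antisymm (fun g hg => ?_) h2)
      obtain ⟨g, h5, rfl⟩ := h3 hg
      exact (h1 g).2 ⟨h5, h4 g hg⟩
    · exact Or.inr (le_antisymm h3 (by rintro _ ⟨g, hg, rfl⟩; exact h4 hg))

end

variable {F : Type*} [Field F] [Finite F] {φ : F ≃+* F} {q : ℕ} (hφ : ∀ t, φ t = t ^ q)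

/-- relative data of type `²E₆` -/
noncomputable def lrE6 (hF : Nat.card F = q ^ 2) :
    LR (certE6.sys F) ((φ : F →+* F).eqLocusField (RingHom.id F)) where
  T := stbE6 φ
  K := gen (certE6.sys F) (e6Words F q)
  good := goodE6 hφ (frob2 hφ hF)
  mem _ := fixE6 (goodE6 hφ (frob2 hφ hF)) (frob2 hφ hF)
  inj := certE6.sys_φ_inj F
  len r s := by
    have : ∀ r : Rt chevE6, lenE6 r = lenE6 0 := by decide +kernel
    rw [certE6_len, certE6_len, this, this]
  rc_ρ := by change ∀ r i, rcE6 (symE6.ρ r) (symE6.ν i) = rcE6 r i; decide +kernel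
  ι := Subfield.subtype _
  φ := φ
  f_eq _ := rfl
  e_eq r h := Units.ext (by
    have : ∀ r, symE6.ρ r = r → symE6.ε r = 1 := by decide +kernel
    exact (congrArg Int.cast (this r h)).trans Int.cast_one)
  range t := ⟨fun h => ⟨⟨t, h⟩, rfl⟩, fun ⟨s, e⟩ => e ▸ s.2⟩
  d := 2
  per g := DFunLike.congr_fun ((certE6.sys F).hom_ext (f := (stbE6 φ).σ.toMonoidHom.comp (stbE6 φ).σ.toMonoidHom)
    (g := MonoidHom.id _) fun r t => by
      have : ∀ r, symE6.ρ (symE6.ρ r) = r ∧ symE6.ε (symE6.ρ r) * symE6.ε r = 1 := by decide +kernel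
      simp only [stbE6, MonoidHom.comp_apply, MulEquiv.coe_toMonoidHom, stb_x, map_mul, map_intCast, frob2 hφ hF,
        MonoidHom.id_apply, ← mul_assoc, ← Int.cast_mul, this, Int.cast_one, one_mul]) g
  tr s := by
    obtain ⟨t, ht⟩ := exists_ne_frob (d := 0) hφ hF
    have h0 := sub_ne_zero.2 ht
    have h0' := sub_ne_zero.2 ht.symm
    have h1 : φ s = s := s.2
    refine ⟨s * (t / (t - φ t)), ?_⟩
    simp only [Finset.sum_range_succ, Finset.range_zero, Finset.sum_empty, Function.iterate_succ_apply',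
      Function.iterate_zero_apply, map_mul, map_div₀, map_sub, frob2 hφ hF, h1, Subfield.coe_subtype]
    field_simp; ring
  orb := orb_nonneg (ρ := symE6.ρ) two_pos (by decide +kernel) (by decide +kernel)
  free r := ((by decide +kernel : ∀ r, symE6.ρ r = r ∨ ∀ j < 2, 0 < j → symE6.ρ^[j] r ≠ r) r).imp_right
    fun h j a b => h j b a
  card w hw h := by
    rw [cardUw_E6 (goodE6 hφ (frob2 hφ hF)) hφ hF hw h]
    exact congrArg (· ^ _) (card_fixed' hφ hF).symm

/-- relative data of type `³D₄` -/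
noncomputable def lrD4 (hF : Nat.card F = q ^ 3) :
    LR (certD4.sys F) ((φ : F →+* F).eqLocusField (RingHom.id F)) where
  T := stbD4 φ
  K := gen (certD4.sys F) (d4Words F q)
  good := goodD4 hφ (frob3 hφ hF)
  mem _ := fixD4 (goodD4 hφ (frob3 hφ hF)) (frob3 hφ hF)
  inj := certD4.sys_φ_inj F
  len r s := by
    have : ∀ r : Rt chevD4, lenD4 r = lenD4 0 := by decide +kernel
    rw [certD4_len, certD4_len, this, this]
  rc_ρ := by change ∀ r i, rcD4 (triD4.ρ r) (triD4.ν i) = rcD4 r i; decide +kernel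
  ι := Subfield.subtype _
  φ := φ
  f_eq _ := rfl
  e_eq r h := Units.ext (by
    have : ∀ r, triD4.ρ r = r → triD4.ε r = 1 := by decide +kernel
    exact (congrArg Int.cast (this r h)).trans Int.cast_one)
  range t := ⟨fun h => ⟨⟨t, h⟩, rfl⟩, fun ⟨s, e⟩ => e ▸ s.2⟩
  d := 3
  per g := DFunLike.congr_fun ((certD4.sys F).hom_ext
    (f := (stbD4 φ).σ.toMonoidHom.comp ((stbD4 φ).σ.toMonoidHom.comp (stbD4 φ).σ.toMonoidHom)) (g := MonoidHom.id _) fun r t => by
      have : ∀ r, triD4.ρ (triD4.ρ (triD4.ρ r)) = r ∧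
        triD4.ε (triD4.ρ (triD4.ρ r)) * triD4.ε (triD4.ρ r) * triD4.ε r = 1 := by decide +kernel
      simp only [stbD4, MonoidHom.comp_apply, MulEquiv.coe_toMonoidHom, stb_x, map_mul, map_intCast, frob3 hφ hF,
        MonoidHom.id_apply, ← mul_assoc, ← Int.cast_mul, this, Int.cast_one, one_mul]) g
  tr s := by
    obtain ⟨t, ht⟩ := exists_ne_frob (d := 1) hφ hF
    obtain ⟨a1, a2, a3⟩ := ne_three (frob3 hφ hF) ht
    have h1 : φ s = s := s.2
    refine ⟨-s * (t ^ 2 / ((t - φ t) * (φ (φ t) - t))), ?_⟩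
    simp only [Finset.sum_range_succ, Finset.range_zero, Finset.sum_empty, Function.iterate_succ_apply',
      Function.iterate_zero_apply, map_mul, map_div₀, map_sub, map_neg, map_pow, frob3 hφ hF, h1, Subfield.coe_subtype]
    field_simp; ring
  orb := orb_nonneg (ρ := triD4.ρ) three_pos (by decide +kernel) (by decide +kernel)
  free r := ((by decide +kernel : ∀ r, triD4.ρ r = r ∨ ∀ j < 3, 0 < j → triD4.ρ^[j] r ≠ r) r).imp_right
    fun h j a b => h j b a
  card w hw h := by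
    rw [cardUw_D4 (goodD4 hφ (frob3 hφ hF)) hφ hF hw h]
    exact congrArg (· ^ _) (card_fixed' hφ hF).symm

/-- roots of E6 by index -/
def rE (k : ℕ) (h : k < 72 := by decide) : Rt chevE6 := ⟨k, h⟩
/-- nodes of E6 by index -/
def nE (k : ℕ) (h : k < 6 := by decide) : Nd chevE6 := ⟨k, h⟩

theorem btwE6 (hF : Nat.card F = q ^ 2) {H : Subgroup (chevE6.group F)}
    (h1 : ∀ g ∈ gen (certE6.sys F) (e6Words F q), fieldHom certE6 φ g = g → g ∈ H)
    (h2 : H ≤ gen (certE6.sys F) (e6Words F q)) : Btw (lrE6 hφ hF) (fieldHom certE6 φ) H where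
  fld := isFld_fieldHom _ _
  e r := map_intCast φ _
  le g e := h1 g ((lrE6 hφ hF).mem g e)
  fix g hg := (lrE6 hφ hF).good.fix g (h2 hg)
  simple i r a b := by
    have h : r ∈ {r | certE6.Pos r ∧ certE6.InJ ((stbE6 φ).orb i) r} := ⟨a, b⟩
    rw [orbE6, Set.mem_ofPred_eq] at h
    clear * - h; revert i r; decide +kernel
  proper := by change ∀ i, ∃ j, ¬ symE6.nodes.SameCycle i j; decide +kernel

theorem nmE6 (hF : Nat.card F = q ^ 2) (r : Rt chevE6) (t : F) : ((lrE6 hφ hF).nm r t : chevE6.group F) =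
    (certE6.sys F).x r t * (certE6.sys F).x (symE6.ρ r) (symE6.ε r * φ t) := by
  rw [← stb_x _ symE6_ok, LR.nm_coe, show (lrE6 hφ hF).d = 0 + 1 + 1 from rfl, LR.pn_succ', LR.pn_succ']
  simp [LR.pn]; rfl

section E6

variable {hφ} {hF : Nat.card F = q ^ 2} {H : Subgroup (chevE6.group F)} (h : Btw (lrE6 hφ hF) (fieldHom certE6 φ) H)
include h

theorem mulE6 (c : F) (hc : φ c = c) (t : F) : t ∈ AT (lrE6 hφ hF) H (rE 66) → c * t ∈ AT (lrE6 hφ hF) H (rE 66) :=
  h.AT_mul (β := rE 65) (by change symE6.ρ _ = _; decide +kernel) (by rw [Cert.A_def]; decide +kernel) hc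

theorem topE6 {y a : chevE6.group F} (hy : y ∈ H) (hu : y ∈ (certE6.sys F).Up) (ha : a ∈ H)
    (ha' : a ∈ (certE6.sys F).U {r | 7 ≤ Cert.lev ∅ (certE6.rc r)}) :
    (certE6.sys F).cd (rE 66) (a * y * a⁻¹ * y⁻¹) ∈ AT (lrE6 hφ hF) H (rE 66) :=
  h.AT_top ((certE6.pos_iff_val _).2 (by decide +kernel)) (by change symE6.ρ _ ≠ _; decide +kernel) (fun s hs => by
    refine Or.imp_right (fun h : (∃ j < 2, symE6.ρ^[j] (rE 66) = s) ∧ _ => ⟨h.1.imp fun _ h => h.2, h.2⟩) ?_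
    change symE6.ρ s = s ∨ _
    simp only [Cert.ht, certE6_rc] at hs ⊢
    clear * - hs; revert s; decide +kernel) (mul_mem (mul_mem (mul_mem ha hy) (inv_mem ha)) (inv_mem hy)) (by
      rw [show certE6.ht (rE 66) = 1 + 7 by simp only [Cert.ht, certE6_rc]; decide +kernel]
      exact TwM.comm_ge _ _ (by decide) one_pos ha' (Sys.Up_le_ht _ hu))

theorem pushE6 (k1 : ∀ t ∈ AT (lrE6 hφ hF) H (rE 66), φ t = t) (i : Nd chevE6) {y : chevE6.group F} (hy : y ∈ H)
    (hu : y ∈ (certE6.sys F).Up) : φ ((certE6.sys F).cd (certE6.sp i) y) = (certE6.sys F).cd (certE6.sp i) y := by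
  have ht : ∀ r, Cert.lev ∅ (certE6.rc r) = ∑ i : Nd chevE6, rcE6 r i := certE6.lev_empty
  have k2 : ∀ i, (certE6.sys F).cd (certE6.sp (symE6.ν i)) y = φ ((certE6.sys F).cd (certE6.sp i) y) :=
    Btw.cd_sp (R := lrE6 hφ hF) hu (h.fix y hy) eE6
  have k5 := fun r t hr => (certE6.sys F).x_mem_U (T := {r | 7 ≤ Cert.lev ∅ (certE6.rc r)}) (r := r) hr t
  have k3 := k1 _ (topE6 h hy hu (h.x_mem (r := rE 65) (by change symE6.ρ _ = _; decide +kernel) (map_one φ))
    (k5 _ _ (by rw [Set.mem_ofPred_eq, ht]; decide +kernel)))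
  have k4 := h.mem_AT (rE 55) (map_one φ)
  rw [mem_AT_iff, nmE6, show symE6.ρ (rE 55) = rE 67 by decide +kernel] at k4
  have k6 := k1 _ (topE6 h hy hu k4 (mul_mem (k5 _ _ (by rw [Set.mem_ofPred_eq, ht]; decide +kernel))
    (k5 _ _ (by rw [Set.mem_ofPred_eq, ht]; decide +kernel))))
  have hu' := Sys.Up_le_ht _ hu
  rw [Sys.cd_comm_of_add _ (Cert.lev ∅) one_pos (β := certE6.sp (nE 4)) (by rw [ht]; decide +kernel) (Sys.ht_sp _)
    (funext (by simp only [Pi.add_apply, certE6_rc]; decide +kernel)) _ hu',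
    show certE6.N (rE 65) (certE6.sp (nE 4)) = -1 by rw [Cert.N_def]; decide +kernel] at k3
  rw [Sys.cd_comm_mul _ (Cert.lev ∅) one_pos (m := 7) (by decide) (by rw [ht]; decide +kernel)
    (k5 _ _ (by rw [Set.mem_ofPred_eq, ht]; decide +kernel)) (k5 _ _ (by rw [Set.mem_ofPred_eq, ht]; decide +kernel)) hu',
    Sys.cd_comm_of_add _ (Cert.lev ∅) one_pos (β := certE6.sp (nE 0)) (by rw [ht]; decide +kernel) (Sys.ht_sp _)
    (funext (by simp only [Pi.add_apply, certE6_rc]; decide +kernel)) _ hu',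
    Sys.cd_comm_of_not_add _ (Cert.lev ∅) one_pos (by rw [ht]; decide +kernel) (by rw [ht, ht]; decide +kernel)
    (by simp only [Ne, funext_iff, Pi.add_apply, certE6_rc]; decide +kernel) _ hu',
    show certE6.N (rE 55) (certE6.sp (nE 0)) = 1 by rw [Cert.N_def]; decide +kernel] at k6
  simp only [Int.cast_neg, Int.cast_one, one_mul, mul_one, neg_mul, map_neg, neg_inj, add_zero] at k3 k6
  have k7 : ∀ i j, symE6.ν i = j → φ ((certE6.sys F).cd (certE6.sp i) y) = (certE6.sys F).cd (certE6.sp i) y →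
      φ ((certE6.sys F).cd (certE6.sp j) y) = (certE6.sys F).cd (certE6.sp j) y := fun i j e h => by
    rw [← e, k2, h, h]
  have k8 : ∀ i, symE6.ν i = i → φ ((certE6.sys F).cd (certE6.sp i) y) = (certE6.sys F).cd (certE6.sp i) y :=
    fun i e => by rw [← k2, e]
  obtain h | h | h | h | h : symE6.ν i = i ∨ nE 0 = i ∨ nE 4 = i ∨ symE6.ν (nE 0) = i ∨ symE6.ν (nE 4) = i := by
    clear * -; revert i; decide +kernel
  exacts [k8 i h, h ▸ k6, h ▸ k3, k7 _ _ h k6, k7 _ _ h k3]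

theorem goodE6' (h6 : AT (lrE6 hφ hF) H (rE 66) = ⊤) : (stbE6 φ).Good H := by
  have h7 : ∀ w ∈ certE6.W, (stbE6 φ).cj w = w → ∀ s, w (rE 66) = s → AT (lrE6 hφ hF) H s = ⊤ := fun w a b s c =>
    top_le_iff.1 (h6 ▸ h.AT_le (β := rE 65) (by change symE6.ρ _ = _; decide +kernel)
      (by rw [Cert.A_def]; decide +kernel) a b c)
  have e : ∀ r, (stbE6 φ).cj (certE6.sr r) = certE6.sr (symE6.ρ r) := Stb.cj_sr _
  have h8 := h7 _ (certE6.sr_mem_W (rE 65)) (by rw [e, show symE6.ρ (rE 65) = rE 65 by decide +kernel])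
    (certE6.sp (nE 4)) (certE6.refl_eq (by simp only [certE6_rc]; decide +kernel))
  have h9 := h7 _ (mul_mem (certE6.sr_mem_W (rE 55)) (certE6.sr_mem_W (rE 67))) (by
    rw [Stb.cj_mul, e, e, Cert.Aut.mul_sr (certE6.W_le_Aut (certE6.sr_mem_W (rE 55))),
      certE6.sr_apply, certE6.refl_of_A_zero (by rw [Cert.A_def]; decide +kernel),
      show symE6.ρ (rE 55) = rE 67 by decide +kernel, show symE6.ρ (rE 67) = rE 55 by decide +kernel])
    (certE6.sp (nE 0)) (by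
      rw [Perm.mul_apply, certE6.sr_apply, certE6.sr_apply, certE6.refl_of_A_zero (r := rE 67)
        (by rw [Cert.A_def]; decide +kernel)]
      exact certE6.refl_eq (by simp only [certE6_rc]; decide +kernel))
  refine h.good fun i (hi : symE6.ν i ≠ i) => ?_
  obtain h | h | h | h : nE 0 = i ∨ nE 4 = i ∨ symE6.ρ (certE6.sp (nE 0)) = certE6.sp i ∨
      symE6.ρ (certE6.sp (nE 4)) = certE6.sp i := by
    clear * - hi; revert i; decide +kernel
  exacts [h ▸ h9, h ▸ h8, h ▸ AT_ρ _ _ h9, h ▸ AT_ρ _ _ h8]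

theorem maxE6 : (∀ g ∈ H, fieldHom certE6 φ g = g) ∨ gen (certE6.sys F) (e6Words F q) ≤ H := by
  by_cases h1 : AT (lrE6 hφ hF) H (rE 66) = ⊤
  · refine Or.inr ((gen_le _).2 fun w hw => ?_)
    have := (lrE6 hφ hF).good.fix _ (wd_mem_gen _ hw)
    refine (wd_pos_or_neg ?_).elim (fun h2 => (goodE6' h h1).up _ h2 this) fun h2 => (goodE6' h h1).um _ h2 this
    rcases hw with ⟨t, -, r, hr, rfl⟩ | ⟨t, r, hr, rfl⟩ <;> simp only [List.map] <;> clear * - hr <;> revert r <;>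
      decide +kernel
  · refine Or.inl fun g => h.fix_of_TM (fun i _ ⟨y, hy, hu, e⟩ => e ▸ pushE6 h (fun t ht => by_contra fun h0 =>
      h1 (top_of_two (frob2 hφ hF) (mulE6 h) (h.mem_AT _ (map_one φ)) ht h0)) i hy hu)
      (by change symE6.ρ _ = _; decide +kernel) (j := nE 1) (by change symE6.ν _ = _; decide +kernel)
      (by rw [Cert.A_sp]; decide +kernel)

end E6

/-- roots of D4 by index -/
def rtD (k : ℕ) (h : k < 24 := by decide) : Rt chevD4 := ⟨k, h⟩
/-- nodes of D4 by index -/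
def ndD (k : ℕ) (h : k < 4 := by decide) : Nd chevD4 := ⟨k, h⟩

theorem btwD4 (hF : Nat.card F = q ^ 3) {H : Subgroup (chevD4.group F)}
    (h1 : ∀ g ∈ gen (certD4.sys F) (d4Words F q), fieldHom certD4 φ g = g → g ∈ H)
    (h2 : H ≤ gen (certD4.sys F) (d4Words F q)) : Btw (lrD4 hφ hF) (fieldHom certD4 φ) H where
  fld := isFld_fieldHom _ _
  e r := map_intCast φ _
  le g e := h1 g ((lrD4 hφ hF).mem g e)
  fix g hg := (lrD4 hφ hF).good.fix g (h2 hg)
  simple i r a b := by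
    have h : r ∈ {r | certD4.Pos r ∧ certD4.InJ ((stbD4 φ).orb i) r} := ⟨a, b⟩
    rw [orbD4, Set.mem_ofPred_eq] at h
    clear * - h; revert i r; decide +kernel
  proper := by change ∀ i, ∃ j, ¬ triD4.nodes.SameCycle i j; decide +kernel

theorem nmD4 (hF : Nat.card F = q ^ 3) (r : Rt chevD4) (t : F) : ((lrD4 hφ hF).nm r t : chevD4.group F) =
    (certD4.sys F).x r t * (certD4.sys F).x (triD4.ρ r) (triD4.ε r * φ t) *
      (certD4.sys F).x (triD4.ρ (triD4.ρ r)) (triD4.ε (triD4.ρ r) * φ (triD4.ε r * φ t)) := by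
  rw [← stb_x _ triD4_ok φ (triD4.ρ r), ← stb_x _ triD4_ok φ r, LR.nm_coe, show (lrD4 hφ hF).d = 0 + 1 + 1 + 1 from rfl, LR.pn_succ',
    LR.pn_succ', LR.pn_succ']
  simp [LR.pn, mul_assoc]; rfl

omit [Finite F] in
theorem conjD4 {G : Type*} [Group G] (S : Sys certD4 F G) (a b c : F) :
    (xi S 12 a * xi S 18 b * xi S 13 c)⁻¹ * xi S 14 1 * (xi S 12 a * xi S 18 b * xi S 13 c) =
      wd S [(14, 1), (16, -c), (19, b), (21, -(b * c)), (15, -a), (17, a * c), (20, -(a * b)), (22, a * b * c)] := by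
  have sw : ∀ r s v (n : ℤ), (r < chevD4.nroots ∧ s < chevD4.nroots ∧ s ≠ r ∧ s + r + 1 ≠ chevD4.nroots ∧
      chevD4.commTerms r s = [(v, n, 1, 1)]) → ∀ t u g, xi S s u * (xi S r t * g) =
        xi S r t * (xi S s u * (xi S v (-(n * t * u)) * g)) := fun r s v n h t u g => by
    rw [← mul_assoc, xi_swap S h]; simp [wd_cons, wd_nil, mul_assoc]
  rw [mul_assoc, inv_mul_eq_iff_eq_mul, ← mul_one (xi S 13 c)]
  simp only [mul_assoc]
  rw [sw 12 14 15 1 (by decide +kernel), sw 18 15 20 (-1) (by decide +kernel), sw 18 14 19 (-1) (by decide +kernel),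
    sw 13 20 22 1 (by decide +kernel), sw 13 15 17 1 (by decide +kernel), sw 13 19 21 1 (by decide +kernel),
    sw 13 14 16 1 (by decide +kernel)]
  simp only [wd_cons, wd_nil, one_mul, mul_right_inj]
  refine xi_congr (by ring) (xi_congr (by ring) (xi_congr (by ring) (xi_congr (by ring) (xi_congr (by ring)
    (xi_congr (by ring) (xi_congr (by ring) rfl))))))

section D4

variable {hφ} {hF : Nat.card F = q ^ 3} {H : Subgroup (chevD4.group F)} (h : Btw (lrD4 hφ hF) (fieldHom certD4 φ) H)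
include h

theorem mulD4 (c : F) (hc : φ c = c) (t : F) : t ∈ AT (lrD4 hφ hF) H (rtD 21) → c * t ∈ AT (lrD4 hφ hF) H (rtD 21) :=
  h.AT_mul (β := rtD 23) (by change triD4.ρ _ = _; decide +kernel) (by rw [Cert.A_def]; decide +kernel) hc

theorem topD4 {y : chevD4.group F} (hy : y ∈ H) (hu : y ∈ (certD4.sys F).U {r | 3 ≤ Cert.lev ∅ (certD4.rc r)}) :
    (certD4.sys F).cd (rtD 21) y ∈ AT (lrD4 hφ hF) H (rtD 21) :=
  h.AT_top ((certD4.pos_iff_val _).2 (by decide +kernel)) (by change triD4.ρ _ ≠ _; decide +kernel) (fun s hs => by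
    refine Or.imp_right (fun h : (∃ j < 3, triD4.ρ^[j] (rtD 21) = s) ∧ _ => ⟨h.1.imp fun _ h => h.2, h.2⟩) ?_
    change triD4.ρ s = s ∨ _
    simp only [Cert.ht, certD4_rc] at hs ⊢
    clear * - hs; revert s; decide +kernel) hy (by
      rwa [show certD4.ht (rtD 21) = 3 by simp only [Cert.ht, certD4_rc]; decide +kernel])

theorem pushD4 (k1 : ∀ t ∈ AT (lrD4 hφ hF) H (rtD 21), φ t = t) (i : Nd chevD4) {y : chevD4.group F} (hy : y ∈ H)
    (hu : y ∈ (certD4.sys F).Up) : φ ((certD4.sys F).cd (certD4.sp i) y) = (certD4.sys F).cd (certD4.sp i) y := by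
  have ht : ∀ r, Cert.lev ∅ (certD4.rc r) = ∑ i : Nd chevD4, rcD4 r i := certD4.lev_empty
  have k2 : ∀ i, (certD4.sys F).cd (certD4.sp (triD4.ν i)) y = φ ((certD4.sys F).cd (certD4.sp i) y) :=
    Btw.cd_sp (R := lrD4 hφ hF) hu (h.fix y hy) eD4
  have k5 : ∀ r : Rt chevD4, (r : ℕ) ∈ [15, 16, 19] → ∀ t,
      (certD4.sys F).x r t ∈ (certD4.sys F).U {r | 2 ≤ Cert.lev ∅ (certD4.rc r)} := fun r hr t =>
    (certD4.sys F).x_mem_U (by rw [Set.mem_ofPred_eq, ht]; clear * - hr; revert r; decide +kernel) t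
  have k4 := h.mem_AT (rtD 19) (map_one φ)
  rw [mem_AT_iff, nmD4, show triD4.ρ (rtD 19) = rtD 16 by decide +kernel, show triD4.ρ (rtD 16) = rtD 15 by
    decide +kernel, show triD4.ε (rtD 19) = -1 by decide +kernel] at k4
  have hu' := Sys.Up_le_ht _ hu
  have k0 : ∀ a ∈ H, a ∈ (certD4.sys F).U {r | 2 ≤ Cert.lev ∅ (certD4.rc r)} →
      φ ((certD4.sys F).cd (rtD 21) (a * y * a⁻¹ * y⁻¹)) = (certD4.sys F).cd (rtD 21) (a * y * a⁻¹ * y⁻¹) :=
    fun a ha ha' => k1 _ (topD4 h (mul_mem (mul_mem (mul_mem ha hy) (inv_mem ha)) (inv_mem hy))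
      (by simpa [commutatorElement_def] using TwM.comm_ge _ _ zero_le_two one_pos ha' hu'))
  have k6 := k0 _ k4 (mul_mem (mul_mem (k5 _ (by decide) _) (k5 _ (by decide) _)) (k5 _ (by decide) _))
  rw [Sys.cd_comm_mul _ (Cert.lev ∅) one_pos two_pos (by rw [ht]; decide +kernel)
    (mul_mem (k5 _ (by decide) _) (k5 _ (by decide) _)) (k5 _ (by decide) _) hu',
    Sys.cd_comm_mul _ (Cert.lev ∅) one_pos two_pos (by rw [ht]; decide +kernel) (k5 _ (by decide) _)
    (k5 _ (by decide) _) hu',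
    Sys.cd_comm_of_add _ (Cert.lev ∅) one_pos (β := certD4.sp (ndD 2)) (by rw [ht]; decide +kernel) (Sys.ht_sp _)
    (funext (by simp only [Pi.add_apply, certD4_rc]; decide +kernel)) _ hu',
    Sys.cd_comm_of_add _ (Cert.lev ∅) one_pos (β := certD4.sp (ndD 0)) (by rw [ht]; decide +kernel) (Sys.ht_sp _)
    (funext (by simp only [Pi.add_apply, certD4_rc]; decide +kernel)) _ hu',
    Sys.cd_comm_of_not_add _ (Cert.lev ∅) one_pos (by rw [ht]; decide +kernel) (by rw [ht, ht]; decide +kernel)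
    (by simp only [Ne, funext_iff, Pi.add_apply, certD4_rc]; decide +kernel) _ hu',
    show certD4.N (rtD 19) (certD4.sp (ndD 2)) = -1 by rw [Cert.N_def]; decide +kernel,
    show certD4.N (rtD 16) (certD4.sp (ndD 0)) = 1 by rw [Cert.N_def]; decide +kernel,
    show ndD 2 = triD4.ν (ndD 0) by decide +kernel, k2] at k6
  simp only [Int.cast_neg, Int.cast_one, one_mul, mul_one, neg_mul, map_neg, map_add, map_one, add_zero,
    add_left_inj, neg_inj] at k6
  have k3 : φ ((certD4.sys F).cd (certD4.sp (ndD 0)) y) = (certD4.sys F).cd (certD4.sp (ndD 0)) y := by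
    have := congrArg φ (show φ (φ ((certD4.sys F).cd (certD4.sp (ndD 0)) y)) =
      (certD4.sys F).cd (certD4.sp (ndD 0)) y by linear_combination -k6)
    rw [frob3 hφ hF] at this
    exact this.symm
  have k7 : ∀ i j, triD4.ν i = j → φ ((certD4.sys F).cd (certD4.sp i) y) = (certD4.sys F).cd (certD4.sp i) y →
      φ ((certD4.sys F).cd (certD4.sp j) y) = (certD4.sys F).cd (certD4.sp j) y := fun i j e h => by
    rw [← e, k2, h, h]
  have k8 : ∀ i, triD4.ν i = i → φ ((certD4.sys F).cd (certD4.sp i) y) = (certD4.sys F).cd (certD4.sp i) y :=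
    fun i e => by rw [← k2, e]
  obtain h | h | h | h : triD4.ν i = i ∨ ndD 0 = i ∨ triD4.ν (ndD 0) = i ∨ triD4.ν (triD4.ν (ndD 0)) = i := by
    clear * -; revert i; decide +kernel
  exacts [k8 i h, h ▸ k3, k7 _ _ h k3, k7 _ _ h (k7 _ _ rfl k3)]

theorem leD4 {γ s : Rt chevD4} (h1 : triD4.ρ γ = γ)
    (h2 : ∀ i, certD4.rc s.rev i = certD4.rc (rtD 21) i - chevD4.pairing γ (rtD 21) * certD4.rc γ i) :
    AT (lrD4 hφ hF) H (rtD 21) ≤ AT (lrD4 hφ hF) H s :=
  h.AT_le (β := rtD 23) (by change triD4.ρ _ = _; decide +kernel) (by rw [Cert.A_def]; decide +kernel)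
    (mul_mem (certD4.w0_mem_W Set.univ) (certD4.sr_mem_W γ)) (by
      rw [Stb.cj_mul, (Stb.stable_univ _).cj_w0, Stb.cj_sr]; exact congrArg (_ * certD4.sr ·) h1)
    (by rw [Perm.mul_apply, certD4.sr_apply, certD4.refl_eq h2, w0D4, Fin.rev_rev])

theorem normD4 {t : F} (ht : t ∈ AT (lrD4 hφ hF) H (rtD 21)) : φ t * φ (φ t) ∈ AT (lrD4 hφ hF) H (rtD 21) := by
  have k1 := leD4 h (γ := rtD 22) (s := rtD 12) (by decide +kernel) (by simp only [certD4_rc]; decide +kernel) ht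
  have k2 := leD4 h (γ := rtD 23) (s := rtD 15) (by decide +kernel) (by simp only [certD4_rc]; decide +kernel) ht
  have k3 : ∀ c, φ c = c → (certD4.sys F).x (rtD 14) c ∈ H := fun c =>
    h.x_mem (by change triD4.ρ _ = _; decide +kernel)
  rw [mem_AT_iff, nmD4, show triD4.ρ (rtD 12) = rtD 18 by decide +kernel, show triD4.ρ (rtD 18) = rtD 13 by
    decide +kernel, show triD4.ε (rtD 12) = 1 by decide +kernel, show triD4.ε (rtD 18) = 1 by decide +kernel,
    Int.cast_one, one_mul, one_mul] at k1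
  have k4 := mul_mem (mul_mem (inv_mem k1) (k3 1 (map_one φ))) k1
  rw [← xi_val, ← xi_val, ← xi_val, ← xi_val] at k4
  replace k4 := (conjD4 _ t _ _).subst (motive := (· ∈ H)) k4
  let f : (Nd chevD4 → ℤ) →ₗ[ℤ] ℤ := LinearMap.proj (ndD 1)
  have hf : ∀ r, f (certD4.rc r) = rcD4 r (ndD 1) := fun r => rfl
  have hf' : ∀ r, f (certD4.rc (triD4.ρ r)) = f (certD4.rc r) := by simp only [hf]; decide +kernel
  have k5 := fun r hr => cd_wd (certD4.sys F) (f := f) (k := 1) zero_le_one (fun _ h => h) (r := r) hr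
    (w := [(14, 1), (16, -φ (φ t)), (19, φ t), (21, -(φ t * φ (φ t))), (15, -t), (17, t * φ (φ t)), (20, -(t * φ t)),
      (22, t * φ t * φ (φ t))]) (by
        simp only [List.forall_mem_cons, hf]
        refine ⟨?_, ?_, ?_, ?_, ?_, ?_, ?_, ?_, by simp⟩ <;> exact fun _ => by
          show (1 : ℤ) ≤ rcD4 _ _
          dsimp only; decide +kernel)
  have k6 := (certD4.sys F).x_mem_U (T := {r | 1 ≤ f (certD4.rc r)}) (r := rtD 14)
    (by rw [Set.mem_ofPred_eq, hf]; decide +kernel) (-1)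
  have k7 := (lrD4 hφ hF).nm_mem (A := {r | 1 ≤ f (certD4.rc r) ∧ certD4.ht r = 2}) (fun r hr =>
    And.intro ((hf' r).ge.trans' hr.1) (((lrD4 hφ hF).ht_ρ r).trans hr.2)) (r := rtD 15)
    (by simp only [Set.mem_ofPred_eq, hf, Cert.ht, certD4_rc]; decide +kernel) t
  have k8 := mul_mem (mul_mem (k5 (rtD 14) (by rw [hf]; decide +kernel)).1 k6)
    ((certD4.sys F).U_mono (fun _ h => h.1) k7)
  have k9 := mul_mem (mul_mem k4 (k3 (-1) (by simp))) k2
  have k10 := fun r hr => ((certD4.sys F).cd_mul (f := f) (k := 1) zero_le_one (fun _ h => h) (r := r) hr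
    (mul_mem (k5 r hr).1 k6) ((certD4.sys F).U_mono (fun _ h => h.1) k7)).trans (congrArg (· + _)
      (((certD4.sys F).cd_mul zero_le_one (fun _ h => h) hr (k5 r hr).1 k6).trans (congrArg (· + _) (k5 r hr).2)))
  have k11 := fun r hr hr' => (certD4.sys F).cd_eq_zero_of_notMem (f := f) (k := 1) zero_le_one (fun _ h => h.1)
    (r := r) hr hr' k7
  have k12 := topD4 h k9 (peel (f := f) (k := 1) zero_le_one (Cert.closed_ge _ zero_le_one)
    (Cert.nil_of_fun f fun _ h => h) (fun _ h => h) k8 fun s hs => by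
      obtain e | e | ⟨e, j, -, e'⟩ : 3 ≤ certD4.ht s ∨ s = rtD 14 ∨ (f (certD4.rc s) < 2 * 1 ∧
          ∃ j < 3, triD4.ρ^[j] (rtD 15) = s) := by
        simp only [Set.mem_ofPred_eq, hf, Cert.ht, certD4_rc] at hs ⊢
        clear * - hs; revert s; decide +kernel
      · exact Or.inl (by rwa [Set.mem_ofPred_eq, certD4.lev_empty])
      · have e' : f (certD4.rc (rtD 14)) < 2 * 1 := by rw [hf]; decide +kernel
        subst e
        refine Or.inr ⟨e', ?_⟩
        rw [k10 _ e', k11 _ e' (by simp only [Set.mem_ofPred_eq, hf, Cert.ht, certD4_rc]; decide +kernel),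
          Sys.cd_x_self]
        simp [rtD]
      · have e'' : f (certD4.rc (rtD 15)) < 2 * 1 := by rw [hf]; decide +kernel
        refine Or.inr ⟨e, cd_Ob (lrD4 hφ hF) hf' zero_le_one k8 (h.fix _ k9) e'' ?_ ⟨j, e'⟩⟩
        rw [k10 _ e'', (lrD4 hφ hF).cd_nm hf' (by rw [hf]; decide +kernel) (by change triD4.ρ _ ≠ _; decide +kernel),
          Sys.cd_x_ne _ (by decide)]
        simp [rtD])
  have e : f (certD4.rc (rtD 21)) < 2 * 1 := by rw [hf]; decide +kernel
  rw [k10 _ e, k11 _ e (by simp only [Set.mem_ofPred_eq, hf, Cert.ht, certD4_rc]; decide +kernel),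
    Sys.cd_x_ne _ (by decide)] at k12
  simpa [rtD] using k12

theorem maxD4 : (∀ g ∈ H, fieldHom certD4 φ g = g) ∨ gen (certD4.sys F) (d4Words F q) ≤ H := by
  by_cases h1 : AT (lrD4 hφ hF) H (rtD 21) = ⊤
  · have h2 : AT (lrD4 hφ hF) H (rtD 12) = ⊤ := top_le_iff.1 (h1 ▸ leD4 h (γ := rtD 22) (by decide +kernel)
      (by simp only [certD4_rc]; decide +kernel))
    have h3 := h.good fun i (hi : triD4.ν i ≠ i) => by
      obtain h | h | h : rtD 12 = certD4.sp i ∨ triD4.ρ (rtD 12) = certD4.sp i ∨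
          triD4.ρ (triD4.ρ (rtD 12)) = certD4.sp i := by
        clear * - hi; revert i; decide +kernel
      exacts [h ▸ h2, h ▸ AT_ρ _ _ h2, h ▸ AT_ρ _ _ (AT_ρ _ _ h2)]
    refine Or.inr ((gen_le _).2 fun w hw => ?_)
    have := (lrD4 hφ hF).good.fix _ (wd_mem_gen _ hw)
    refine (wd_pos_or_neg ?_).elim (fun h2 => h3.up _ h2 this) fun h2 => h3.um _ h2 this
    rcases hw with ⟨t, -, r, hr, rfl⟩ | ⟨t, r, hr, rfl⟩ <;> simp only [List.map] <;> clear * - hr <;> revert r <;>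
      decide +kernel
  · refine Or.inl fun g => h.fix_of_TM (fun i _ ⟨y, hy, hu, e⟩ => e ▸ pushD4 h (fun t ht => by_contra fun h0 =>
      h1 (top_of_three (frob3 hφ hF) (mulD4 h) (h.mem_AT _ (map_one φ)) ht h0 (normD4 h ht))) i hy hu)
      (by change triD4.ρ _ = _; decide +kernel) (j := ndD 1) (by change triD4.ν _ = _; decide +kernel)
      (by rw [Cert.A_sp]; decide +kernel)

end D4

end Cfsg.Agent.Chev
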